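import Groth.Agent.Lib.Purity.Unramified
import Groth.Agent.H80.PurityFlat

/-!
# Normal finite algebras over regular local rings unramified in codimension one are étale
-/

set_option autoImplicit false

universe u

open TensorProduct

namespace Groth.Agent.Lib.Purity.Etale

variable {A B : Type u} [CommRing A] [CommRing B] [Algebra A B]

/-- The differentials are killed by an element outside a prime with unramified fibre. -/
theorem exists_smul_kaehler_eq_zero [IsNoetherianRing A] [Module.Finite A B] (p : Ideal A) [p.IsPrime]
    (h : ∀ q : PrimeSpectrum B, q.asIdeal.comap (algebraMap A B) = p → Algebra.IsUnramifiedAt A q.asIdeal) :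
    ∃ s : A, s ∉ p ∧ ∀ ω : Ω[B⁄A], s • ω = 0 := by
  have : IsNoetherianRing B := IsNoetherianRing.of_finite A B
  have : Module.Finite A (Ω[B⁄A]) := Module.Finite.trans B _
  have hp : (⟨p, inferInstance⟩ : PrimeSpectrum A) ∉ Module.support A (Ω[B⁄A]) := by
    intro hp
    have := H80.DiscEtale.formallyUnramified_fibre (B := B) p h
    rw [Module.mem_support_iff_nontrivial_residueField_tensorProduct, ← not_subsingleton_iff_nontrivial] at hp
    let : Algebra B (p.ResidueField ⊗[A] B) := Algebra.TensorProduct.rightAlgebra
    exact hp (KaehlerDifferential.tensorKaehlerEquivBase A p.ResidueField B (p.ResidueField ⊗[A] B)).subsingleton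
  rw [Module.support_eq_zeroLocus, PrimeSpectrum.mem_zeroLocus, Set.not_subset] at hp
  obtain ⟨s, hs, hsp⟩ := hp
  exact ⟨s, hsp, fun ω => Module.mem_annihilator.mp hs ω⟩

/-- Zariski–Nagata purity: a normal domain, finite over a regular local ring and unramified at the
primes over the primes of height at most one, is étale. -/
theorem etale_of_unramified [IsRegularLocalRing A] [IsDomain B] [IsIntegrallyClosed B] [Module.Finite A B]
    (hinj : Function.Injective (algebraMap A B))
    (h : ∀ p : Ideal A, p.IsPrime → p.height ≤ 1 →
      ∀ q : PrimeSpectrum B, q.asIdeal.comap (algebraMap A B) = p → Algebra.IsUnramifiedAt A q.asIdeal) :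
    Algebra.Etale A B := by
  have : Module.Free A B := Unramified.free_of_unramified hinj fun p hp hpr => by
    haveI := hp
    haveI := hpr
    exact exists_smul_kaehler_eq_zero p (h p hp (Ideal.height_le_one_of_isPrincipal_of_mem_minimalPrimes p p
      (by rw [Ideal.minimalPrimes_eq_subsingleton_self]; exact Set.mem_singleton p)))
  refine H80.PurityFlat.etale_of_unramified_dim A B fun p => ?_
  rcases le_or_gt p.asIdeal.height 1 with h1 | h1
  · exact Or.inr (h _ p.2 h1)
  · left
    rw [IsLocalization.AtPrime.ringKrullDim_eq_height p.asIdeal]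
    have h2 : (2 : ℕ∞) ≤ p.asIdeal.height := one_add_one_eq_two (R := ℕ∞) ▸ Order.add_one_le_of_lt h1
    exact WithBot.coe_le_coe.mpr h2

end Groth.Agent.Lib.Purity.Etale
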