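import Groth.Agent.H80.PuncturedExt
import Groth.Agent.Lib.Purity.Etale
import Mathlib.RingTheory.Smooth.IntegralClosure
import Mathlib.RingTheory.Smooth.Flat
import Mathlib.RingTheory.Etale.Pi
import Mathlib.RingTheory.Localization.BaseChange

/-!
# The sections of a finite étale cover of the punctured spectrum of a regular local ring
-/

set_option autoImplicit false

universe u

open TensorProduct CategoryTheory AlgebraicGeometry
open scoped nonZeroDivisors

namespace Groth.Agent.Lib.Purity.Punctured

section Integral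

variable {A : Type u} [CommRing A] [IsDomain A] [IsIntegrallyClosed A]

/-- An integral element of the generic fibre of a smooth algebra over a normal domain comes from the
algebra. -/
theorem exists_of_isIntegral {K : Type u} [Field K] [Algebra A K] [IsFractionRing A K]
    (B : Type u) [CommRing B] [Algebra A B] [Algebra.Smooth A B] (z : K ⊗[A] B) (hz : IsIntegral A z) :
    ∃ b : B, z = (1 : K) ⊗ₜ b := by
  let e := Algebra.TensorProduct.comm A K B
  have hz' : IsIntegral B (e z) := (hz.map e.toAlgHom).tower_top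
  obtain ⟨w, hw⟩ :=
    (TensorProduct.toIntegralClosure_bijective_of_smooth (R := A) (S := B) (B := K)).2 ⟨e z, hz'⟩
  have hw' : Algebra.TensorProduct.map (AlgHom.id B B) (integralClosure A K).val w = e z :=
    congrArg Subtype.val hw
  suffices ∃ b : B, e z = b ⊗ₜ (1 : K) by
    obtain ⟨b, hb⟩ := this
    exact ⟨b, e.injective (hb.trans (Algebra.TensorProduct.comm_tmul A 1 b).symm)⟩
  rw [← hw']
  clear hw hw' hz' hz
  induction w with
  | zero => exact ⟨0, by simp⟩
  | add a b iha ihb =>
    obtain ⟨x, hx⟩ := iha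
    obtain ⟨y, hy⟩ := ihb
    exact ⟨x + y, by rw [map_add, hx, hy, TensorProduct.add_tmul]⟩
  | tmul x y =>
    obtain ⟨r, hr⟩ := IsIntegrallyClosed.isIntegral_iff.mp y.2
    refine ⟨r • x, ?_⟩
    change x ⊗ₜ[A] (y : K) = (r • x) ⊗ₜ[A] (1 : K)
    rw [← hr, Algebra.algebraMap_eq_smul_one, TensorProduct.smul_tmul]

/-- Clearing the denominators of an integral element of the generic fibre. -/
theorem exists_pow_smul_eq (K : Type u) [Field K] [Algebra A K] [IsFractionRing A K]
    (B : Type u) [CommRing B] [Algebra A B] (f : A) (hf : f ≠ 0)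
    [Algebra.Smooth (Localization.Away f) (Localization.Away f ⊗[A] B)] (z : K ⊗[A] B)
    (hz : IsIntegral A z) : ∃ (n : ℕ) (b : B), f ^ n • z = (1 : K) ⊗ₜ b := by
  have hle : Submonoid.powers f ≤ A⁰ := Submonoid.powers_le.mpr (mem_nonZeroDivisors_of_ne_zero hf)
  let S := Localization.Away f
  let ι : S →ₐ[A] K := IsLocalization.liftAlgHom (f := Algebra.ofId A K) (fun y =>
    IsLocalization.map_units K ⟨y.1, hle y.2⟩)
  let : Algebra S K := ι.toRingHom.toAlgebra
  have : IsScalarTower A S K := .of_algHom ι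
  have : IsFractionRing S K :=
    IsFractionRing.isFractionRing_of_isDomain_of_isLocalization (Submonoid.powers f) S K
  have : IsDomain S := IsLocalization.isDomain_localization hle
  have : IsIntegrallyClosed S :=
    isIntegrallyClosed_of_isLocalization S (Submonoid.powers f) hle
  let e := Algebra.TensorProduct.cancelBaseChange A S K K B
  have hz' : IsIntegral S (e.symm z) :=
    (hz.map (e.symm.toAlgHom.restrictScalars A)).tower_top
  obtain ⟨w, hw⟩ := exists_of_isIntegral (S ⊗[A] B) (e.symm z) hz'
  obtain ⟨⟨b, ⟨_, n, rfl⟩⟩, hb⟩ := IsLocalizedModule.surj (Submonoid.powers f) (TensorProduct.mk A S B 1) w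
  refine ⟨n, b, ?_⟩
  have h1 : z = e ((1 : K) ⊗ₜ w) := by rw [← hw, AlgEquiv.apply_symm_apply]
  rw [h1]
  refine (e.toLinearMap.map_smul_of_tower _ _).symm.trans ?_
  change e (f ^ n • ((1 : K) ⊗ₜ[S] w)) = _
  rw [← TensorProduct.tmul_smul]
  change e ((1 : K) ⊗ₜ[S] ((⟨f ^ n, n, rfl⟩ : Submonoid.powers f) • w)) = _
  rw [hb]
  simp [e]

end Integral

/-- A quotient of an algebra etale away from `f` is unramified away from `f`. -/
theorem isUnramifiedAt_of_surjective {A : Type u} [CommRing A] (B C : Type u) [CommRing B] [Algebra A B]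
    [CommRing C] [Algebra A C] [Algebra.FiniteType A C] (π : B →ₐ[A] C) (hπ : Function.Surjective π) (f : A)
    [Algebra.FormallyUnramified (Localization.Away f) (Localization.Away f ⊗[A] B)] (Q : Ideal C) [Q.IsPrime]
    (hQ : algebraMap A C f ∉ Q) : Algebra.IsUnramifiedAt A Q := by
  let S := Localization.Away f
  have : Algebra.FormallyUnramified S (S ⊗[A] C) := Algebra.FormallyUnramified.of_surjective
    (Algebra.TensorProduct.map (AlgHom.id S S) π) (fun t => by
      induction t with
      | zero => exact ⟨0, map_zero _⟩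
      | add x y hx hy =>
        obtain ⟨a, rfl⟩ := hx; obtain ⟨b, rfl⟩ := hy
        exact ⟨a + b, map_add _ _ _⟩
      | tmul a c =>
        obtain ⟨b, rfl⟩ := hπ c
        exact ⟨a ⊗ₜ b, rfl⟩)
  have : Algebra.FormallyUnramified A S :=
    Algebra.FormallyUnramified.of_isLocalization (Submonoid.powers f)
  have hfu : Algebra.FormallyUnramified A (S ⊗[A] C) := Algebra.FormallyUnramified.comp A S _
  let : Algebra C (S ⊗[A] C) := Algebra.TensorProduct.rightAlgebra
  have : IsScalarTower A C (S ⊗[A] C) := Algebra.TensorProduct.right_isScalarTower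
  have hmem := Algebra.basicOpen_subset_unramifiedLocus_iff.mpr
    (Algebra.FormallyUnramified.of_equiv
      ((IsLocalization.algEquiv (Submonoid.powers (algebraMap A C f)) (S ⊗[A] C)
        (Localization.Away (algebraMap A C f))).restrictScalars A))
  exact hmem (show (⟨Q, inferInstance⟩ : PrimeSpectrum C) ∈ PrimeSpectrum.basicOpen (algebraMap A C f) from hQ)

set_option maxHeartbeats 1000000 in
/-- The sections of a finite étale cover of the punctured spectrum of a regular local ring of
dimension at least two form an étale algebra. -/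
theorem etale_sections {A : Type u} [CommRing A] [IsRegularLocalRing A]
    (hdim : (2 : WithBot ℕ∞) ≤ ringKrullDim A) {V : Scheme.{u}}
    (p : V ⟶ (FEt.puncturedSpec A : Scheme.{u})) [IsFinite p] [Etale p]
    (hfin : (((p ≫ (FEt.puncturedSpec A).ι).appTop).hom.comp
      (Scheme.ΓSpecIso (CommRingCat.of A)).inv.hom).Finite) :
    (((p ≫ (FEt.puncturedSpec A).ι).appTop).hom.comp
      (Scheme.ΓSpecIso (CommRingCat.of A)).inv.hom).Etale := by
  classical
  have := Groth.Agent.Lib.Regular.Quotient.isDomain A
  have := Groth.Agent.Lib.Regular.UFD.uniqueFactorizationMonoid A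
  have := Groth.Agent.Lib.Regular.UFD.isIntegrallyClosed A
  have hA := H80.PuncturedExt.two_le_depth hdim
  let U := FEt.puncturedSpec A
  let φ : A →+* Γ(V, ⊤) :=
    ((p ≫ (FEt.puncturedSpec A).ι).appTop).hom.comp (Scheme.ΓSpecIso (CommRingCat.of A)).inv.hom
  let B := Γ(V, ⊤)
  let : Algebra A B := φ.toAlgebra
  have : Module.Finite A B := hfin
  have hloc := fun (f : A) (hf : f ∈ IsLocalRing.maximalIdeal A) =>
    H80.PuncturedExt.finite_etale_away hA p B (Iso.refl _) (CommRingCat.hom_ext rfl) hf
  have hcov : ∀ v : V, ∃ f ∈ IsLocalRing.maximalIdeal A, f ≠ 0 ∧ v ∈ V.basicOpen (φ f) := by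
    intro v
    let q : PrimeSpectrum A := (p ≫ U.ι).base v
    have hv : q ≠ IsLocalRing.closedPoint A := (p.base v).2
    obtain ⟨f, hf, hfv⟩ : ∃ f ∈ IsLocalRing.maximalIdeal A, f ∉ q.asIdeal := by
      by_contra! h
      exact hv (PrimeSpectrum.ext (((IsLocalRing.maximalIdeal.isMaximal A).eq_of_le
        q.isPrime.ne_top h).symm))
    refine ⟨f, hf, fun e => hfv (e ▸ zero_mem _), ?_⟩
    have h1 : (p ≫ U.ι).base v ∈ (Spec (CommRingCat.of A)).basicOpen
        ((Scheme.ΓSpecIso (CommRingCat.of A)).inv.hom f) := by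
      rw [basicOpen_eq_of_affine]; exact hfv
    have h2 : v ∈ (p ≫ U.ι) ⁻¹ᵁ (Spec (CommRingCat.of A)).basicOpen
        ((Scheme.ΓSpecIso (CommRingCat.of A)).inv.hom f) := h1
    rw [Scheme.preimage_basicOpen_top] at h2
    exact h2
  let I := {f : A // f ∈ IsLocalRing.maximalIdeal A ∧ f ≠ 0}
  let W : I → V.Opens := fun f => V.basicOpen (φ f.1)
  have hW : (⊤ : V.Opens) ≤ iSup W := fun v _ => by
    obtain ⟨f, hf, hf0, hv⟩ := hcov v
    exact TopologicalSpace.Opens.mem_iSup.mpr ⟨⟨f, hf, hf0⟩, hv⟩
  let r : ∀ f : I, B →+* Γ(V, W f) := fun f => (V.presheaf.map (homOfLE (le_top : W f ≤ ⊤)).op).hom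
  have hu : ∀ f : I, IsUnit (r f (φ f.1)) := fun f => RingedSpace.isUnit_res_basicOpen _ (φ f.1)
  let K := FractionRing A
  let L := K ⊗[A] B
  let ι : B →ₐ[A] L := Algebra.TensorProduct.includeRight
  have hpow : ∀ (f : I) (x : B), ι x = 0 → ∃ k : ℕ, φ f.1 ^ k * x = 0 := by
    intro f x hx
    obtain ⟨c, hc⟩ := (IsLocalizedModule.eq_zero_iff A⁰ (TensorProduct.mk A K B 1)).mp hx
    let S := Localization.Away f.1
    have hle : Submonoid.powers f.1 ≤ A⁰ :=
      Submonoid.powers_le.mpr (mem_nonZeroDivisors_of_ne_zero f.2.2)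
    have := (hloc f.1 f.2.1).2
    have : IsDomain S := IsLocalization.isDomain_localization hle
    have hreg : IsSMulRegular (S ⊗[A] B) (algebraMap A S c.1) :=
      Module.Flat.isSMulRegular_of_nonZeroDivisors (R := S) (M := S ⊗[A] B)
        (mem_nonZeroDivisors_of_ne_zero ((map_ne_zero_iff _ (IsLocalization.injective _ hle)).mpr
          (nonZeroDivisors.ne_zero c.2)))
    have hc' : c.1 • x = 0 := hc
    have h0 : TensorProduct.mk A S B 1 x = 0 := hreg (by
      simp only [smul_zero, algebraMap_smul, TensorProduct.mk_apply,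
        ← TensorProduct.tmul_smul, hc', TensorProduct.tmul_zero])
    obtain ⟨⟨_, k, rfl⟩, hk⟩ := (IsLocalizedModule.eq_zero_iff (Submonoid.powers f.1) _).mp h0
    refine ⟨k, ?_⟩
    have hk' : f.1 ^ k • x = 0 := hk
    rwa [Algebra.smul_def, map_pow] at hk'
  have hι : Function.Injective ι := by
    refine (injective_iff_map_eq_zero ι).mpr fun x hx => ?_
    refine TopCat.Sheaf.eq_of_locally_eq' V.sheaf W ⊤ (fun f => homOfLE le_top) hW x 0 fun f => ?_
    change r f x = r f 0
    obtain ⟨k, hk⟩ := hpow f x hx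
    have h2 := congrArg (r f) hk
    rw [map_mul, map_pow, map_zero] at h2
    rw [map_zero]
    exact ((hu f).pow k).mul_right_eq_zero.mp h2
  -- integral elements of the generic fibre are sections
  have hint : ∀ z : L, IsIntegral A z → ∃ b : B, ι b = z := by
    intro z hz
    have hn : ∀ f : I, ∃ (n : ℕ) (b : B), f.1 ^ n • z = ι b := fun f => by
      have := (hloc f.1 f.2.1).2
      exact exists_pow_smul_eq K B f.1 f.2.2 z hz
    choose n b hb using hn
    let s : ∀ f : I, Γ(V, W f) := fun f => r f (b f) * ↑((hu f).pow (n f)).unit⁻¹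
    have hs : ∀ f : I, s f * r f (φ f.1) ^ n f = r f (b f) := fun f => by
      rw [mul_assoc, IsUnit.val_inv_mul, mul_one]
    have hcompat : TopCat.Presheaf.IsCompatible V.presheaf W s := by
      intro f g
      have hbb : φ g.1 ^ n g * b f = φ f.1 ^ n f * b g := by
        apply hι
        rw [← map_pow, ← map_pow, map_mul, map_mul, ← hb f, ← hb g]
        change ι (algebraMap A B _) * _ = ι (algebraMap A B _) * _
        rw [ι.commutes, ι.commutes, ← Algebra.smul_def, ← Algebra.smul_def, smul_comm]
      let rf := (V.presheaf.map (TopologicalSpace.Opens.infLELeft (W f) (W g)).op).hom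
      let rg := (V.presheaf.map (TopologicalSpace.Opens.infLERight (W f) (W g)).op).hom
      have hcomm : ∀ t : B, rf (r f t) = rg (r g t) := fun t => by
        change (V.presheaf.map _).hom ((V.presheaf.map _).hom t) =
          (V.presheaf.map _).hom ((V.presheaf.map _).hom t)
        rw [← CommRingCat.comp_apply, ← CommRingCat.comp_apply, ← V.presheaf.map_comp,
          ← V.presheaf.map_comp]
        rfl
      change rf (s f) = rg (s g)
      refine ((((hu f).pow (n f)).map rf).mul (((hu g).pow (n g)).map rg)).mul_left_injective ?_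
      calc rf (s f) * (rf (r f (φ f.1) ^ n f) * rg (r g (φ g.1) ^ n g))
          = rf (r f (b f)) * rg (r g (φ g.1) ^ n g) := by rw [← mul_assoc, ← map_mul, hs f]
        _ = rg (r g (φ g.1 ^ n g * b f)) := by rw [hcomm, map_mul, map_mul, map_pow (r g), mul_comm]
        _ = rg (r g (φ f.1 ^ n f * b g)) := by rw [hbb]
        _ = rf (r f (φ f.1) ^ n f) * rg (r g (b g)) := by
          rw [map_mul, map_mul, ← map_pow (r f), hcomm]
        _ = rg (s g) * (rf (r f (φ f.1) ^ n f) * rg (r g (φ g.1) ^ n g)) := by
          rw [show rg (r g (b g)) = rg (s g) * rg (r g (φ g.1) ^ n g) by rw [← map_mul, hs g]]; ring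
    obtain ⟨x₀, hx, -⟩ := TopCat.Sheaf.existsUnique_gluing' V.sheaf W ⊤ (fun f => homOfLE le_top) hW s hcompat
    let x : B := x₀
    refine ⟨x, ?_⟩
    obtain ⟨f, hf, hf0⟩ : ∃ f ∈ IsLocalRing.maximalIdeal A, f ≠ 0 := by
      by_contra! h
      have hm : IsLocalRing.maximalIdeal A = ⊥ := eq_bot_iff.mpr fun a ha => h a ha
      rw [ringKrullDim_eq_zero_of_isField (IsLocalRing.isField_iff_maximalIdeal_eq.mpr hm)] at hdim
      exact absurd hdim (by decide)
    have h1 : r ⟨f, hf, hf0⟩ (φ f ^ n ⟨f, hf, hf0⟩ * x - b ⟨f, hf, hf0⟩) = 0 := by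
      rw [map_sub, map_mul, map_pow, show r ⟨f, hf, hf0⟩ x = s ⟨f, hf, hf0⟩ from hx _, mul_comm, hs,
        sub_self]
    obtain ⟨k, hk⟩ : ∃ k : ℕ, φ f ^ k * (φ f ^ n ⟨f, hf, hf0⟩ * x - b ⟨f, hf, hf0⟩) = 0 := by
      let : Algebra B Γ(V, W ⟨f, hf, hf0⟩) := (r ⟨f, hf, hf0⟩).toAlgebra
      have : TopologicalSpace.NoetherianSpace (Spec (CommRingCat.of A)) :=
        inferInstanceAs (TopologicalSpace.NoetherianSpace (PrimeSpectrum A))
      have : IsLocallyNoetherian (Spec (CommRingCat.of A)) := inferInstance
      have : CompactSpace (U : Scheme.{u}) :=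
        isCompact_iff_compactSpace.mp (TopologicalSpace.NoetherianSpace.isCompact _)
      have : CompactSpace V := QuasiCompact.compactSpace_of_compactSpace p
      have : QuasiSeparatedSpace V := quasiSeparatedSpace_of_quasiSeparated (p ≫ U.ι)
      exact AlgebraicGeometry.exists_pow_mul_eq_zero_of_res_basicOpen_eq_zero_of_isCompact V
        isCompact_univ _ (φ f) h1
    have h3 := congrArg ι hk
    rw [map_mul, map_sub, map_mul, ← hb ⟨f, hf, hf0⟩, map_pow, map_pow, map_zero] at h3
    have hfu : IsUnit (ι (φ f)) := by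
      change IsUnit (ι (algebraMap A B f))
      rw [ι.commutes, IsScalarTower.algebraMap_apply A K L]
      exact (IsLocalization.map_units K ⟨f, mem_nonZeroDivisors_of_ne_zero hf0⟩).map _
    have h4 := (hfu.pow k).mul_right_eq_zero.mp h3
    rw [sub_eq_zero] at h4
    replace h4 := h4.trans (show _ = algebraMap A L (f ^ n ⟨f, hf, hf0⟩) * z by
      rw [Algebra.algebraMap_eq_smul_one, smul_mul_assoc, one_mul])
    rw [map_pow] at h4
    change ι (algebraMap A B f) ^ _ * _ = _ at h4
    rw [ι.commutes] at h4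
    exact ((show IsUnit (algebraMap A L f) from ι.commutes f ▸ hfu).pow _).mul_left_cancel h4
  -- the generic fibre is étale
  obtain ⟨a, ha, hareg⟩ := FEt.DepthTwo.exists_regular hA
  have ha0 : a ≠ 0 := fun h => one_ne_zero (α := A) (hareg (by simp [h] : a • (1 : A) = a • 0))
  let ιa : Localization.Away a →ₐ[A] K := IsLocalization.liftAlgHom (f := Algebra.ofId A K) (fun y =>
    IsLocalization.map_units K ⟨y.1, Submonoid.powers_le.mpr (mem_nonZeroDivisors_of_ne_zero ha0) y.2⟩)
  let : Algebra (Localization.Away a) K := ιa.toRingHom.toAlgebra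
  have : IsScalarTower A (Localization.Away a) K := .of_algHom ιa
  have : Algebra.Etale (Localization.Away a) (Localization.Away a ⊗[A] B) := (hloc a ha).2
  have : Module.Finite (Localization.Away a) (Localization.Away a ⊗[A] B) := (hloc a ha).1
  have : Algebra.Etale K L := Algebra.Etale.of_equiv
    (Algebra.TensorProduct.cancelBaseChange A (Localization.Away a) K K B)
  obtain ⟨J, hJ, Li, _, _, e, hsep⟩ :=
    (Algebra.FormallyEtale.iff_exists_algEquiv_prod K L).mp inferInstance
  have : Module.Finite K L := Module.Finite.equiv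
    (Algebra.TensorProduct.cancelBaseChange A (Localization.Away a) K K B).toLinearEquiv
  let : ∀ i, Algebra A (Li i) := fun i => ((algebraMap K (Li i)).comp (algebraMap A K)).toAlgebra
  have : ∀ i, IsScalarTower A K (Li i) := fun i => .of_algebraMap_eq' rfl
  have : ∀ i, Module.Finite K (Li i) := fun i => Module.Finite.of_surjective
    ((Pi.evalAlgHom K Li i).comp e.toAlgHom).toLinearMap
    ((Function.surjective_eval i).comp e.surjective)
  let C : J → Type u := fun i => integralClosure A (Li i)
  have : ∀ i, Module.Finite A (C i) := fun i =>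
    have := hsep i
    IsIntegralClosure.finite A K (Li i) (C i)
  let j : B →ₐ[A] Π i, Li i := (e.toAlgHom.restrictScalars A).comp ι
  let T : B →ₐ[A] Π i, C i := AlgHom.pi fun i =>
    ((Pi.evalAlgHom A Li i).comp j).codRestrict (integralClosure A (Li i)) fun x =>
      (Algebra.IsIntegral.isIntegral (R := A) x).map ((Pi.evalAlgHom A Li i).comp j)
  have hT : Function.Bijective T := by
    refine ⟨fun x y h => hι (e.injective (funext fun i => congrArg Subtype.val (congrFun h i))), fun c => ?_⟩
    let v : (Π i, C i) →ₐ[A] Π i, Li i :=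
      AlgHom.pi fun i => (integralClosure A (Li i)).val.comp (Pi.evalAlgHom A C i)
    have : Algebra.IsIntegral A (Π i, C i) := Algebra.IsIntegral.of_finite A _
    obtain ⟨x, hx⟩ := hint (e.symm (v c))
      ((Algebra.IsIntegral.isIntegral c).map ((e.symm.toAlgHom.restrictScalars A).comp v))
    exact ⟨x, funext fun i => Subtype.ext (congrFun ((congrArg e hx).trans (e.apply_symm_apply _)) i)⟩
  have hC : ∀ i, Algebra.Etale A (C i) := by
    intro i
    have := hsep i
    have : IsIntegrallyClosed (C i) := integralClosure.isIntegrallyClosedOfFiniteExtension K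
    refine Etale.etale_of_unramified (fun x y h => IsFractionRing.injective A K
      ((algebraMap K (Li i)).injective (congrArg Subtype.val h))) fun q hq hq1 Q hQ => ?_
    haveI := hq
    obtain ⟨f, hf, hfq⟩ : ∃ f ∈ IsLocalRing.maximalIdeal A, f ∉ q := by
      by_contra! h
      rw [← IsLocalRing.maximalIdeal_height_eq_ringKrullDim] at hdim
      exact absurd ((WithBot.coe_le_coe.mp hdim).trans ((Ideal.height_mono h).trans hq1)) (by norm_num)
    have := (hloc f hf).2
    exact isUnramifiedAt_of_surjective B (C i) ((Pi.evalAlgHom A C i).comp T)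
      ((Function.surjective_eval i).comp hT.2) f Q.asIdeal fun h => hfq (hQ ▸ h)
  have : Algebra.FormallyEtale A (Π i, C i) := (Algebra.FormallyEtale.pi_iff C).mpr fun i =>
    have := hC i
    inferInstance
  have : Algebra.FinitePresentation A (Π i, C i) := by
    rw [← Algebra.FinitePresentation.of_finiteType]
    infer_instance
  have : Algebra.Etale A (Π i, C i) := { }
  change φ.Etale
  exact RingHom.etale_algebraMap.mpr (Algebra.Etale.of_equiv (AlgEquiv.ofBijective T hT).symm)

end Groth.Agent.Lib.Purity.Punctured
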