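import Groth.Agent.Lib.Purity.Etale
import Groth.Agent.Lib.FEt.NormalAlg
import Groth.Agent.Lib.Regular.Descent
import Groth.Agent.Lib.Dim.Integral
import Groth.Agent.S0249
import Groth.Agent.Lib.SourceDescent.Ring
import Mathlib.RingTheory.Etale.QuasiFinite
import Mathlib.RingTheory.Unramified.LocalRing

/-!
# Purity of the branch locus at a quasi-finite point
-/

set_option autoImplicit false

universe u

open TensorProduct IsLocalRing

namespace Groth.Agent.Lib.Purity.Local

/-- Local rings of an étale algebra are normal where the base is. -/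
theorem normal_of_etale (S T : Type u) [CommRing S] [CommRing T] [Algebra S T] [Algebra.Etale S T]
    (q : Ideal S) [q.IsPrime] (Q : Ideal T) [Q.IsPrime] [Q.LiesOver q]
    (hn : IsDomain (Localization.AtPrime q) ∧ IsIntegrallyClosed (Localization.AtPrime q)) :
    IsDomain (Localization.AtPrime Q) ∧ IsIntegrallyClosed (Localization.AtPrime Q) := by
  obtain ⟨hd, hi⟩ := hn
  let R := Localization.AtPrime q
  let B := R ⊗[S] T
  let : Algebra T B := Algebra.TensorProduct.rightAlgebra
  let L := Localization.AtPrime Q
  have hM : Algebra.algebraMapSubmonoid T q.primeCompl ≤ Q.primeCompl := by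
    rintro _ ⟨a, ha, rfl⟩
    exact fun h => ha ((Q.over_def q).symm ▸ h : a ∈ q)
  have hunit : ∀ y : Algebra.algebraMapSubmonoid T q.primeCompl, IsUnit (algebraMap T L y.1) :=
    fun y => IsLocalization.map_units L (⟨y.1, hM y.2⟩ : Q.primeCompl)
  let : Algebra B L := (IsLocalization.lift hunit : B →+* L).toAlgebra
  have : IsScalarTower T B L :=
    IsScalarTower.of_algebraMap_eq fun x => (IsLocalization.lift_eq hunit x).symm
  let : Algebra R L := ((algebraMap B L).comp (algebraMap R B)).toAlgebra
  have : IsScalarTower R B L := @IsScalarTower.of_algebraMap_eq' R B L _ _ _ _ _ _ rfl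
  let N : Submonoid B := Q.primeCompl.map (algebraMap T B)
  have : IsLocalization N L := IsLocalization.isLocalization_of_submonoid_le B L _ _ hM
  have : Module.Flat B L := IsLocalization.flat L N
  have : Module.Flat R L := Module.Flat.trans R B L
  have : Algebra.FormallyEtale B L := Algebra.FormallyEtale.of_isLocalization N
  have : Algebra.FormallyEtale R L := Algebra.FormallyEtale.comp R B L
  have : Algebra.EssFiniteType B L := Algebra.EssFiniteType.of_isLocalization L N
  have : Algebra.EssFiniteType R L := Algebra.EssFiniteType.comp R B L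
  exact FEt.NormalAlg.isDomain_and_isIntegrallyClosed R L (TensorProduct.toIntegralClosure_bijective_of_tower
    (S := B) TensorProduct.toIntegralClosure_bijective_of_smooth
    (TensorProduct.toIntegralClosure_bijective_of_isLocalization N))

/-- Flatness and unramifiedness at a prime of an étale algebra. -/
theorem localization_etale (S T : Type u) [CommRing S] [CommRing T] [Algebra S T] [Algebra.Etale S T]
    (q : Ideal S) [q.IsPrime] (Q : Ideal T) [Q.IsPrime] [Q.LiesOver q]
    [Algebra (Localization.AtPrime q) (Localization.AtPrime Q)]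
    [Localization.AtPrime.IsLiesOverAlgebra q Q] :
    Module.Flat (Localization.AtPrime q) (Localization.AtPrime Q) ∧
      Algebra.FormallyUnramified (Localization.AtPrime q) (Localization.AtPrime Q) := by
  have : Module.Flat T (Localization.AtPrime Q) := IsLocalization.flat _ Q.primeCompl
  have hflat : Module.Flat S (Localization.AtPrime Q) := Module.Flat.trans S T _
  have : Algebra.FormallyUnramified T (Localization.AtPrime Q) :=
    Algebra.FormallyUnramified.of_isLocalization Q.primeCompl
  have : Algebra.FormallyUnramified S (Localization.AtPrime Q) :=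
    Algebra.FormallyUnramified.comp S T _
  exact ⟨(Module.flat_iff_of_isLocalization (Localization.AtPrime q) q.primeCompl _).mpr hflat,
    Algebra.FormallyUnramified.of_restrictScalars S _ _⟩

/-- An element killing the differentials of `S` over `R` kills those of a localisation of
`A ⊗ S` over `A`. -/
theorem smul_kaehler_eq_zero {R S A : Type u} [CommRing R] [CommRing S] [CommRing A] [Algebra R S]
    [Algebra R A] (C : Type u) [CommRing C] [Algebra A C] [Algebra R C] [IsScalarTower R A C]
    [Algebra S C] [IsScalarTower R S C] (r : S) (hr : ∀ ω : Ω[S⁄R], r • ω = 0)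
    (hgen : ∀ c : C, ∃ d ∈ Algebra.adjoin A (Set.range (algebraMap S C)),
      IsUnit d ∧ c * d ∈ Algebra.adjoin A (Set.range (algebraMap S C)))
    (ω : Ω[C⁄A]) : algebraMap S C r • ω = 0 := by
  have hS : ∀ x : S, algebraMap S C r • KaehlerDifferential.D A C (algebraMap S C x) = 0 := by
    intro x
    have h1 := congrArg (KaehlerDifferential.map R A S C) (hr (KaehlerDifferential.D R S x))
    rw [LinearMap.map_smul_of_tower, map_zero, KaehlerDifferential.map_D, ← algebraMap_smul C] at h1
    exact h1
  have hadj : ∀ y ∈ Algebra.adjoin A (Set.range (algebraMap S C)),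
      algebraMap S C r • KaehlerDifferential.D A C y = 0 := by
    intro y hy
    induction hy using Algebra.adjoin_induction with
    | mem x h => obtain ⟨x, rfl⟩ := h; exact hS x
    | algebraMap a => rw [Derivation.map_algebraMap, smul_zero]
    | add x y _ _ hx hy => rw [map_add, smul_add, hx, hy, add_zero]
    | mul x y _ _ hx hy =>
      rw [Derivation.leibniz, smul_add, smul_comm, hy, smul_zero, zero_add, smul_comm, hx, smul_zero]
  suffices h : ∀ c, algebraMap S C r • KaehlerDifferential.D A C c = 0 by
    have hmem : ω ∈ Submodule.span C (Set.range (KaehlerDifferential.D A C)) := by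
      rw [KaehlerDifferential.span_range_derivation]; trivial
    induction hmem using Submodule.span_induction with
    | mem x hx => obtain ⟨c, rfl⟩ := hx; exact h c
    | zero => exact smul_zero _
    | add x y _ _ hx hy => rw [smul_add, hx, hy, add_zero]
    | smul a x _ hx => rw [smul_comm, hx, smul_zero]
  intro c
  obtain ⟨d, hd, hdu, hcd⟩ := hgen c
  have h2 := hadj _ hcd
  rw [Derivation.leibniz, smul_add, smul_comm, hadj d hd, smul_zero, zero_add, smul_comm] at h2
  exact hdu.smul_left_cancel.mp (h2.trans (smul_zero d).symm)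

set_option maxHeartbeats 800000 in
/-- Purity of the branch locus at a quasi-finite point with a normal local ring over a regular local
ring of the same dimension. -/
theorem flat_and_unramified (R S : Type u) [CommRing R] [IsNoetherianRing R] [CommRing S] [Algebra R S]
    [Algebra.FiniteType R S] (p : Ideal R) [p.IsPrime] (q : Ideal S) [q.IsPrime] [q.LiesOver p]
    [Algebra.QuasiFiniteAt R q] [Algebra (Localization.AtPrime p) (Localization.AtPrime q)]
    [Localization.AtPrime.IsLiesOverAlgebra p q]
    (hn : IsDomain (Localization.AtPrime q) ∧ IsIntegrallyClosed (Localization.AtPrime q))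
    [IsRegularLocalRing (Localization.AtPrime p)]
    (hdim : ringKrullDim (Localization.AtPrime q) = ringKrullDim (Localization.AtPrime p))
    (hu : ∀ q₁ : Ideal S, [q₁.IsPrime] → q₁ ≤ q → q₁.height ≤ 1 → Algebra.IsUnramifiedAt R q₁) :
    Module.Flat (Localization.AtPrime p) (Localization.AtPrime q) ∧
      Algebra.FormallyUnramified (Localization.AtPrime p) (Localization.AtPrime q) := by
  obtain ⟨R', _, _, _, P, _, _, e, he, P', _, _, hP'q, heP', -, hfin, huniq⟩ :=
    Algebra.exists_etale_isIdempotentElem_forall_liesOver_eq p q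
  have : IsNoetherianRing S := Algebra.FiniteType.isNoetherianRing R S
  have : IsNoetherianRing R' := Algebra.FiniteType.isNoetherianRing R R'
  let A := Localization.AtPrime p
  let A' := Localization.AtPrime P
  let := Localization.AtPrime.algebraOfLiesOver p P
  have : IsLocalHom (algebraMap A A') := by
    rw [Localization.AtPrime.IsLiesOverAlgebra.algebraMap_eq]
    exact Localization.isLocalHom_localRingHom _ _ _ _
  obtain ⟨hflatA, hfuA⟩ := localization_etale R R' p P
  have hmA : (maximalIdeal A).map (algebraMap A A') = maximalIdeal A' :=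
    have : Algebra.EssFiniteType A A' := Algebra.EssFiniteType.of_comp R _ _
    Algebra.FormallyUnramified.map_maximalIdeal
  have hregA : IsRegularLocalRing A' :=
    (Groth.Agent.Lib.Regular.Descent.isRegularLocalRing_iff A' hmA).mp inferInstance
  have hdimA : ringKrullDim A' = ringKrullDim A :=
    Groth.Agent.Lib.Regular.Descent.ringKrullDim_eq A' hmA
  -- the base change
  let T := R' ⊗[R] S
  let : Algebra S T := Algebra.TensorProduct.rightAlgebra
  have : IsScalarTower R S T := Algebra.TensorProduct.right_isScalarTower
  have : Algebra.Etale S T := Algebra.Etale.of_equiv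
    ({ (Algebra.TensorProduct.comm R S R').toRingEquiv with
        commutes' := fun x => by simp [RingHom.algebraMap_toAlgebra] } : S ⊗[R] R' ≃ₐ[S] T)
  have : P'.LiesOver q := ⟨hP'q.symm⟩
  have : P'.LiesOver p := .trans P' P p
  let L := Localization.AtPrime q
  let C := Localization.AtPrime P'
  let := Localization.AtPrime.algebraOfLiesOver q P'
  let := Localization.AtPrime.algebraOfLiesOver P P'
  let := Localization.AtPrime.algebraOfLiesOver p P'
  obtain ⟨hCd, hCi⟩ := normal_of_etale S T q P' hn
  obtain ⟨hflatL, hfuL⟩ := localization_etale S T q P'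
  have : IsNoetherianRing T := Algebra.FiniteType.isNoetherianRing S T
  have : IsLocalHom (algebraMap L C) := by
    rw [Localization.AtPrime.IsLiesOverAlgebra.algebraMap_eq]
    exact Localization.isLocalHom_localRingHom _ _ _ _
  have hmL : (maximalIdeal L).map (algebraMap L C) = maximalIdeal C :=
    have : Algebra.EssFiniteType L C := Algebra.EssFiniteType.of_comp S _ _
    Algebra.FormallyUnramified.map_maximalIdeal
  have hdimC : ringKrullDim C = ringKrullDim A' := by
    rw [Groth.Agent.Lib.Regular.Descent.ringKrullDim_eq C hmL, hdim, hdimA]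
  -- `C` is finite over `A'`
  let Te := Localization.Away e
  have : Algebra.IsIntegral R' Te := Algebra.IsIntegral.of_finite R' Te
  let D := Localization (Algebra.algebraMapSubmonoid Te P.primeCompl)
  have : IsScalarTower R' A' D := IsScalarTower.of_algebraMap_eq fun x => by
    rw [IsScalarTower.algebraMap_apply R' Te D]
    exact (IsLocalization.map_eq _ x).symm
  have hDfin : Module.Finite A' D := Module.Finite.of_isLocalization R' Te P.primeCompl
  have hCe : IsUnit (algebraMap T C e) := IsLocalization.map_units C (⟨e, heP'⟩ : P'.primeCompl)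
  let : Algebra Te C := (IsLocalization.Away.lift e hCe : Te →+* C).toAlgebra
  have : IsScalarTower T Te C :=
    IsScalarTower.of_algebraMap_eq fun x => (IsLocalization.Away.lift_eq e hCe x).symm
  have : IsScalarTower R' Te C := IsScalarTower.of_algebraMap_eq fun x => by
    rw [IsScalarTower.algebraMap_apply R' T Te, ← IsScalarTower.algebraMap_apply T Te C,
      ← IsScalarTower.algebraMap_apply]
  let N : Submonoid Te := P'.primeCompl.map (algebraMap T Te)
  have hle : Submonoid.powers e ≤ P'.primeCompl := Submonoid.powers_le.mpr heP'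
  have hCN : IsLocalization N C := IsLocalization.isLocalization_of_submonoid_le Te C _ _ hle
  have hDN : IsLocalization (Algebra.algebraMapSubmonoid Te P.primeCompl ⊔ N) D := by
    refine IsLocalization.of_le _ _ le_sup_left fun r hr => ?_
    obtain ⟨a, ha, b, ⟨t, ht, rfl⟩, rfl⟩ := Submonoid.mem_sup.mp hr
    rw [map_mul]
    refine (IsLocalization.map_units D ⟨a, ha⟩).mul ?_
    by_contra hnu
    obtain ⟨M, hM, htM⟩ := exists_max_ideal_of_mem_nonunits hnu
    haveI := hM
    have : Algebra.IsIntegral A' D := Algebra.IsIntegral.of_finite A' D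
    have hMA : M.comap (algebraMap A' D) = maximalIdeal A' :=
      eq_maximalIdeal (Ideal.isMaximal_comap_of_isIntegral_of_isMaximal M)
    let M₀ : Ideal T := M.comap ((algebraMap Te D).comp (algebraMap T Te))
    have : M₀.LiesOver P := ⟨by
      ext x
      rw [Ideal.under_def, Ideal.mem_comap, Ideal.mem_comap, RingHom.comp_apply,
        ← IsScalarTower.algebraMap_apply R' T Te, ← IsScalarTower.algebraMap_apply R' Te D,
        IsScalarTower.algebraMap_apply R' A' D, ← Ideal.mem_comap, hMA]
      exact (IsLocalization.AtPrime.to_map_mem_maximal_iff A' P x).symm⟩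
    have hne : e ∉ M₀ := fun h => hM.ne_top (Ideal.eq_top_of_isUnit_mem _ h
      ((IsLocalization.Away.algebraMap_isUnit e).map (algebraMap Te D)))
    exact ht ((huniq M₀ inferInstance inferInstance hne) ▸ (show t ∈ M₀ from htM))
  have hCN' : IsLocalization (Algebra.algebraMapSubmonoid Te P.primeCompl ⊔ N) C := by
    refine IsLocalization.of_le _ _ le_sup_right fun r hr => ?_
    obtain ⟨a, ⟨s, hs, rfl⟩, b, hb, rfl⟩ := Submonoid.mem_sup.mp hr
    rw [map_mul, ← IsScalarTower.algebraMap_apply R' Te C, IsScalarTower.algebraMap_apply R' T C]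
    exact (IsLocalization.map_units C (⟨_, fun h => hs ((P'.over_def P).symm ▸ h : s ∈ P)⟩ : P'.primeCompl)).mul
      (IsLocalization.map_units C ⟨b, hb⟩)
  let eDC : D ≃ₐ[Te] C := IsLocalization.algEquiv (Algebra.algebraMapSubmonoid Te P.primeCompl ⊔ N) D C
  have : Module.Finite A' C := Module.Finite.equiv
    ((eDC.toLinearEquiv.restrictScalars R').extendScalarsOfIsLocalization P.primeCompl A')
  have : Algebra.IsIntegral A' C := Algebra.IsIntegral.of_finite A' C
  have := Groth.Agent.Lib.Regular.Quotient.isDomain A'
  have hinj : Function.Injective (algebraMap A' C) := by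
    rw [RingHom.injective_iff_ker_eq_bot]
    by_contra hK
    obtain ⟨a, ha, ha0⟩ := Submodule.exists_mem_ne_zero_of_ne_bot hK
    let : Algebra (A' ⧸ RingHom.ker (algebraMap A' C)) C :=
      (RingHom.kerLift (algebraMap A' C)).toAlgebra
    have : IsScalarTower A' (A' ⧸ RingHom.ker (algebraMap A' C)) C :=
      @IsScalarTower.of_algebraMap_eq A' (A' ⧸ RingHom.ker (algebraMap A' C)) C _ _ _ _ _ _ fun _ => rfl
    have : Algebra.IsIntegral (A' ⧸ RingHom.ker (algebraMap A' C)) C := Algebra.IsIntegral.tower_top A'
    have h1 : ringKrullDim C ≤ ringKrullDim (A' ⧸ Ideal.span {a}) :=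
      (Groth.Agent.Lib.Dim.Integral.ringKrullDim_le_of_isIntegral
        (R := A' ⧸ RingHom.ker (algebraMap A' C))).trans
        (ringKrullDim_le_of_surjective (Ideal.Quotient.factor ((Ideal.span_singleton_le_iff_mem _).mpr ha))
          (Ideal.Quotient.factor_surjective _))
    have h2 := ringKrullDim_quotient_succ_le_of_nonZeroDivisor (mem_nonZeroDivisors_of_ne_zero ha0)
    obtain ⟨n, hn'⟩ : ∃ n : ℕ, ringKrullDim A' = n :=
      ⟨_, (IsRegularLocalRing.spanFinrank_maximalIdeal (R := A')).symm⟩
    rw [hdimC, hn'] at h1
    rw [hn'] at h2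
    exact absurd ((add_le_add h1 (le_refl (1 : WithBot ℕ∞))).trans h2) (by norm_cast; simp)
  have hCet : Algebra.Etale A' C := by
    refine Etale.etale_of_unramified hinj fun p₁ hp₁ hp₁h Q hQ => ?_
    have hQh : Q.asIdeal.height ≤ 1 :=
      (Groth.Agent.Lib.Dim.Integral.height_le_height_under (R := A') Q.asIdeal).trans
        (hQ.symm ▸ hp₁h : (Q.asIdeal.comap (algebraMap A' C)).height ≤ 1)
    let Q₁ : Ideal L := Q.asIdeal.under L
    let q₁ : Ideal S := Q₁.under S
    have : Algebra.HasGoingDown L C := inferInstance
    have hQ₁ : Q₁.height ≤ 1 := by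
      refine le_trans ?_ hQh
      have : Q.asIdeal.LiesOver Q₁ := ⟨rfl⟩
      rw [Ideal.height_eq_height_add_of_liesOver_of_hasGoingDown Q₁ Q.asIdeal]
      exact le_self_add
    have hq₁q : q₁ ≤ q := by
      intro x hx
      by_contra hxq
      exact (Ideal.IsPrime.ne_top inferInstance)
        (Ideal.eq_top_of_isUnit_mem Q₁ hx (IsLocalization.map_units L (⟨x, hxq⟩ : q.primeCompl)))
    have hq₁h : q₁.height ≤ 1 := (IsLocalization.height_under q.primeCompl Q₁).trans_le hQ₁
    have := hu q₁ hq₁q hq₁h
    have hns : (⟨q₁, inferInstance⟩ : PrimeSpectrum S) ∈ Algebra.unramifiedLocus R S := this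
    rw [Algebra.unramifiedLocus_eq_compl_support, Set.mem_compl_iff, Module.support_eq_zeroLocus,
      PrimeSpectrum.mem_zeroLocus, Set.not_subset] at hns
    obtain ⟨r, hr, hrq⟩ := hns
    have hrC : algebraMap S C r ∉ Q.asIdeal := fun h => hrq (by
      change algebraMap L C (algebraMap S L r) ∈ Q.asIdeal
      rwa [← IsScalarTower.algebraMap_apply S L C])
    have hkill := smul_kaehler_eq_zero (A := A') C r (Module.mem_annihilator.mp hr) (fun c => by
      obtain ⟨⟨t, d, hd⟩, htd⟩ := IsLocalization.surj P'.primeCompl c
      have hadj : ∀ t : T, algebraMap T C t ∈ Algebra.adjoin A' (Set.range (algebraMap S C)) := fun t => by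
        induction t using TensorProduct.induction_on with
        | zero => rw [map_zero]; exact zero_mem _
        | add x y hx hy => rw [map_add]; exact add_mem hx hy
        | tmul x y =>
          rw [show x ⊗ₜ[R] y = algebraMap R' T x * algebraMap S T y by
            change _ = (x ⊗ₜ[R] (1 : S)) * ((1 : R') ⊗ₜ[R] y)
            rw [Algebra.TensorProduct.tmul_mul_tmul, mul_one, one_mul], map_mul, ← IsScalarTower.algebraMap_apply R' T C,
            ← IsScalarTower.algebraMap_apply S T C, IsScalarTower.algebraMap_apply R' A' C]
          exact mul_mem (Subalgebra.algebraMap_mem _ _) (Algebra.subset_adjoin ⟨y, rfl⟩)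
      exact ⟨_, hadj d, IsLocalization.map_units C ⟨d, hd⟩, htd ▸ hadj t⟩)
    have hmem : Q ∈ Algebra.unramifiedLocus A' C := by
      rw [Algebra.unramifiedLocus_eq_compl_support, Set.mem_compl_iff, Module.support_eq_zeroLocus,
        PrimeSpectrum.mem_zeroLocus, Set.not_subset]
      exact ⟨_, Module.mem_annihilator.mpr hkill, hrC⟩
    exact hmem
  -- descent
  have : IsScalarTower A L C := IsScalarTower.of_algebraMap_eq' (by
    refine IsLocalization.ringHom_ext p.primeCompl ?_
    simp only [RingHom.comp_assoc, ← IsScalarTower.algebraMap_eq])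
  have : IsScalarTower A A' C := IsScalarTower.of_algebraMap_eq' (by
    refine IsLocalization.ringHom_ext p.primeCompl ?_
    simp only [RingHom.comp_assoc, ← IsScalarTower.algebraMap_eq])
  have : IsLocalHom (algebraMap A L) := by
    rw [Localization.AtPrime.IsLiesOverAlgebra.algebraMap_eq]
    exact Localization.isLocalHom_localRingHom _ _ _ _
  have : Module.Flat A C := Module.Flat.trans A A' C
  have : Module.FaithfullyFlat L C := Module.FaithfullyFlat.of_flat_of_isLocalHom
  refine ⟨SourceDescent.Ring.flat_of_comp A L C, ?_⟩
  have : Algebra.FormallyUnramified A C := Algebra.FormallyUnramified.comp A A' C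
  have : Algebra.EssFiniteType A L := Algebra.EssFiniteType.of_comp R _ _
  have : Algebra.EssFiniteType S C := Algebra.EssFiniteType.comp S T C
  have : Algebra.EssFiniteType R C := Algebra.EssFiniteType.comp R S C
  have : Algebra.EssFiniteType A C := Algebra.EssFiniteType.of_comp R _ _
  obtain ⟨hsep, hm⟩ := (Algebra.FormallyUnramified.iff_map_maximalIdeal_eq (R := A) (S := C)).mp inferInstance
  refine Algebra.FormallyUnramified.iff_map_maximalIdeal_eq.mpr ⟨?_, ?_⟩
  · exact Algebra.isSeparable_tower_bot_of_isSeparable (ResidueField A) (ResidueField L) (ResidueField C)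
  · rw [← Ideal.comap_map_eq_self_of_faithfullyFlat (B := C) ((maximalIdeal A).map (algebraMap A L)),
      Ideal.map_map, ← IsScalarTower.algebraMap_eq, hm, ← hmL,
      Ideal.comap_map_eq_self_of_faithfullyFlat]

end Groth.Agent.Lib.Purity.Local
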