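import Groth.Agent.Lib.Purity.Reduce
import Mathlib.LinearAlgebra.Dimension.Localization
import Mathlib.LinearAlgebra.Dimension.RankNullity
import Mathlib.RingTheory.HopkinsLevitzki
import Mathlib.LinearAlgebra.Dimension.Torsion.Finite
import Mathlib.Tactic.Finiteness

/-!
# Auslander's lemma

A second syzygy `M` over a regular local ring with `End M ≅ M ^ n` is free.
-/

set_option autoImplicit false

universe u v

open IsLocalRing

namespace Groth.Agent.Lib.Purity.Auslander

open Groth.Agent.Lib.Purity.D2 Groth.Agent.Lib.Purity.Basic Groth.Agent.Lib.Purity.Reduce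
open Groth.Agent.Lib.LCFin.Seq

variable {R : Type u} [CommRing R] [IsRegularLocalRing R]

lemma ringKrullDim_eq : ringKrullDim R = ((maximalIdeal R).spanFinrank : ℕ) :=
  (IsRegularLocalRing.spanFinrank_maximalIdeal (R := R)).symm

lemma exists_parameter (hd : (maximalIdeal R).spanFinrank ≠ 0) :
    ∃ x ∈ maximalIdeal R, Prime x ∧ IsRegularLocalRing (QR x) ∧
      ∀ [IsLocalRing (QR x)], (maximalIdeal (QR x)).spanFinrank + 1 = (maximalIdeal R).spanFinrank := by
  obtain ⟨x, hx, hx2⟩ := Groth.Agent.Lib.Regular.Serre.exists_notMem_sq hd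
  obtain ⟨h1, h2, -⟩ := Groth.Agent.Lib.Regular.Quotient.quotient_singleton hx hx2
  haveI := h1
  haveI := Groth.Agent.Lib.Regular.Quotient.isDomain R
  haveI := Groth.Agent.Lib.Regular.Quotient.isDomain (R ⧸ Ideal.span {x})
  have hx0 : x ≠ 0 := fun h => hx2 (h ▸ zero_mem _)
  refine ⟨x, hx, (Ideal.span_singleton_prime hx0).mp
    ((Ideal.Quotient.isDomain_iff_prime _).mp inferInstance), h1, ?_⟩
  intro _
  rw [ringKrullDim_eq, ringKrullDim_eq (R := R)] at h2
  exact_mod_cast h2

/-- In dimension at most two second syzygies are free. -/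
theorem free_of_le_two (hd : (maximalIdeal R).spanFinrank ≤ 2) (M : Type v) [AddCommGroup M]
    [Module R M] (hM : Syz2 R M) : Module.Free R M := by
  haveI := Groth.Agent.Lib.Regular.Quotient.isDomain R
  haveI := hM.finite
  by_cases h0 : (maximalIdeal R).spanFinrank = 0
  · rw [Submodule.spanFinrank_eq_zero_iff_eq_bot (IsNoetherian.noetherian _)] at h0
    have hf : IsField R := IsLocalRing.isField_iff_maximalIdeal_eq.mpr h0
    letI := hf.toField
    infer_instance
  obtain ⟨x, hx, hxp, hreg, hdim⟩ := exists_parameter h0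
  haveI := hreg
  haveI := Groth.Agent.Lib.Regular.Quotient.isDomain (QR x)
  have hd' := hdim
  haveI : IsPrincipalIdealRing (QR x) := by
    have h1 : (maximalIdeal (QR x)).IsPrincipal := by
      rcases Nat.eq_zero_or_pos (maximalIdeal (QR x)).spanFinrank with h | h
      · rw [Submodule.spanFinrank_eq_zero_iff_eq_bot (IsNoetherian.noetherian _)] at h
        rw [h]
        exact bot_isPrincipal
      · exact ((Submodule.spanFinrank_eq_one_iff _).mp (by omega)).1
    exact ((tfae_of_isNoetherianRing_of_isLocalRing_of_isDomain (QR x)).out 0 4).mpr h1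
  haveI : Module.Finite (QR x) (QM x M) := Module.Finite.of_restrictScalars_finite R _ _
  haveI : Module.IsTorsionFree (QR x) (QM x M) := ⟨fun r hr => IsSMulRegular.of_right_eq_zero_of_smul
    fun z hz => smul_eq_zero_imp hxp hM hr.ne_zero hz⟩
  haveI : Module.Free (QR x) (QM x M) := Module.free_of_finite_type_torsion_free'
  exact free_of_quotient hx (hM.smul_regular hxp.ne_zero)

theorem exists_pow_mem_notMem {x : R} (hxp : Prime x) (hd : 2 ≤ (maximalIdeal R).spanFinrank) (k : ℕ) :
    ∃ s ∈ maximalIdeal R ^ k, s ∉ Ideal.span {x} := by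
  by_contra! h
  haveI : (Ideal.span {x}).IsPrime := (Ideal.span_singleton_prime hxp.ne_zero).mpr hxp
  have hle : maximalIdeal R ≤ Ideal.span {x} := fun z hz =>
    ‹(Ideal.span {x}).IsPrime›.mem_of_pow_mem k (h _ (Ideal.pow_mem_pow hz k))
  have heq : maximalIdeal R = Ideal.span {x} :=
    le_antisymm hle (IsLocalRing.le_maximalIdeal (Ideal.IsPrime.ne_top inferInstance))
  have h1 : (maximalIdeal R).spanFinrank ≤ 1 := by
    rw [heq]
    exact (Submodule.spanFinrank_span_le_ncard_of_finite (Set.finite_singleton x)).trans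
      (Set.ncard_singleton x).le
  omega

theorem finrank_pi_self {R : Type u} [CommRing R] [IsDomain R] [IsNoetherianRing R] (M : Type v)
    [AddCommGroup M] [Module R M] [Module.Finite R M] :
    ∀ n : ℕ, Module.finrank R (Fin n → M) = n * Module.finrank R M := by
  intro n
  induction n with
  | zero => rw [Nat.zero_mul]; exact Module.finrank_zero_of_subsingleton
  | succ n ih =>
    let q : (Fin (n + 1) → M) →ₗ[R] M := LinearMap.proj 0
    have hq : Function.Surjective q := fun m => ⟨fun _ => m, rfl⟩
    let e : LinearMap.ker q ≃ₗ[R] (Fin n → M) :=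
      { toFun := fun v i => v.1 i.succ
        invFun := fun w => ⟨Fin.cons 0 w, by simp [q]⟩
        map_add' := fun _ _ => rfl
        map_smul' := fun _ _ => rfl
        left_inv := fun v => Subtype.ext (funext fun i => Fin.cases v.2.symm (fun i => by simp) i)
        right_inv := fun w => funext fun i => by simp }
    have h := Submodule.finrank_quotient_add_finrank (LinearMap.ker q)
    rw [(q.quotKerEquivOfSurjective hq).finrank_eq, e.finrank_eq, ih] at h
    rw [← h, Nat.add_mul, Nat.one_mul, Nat.add_comm]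

section Three

variable {M : Type u} [AddCommGroup M] [Module R M] {k : ℕ}

/-- Dimension three. -/
theorem free_of_eq_three (hd : (maximalIdeal R).spanFinrank = 3) (hM : Syz2 R M) (n : ℕ)
    (e : (M →ₗ[R] M) ≃ₗ[R] (Fin n → M))
    (hk : ∀ s ∈ maximalIdeal R ^ k, (s • LinearMap.id : M →ₗ[R] M) ∈ factor R M) :
    Module.Free R M := by
  classical
  haveI := Groth.Agent.Lib.Regular.Quotient.isDomain R
  haveI := hM.finite
  obtain ⟨x, hx, hxp, hreg, hdim⟩ := exists_parameter (R := R) (by omega)
  haveI := hreg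
  haveI := Groth.Agent.Lib.Regular.Quotient.isDomain (QR x)
  obtain ⟨b0, π, hπ, hmin⟩ := Groth.Agent.Lib.Regular.Serre.exists_minimal_cover (R := R) M
  let K := LinearMap.ker π
  obtain ⟨ga, gb, gf, ⟨ge⟩⟩ := id hM
  have hKsyz : Syz2 R K := by
    let π' : (Fin b0 → R) →ₗ[R] (Fin ga → R) := (LinearMap.ker gf).subtype ∘ₗ ge.toLinearMap ∘ₗ π
    have hker : LinearMap.ker π' = K := by
      ext v
      simp [π', K]
    exact ⟨b0, ga, π', ⟨LinearEquiv.ofEq _ _ hker.symm⟩⟩
  -- the syzygy is free, by reduction modulo `x`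
  haveI hKfree : Module.Free R K := by
    haveI := hKsyz.finite
    obtain ⟨s, hs, hsx⟩ := exists_pow_mem_notMem hxp (by omega) k
    obtain ⟨red, hred⟩ := exists_red (x := x) (M := M)
    have hs' : ((Ideal.Quotient.mk (Ideal.span {x}) s : QR x) • LinearMap.id :
        QM x M →ₗ[QR x] QM x M) ∈ factor (QR x) (QM x M) := by
      have := red_mem_factor red hred (hk s hs)
      rwa [show red (s • LinearMap.id) = (Ideal.Quotient.mk (Ideal.span {x}) s : QR x) • LinearMap.id from
        LinearMap.ext fun z => by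
          obtain ⟨z, rfl⟩ := qm_surjective z
          rw [hred, LinearMap.smul_apply, LinearMap.smul_apply, LinearMap.id_apply, LinearMap.id_apply,
            qm_smul]] at this
    haveI : Module.Finite (QR x) (QM x M) := Module.Finite.of_restrictScalars_finite R _ _
    haveI : Module.Finite (QR x) (Module.Dual (QR x) (QM x M)) := (syz2_dual (R := QR x) (QM x M)).finite
    obtain ⟨m, D, hD⟩ := Module.Finite.exists_fin' (QR x) (Module.Dual (QR x) (QM x M))
    let ev : QM x M →ₗ[QR x] (Fin m → QR x) := LinearMap.pi fun i => D (Pi.single i 1)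
    have hev : Function.Injective ev := by
      rw [injective_iff_map_eq_zero]
      intro z hz
      refine smul_eq_zero_imp hxp hM (r := Ideal.Quotient.mk (Ideal.span {x}) s)
        (fun h => hsx (Ideal.Quotient.eq_zero_iff_mem.mp h))
        (eq_zero_of_forall_dual hs' fun ψ => ?_)
      obtain ⟨c, rfl⟩ := hD ψ
      rw [pi_eq_sum_univ' c, map_sum, LinearMap.sum_apply]
      refine Finset.sum_eq_zero fun i _ => ?_
      rw [map_smul, LinearMap.smul_apply, show D (Pi.single i 1) z = 0 from congrFun hz i, smul_zero]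
    let q : (Fin b0 → QR x) →ₗ[QR x] (Fin m → QR x) :=
      ev ∘ₗ Fintype.linearCombination (QR x) fun i => qm (π (Pi.single i 1))
    have hq : ∀ v : Fin b0 → R, q (fun i => Ideal.Quotient.mk (Ideal.span {x}) (v i)) = ev (qm (π v)) :=
      fun v => by
      simp only [q, LinearMap.comp_apply, Fintype.linearCombination_apply, qm_smul, ← map_smul]
      rw [← map_sum, ← map_sum, ← pi_eq_sum_univ' v]
    have hsyz : Syz2 (QR x) (LinearMap.ker q) := ⟨b0, m, q, ⟨LinearEquiv.refl _ _⟩⟩
    haveI : Module.Free (QR x) (LinearMap.ker q) :=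
      free_of_le_two (by have := hdim; omega) _ hsyz
    let r0 : K →ₗ[R] (LinearMap.ker q) :=
      LinearMap.codRestrict ((LinearMap.ker q).restrictScalars R)
        ((LinearMap.pi fun i => (Algebra.linearMap R (QR x)) ∘ₗ LinearMap.proj i) ∘ₗ K.subtype)
        fun v => by
          change q (fun i => Ideal.Quotient.mk (Ideal.span {x}) (v.1 i)) = 0
          rw [hq, LinearMap.mem_ker.mp v.2, map_zero, map_zero]
    have hr0 : ∀ (v : K) i, ((r0 v : Fin b0 → QR x)) i = Ideal.Quotient.mk (Ideal.span {x}) (v.1 i) :=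
      fun v i => rfl
    let r1 : QM x K →ₗ[R] LinearMap.ker q := Submodule.liftQ _ r0 (by
      intro v hv
      rw [Submodule.ideal_span_singleton_smul, Submodule.mem_smul_pointwise_iff_exists] at hv
      obtain ⟨u, -, rfl⟩ := hv
      refine LinearMap.mem_ker.mpr (Subtype.ext (funext fun i => ?_))
      rw [hr0]
      exact Ideal.Quotient.eq_zero_iff_mem.mpr (Ideal.mul_mem_right _ _ (Ideal.mem_span_singleton_self x)))
    let r2 : QM x K →ₗ[QR x] LinearMap.ker q :=
      { toFun := r1
        map_add' := map_add _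
        map_smul' := fun r z => by
          obtain ⟨r, rfl⟩ := Ideal.Quotient.mk_surjective r
          exact map_smul r1 r z }
    have hb : Function.Bijective r2 := by
      refine ⟨(injective_iff_map_eq_zero r2).mpr fun z hz => ?_, fun z => ?_⟩
      · obtain ⟨v, rfl⟩ := qm_surjective z
        have hv : ∀ i, ∃ d, x * d = v.1 i := fun i => by
          have h1 : Ideal.Quotient.mk (Ideal.span {x}) (v.1 i) = 0 :=
            (hr0 v i).symm.trans (congrFun (congrArg Subtype.val hz) i)
          obtain ⟨d, hd⟩ := Ideal.mem_span_singleton'.mp (Ideal.Quotient.eq_zero_iff_mem.mp h1)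
          exact ⟨d, by rw [mul_comm, hd]⟩
        choose d hd using hv
        refine qm_eq_zero_iff.mpr ⟨⟨d, ?_⟩, Subtype.ext (funext fun i => (hd i).symm)⟩
        refine LinearMap.mem_ker.mpr ((hM.smul_regular hxp.ne_zero).right_eq_zero_of_smul ?_)
        rw [← map_smul, show x • d = (v : Fin b0 → R) from funext hd]
        exact v.2
      · choose v hv using fun i => Ideal.Quotient.mk_surjective ((z : Fin b0 → QR x) i)
        have h1 : qm (x := x) (π v) = 0 := hev (by rw [← hq, funext hv, map_zero]; exact z.2)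
        obtain ⟨u, hu⟩ := qm_eq_zero_iff.mp h1
        obtain ⟨u, rfl⟩ := hπ u
        refine ⟨qm ⟨v - x • u, ?_⟩, Subtype.ext (funext fun i => ?_)⟩
        · rw [LinearMap.mem_ker, map_sub, map_smul, hu, sub_self]
        · change Ideal.Quotient.mk (Ideal.span {x}) ((v - x • u) i) = _
          rw [Pi.sub_apply, map_sub, hv, Pi.smul_apply, smul_eq_mul,
            Ideal.Quotient.eq_zero_iff_mem.mpr (Ideal.mul_mem_right _ _ (Ideal.mem_span_singleton_self x)),
            sub_zero]
    haveI : Module.Free (QR x) (QM x K) := Module.Free.of_equiv (LinearEquiv.ofBijective r2 hb).symm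
    exact free_of_quotient hx (hKsyz.smul_regular hxp.ne_zero)
  haveI : Module.Finite R K := hKsyz.finite
  let bK := Module.finBasis R K
  set b1 := Module.finrank R K
  let c : Fin b1 → Fin b0 → R := fun j => (bK j : Fin b0 → R)
  have hcm : ∀ j i, c j i ∈ maximalIdeal R := fun j i => hmin _ (bK j).2 i
  have hc : Submodule.span R (Set.range c) = LinearMap.ker π := by
    rw [show c = K.subtype ∘ bK from rfl, Set.range_comp, ← Submodule.map_span, bK.span_eq,
      Submodule.map_subtype_top]
  by_cases hb1 : b1 = 0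
  · have hbot : LinearMap.ker π = ⊥ := by
      rw [← hc]
      haveI : IsEmpty (Fin b1) := by rw [hb1]; infer_instance
      rw [Set.range_eq_empty, Submodule.span_empty]
    exact Module.Free.of_equiv (LinearEquiv.ofBijective π ⟨LinearMap.ker_eq_bot.mp hbot, hπ⟩)
  by_cases hsub : Subsingleton M
  · exact Module.Free.of_subsingleton R M
  haveI : Nontrivial M := not_subsingleton_iff_nontrivial.mp hsub
  exfalso
  let α := pairing c M
  obtain ⟨θ⟩ := exists_homEquiv π hπ c hc M α fun v j => pairing_apply c v j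
  let I := LinearMap.range α
  let E := (Fin b1 → M) ⧸ I
  -- `E` is killed by a power of the maximal ideal
  have hE : ∀ s ∈ maximalIdeal R ^ k, ∀ z : E, s • z = 0 := by
    intro s hs z
    obtain ⟨w, rfl⟩ := Submodule.Quotient.mk_surjective _ z
    rw [← Submodule.Quotient.mk_smul, Submodule.Quotient.mk_eq_zero]
    obtain ⟨σ, hσ⟩ := exists_lift π hπ (hk s hs)
    let ρ : (Fin b0 → R) →ₗ[R] K := LinearMap.codRestrict K (s • LinearMap.id - σ ∘ₗ π) fun v => by
      rw [LinearMap.mem_ker, LinearMap.sub_apply, map_sub, LinearMap.comp_apply,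
        show π (σ (π v)) = (s • LinearMap.id : M →ₗ[R] M) (π v) from LinearMap.congr_fun hσ (π v)]
      simp
    let φ : K →ₗ[R] M := bK.constr R w
    refine ⟨fun i => φ (ρ (Pi.single i 1)), funext fun j => ?_⟩
    rw [pairing_apply]
    have h1 : ∑ i, c j i • φ (ρ (Pi.single i 1)) = φ (ρ (c j)) := by
      conv_rhs => rw [pi_eq_sum_univ' (c j)]
      simp only [map_sum, map_smul]
    have h2 : ρ (c j) = s • bK j := Subtype.ext (by
      simp [ρ, c, LinearMap.mem_ker.mp (bK j).2])
    rw [h1, h2, map_smul, Pi.smul_apply, Module.Basis.constr_basis]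
  -- `E` is not zero
  have hE0 : Module.length R E ≠ 0 := by
    rw [ne_eq, Module.length_eq_zero_iff]
    intro hs
    haveI : Nonempty (Fin b1) := ⟨⟨0, by omega⟩⟩
    obtain ⟨j0⟩ := ‹Nonempty (Fin b1)›
    have hne : (⊤ : Submodule R M) ≠ maximalIdeal R • ⊤ := fun h => by
      have := Submodule.eq_bot_of_le_smul_of_le_jacobson_bot (maximalIdeal R) (⊤ : Submodule R M)
        Module.Finite.fg_top h.le (IsLocalRing.jacobson_eq_maximalIdeal ⊥ bot_ne_top).ge
      exact top_ne_bot this
    refine hne (le_antisymm (fun m _ => ?_) le_top)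
    obtain ⟨v, hv⟩ := (Submodule.Quotient.mk_eq_zero I).mp (hs.elim (Submodule.Quotient.mk (Pi.single j0 m)) 0)
    have h1 := congrFun hv j0
    rw [pairing_apply, Pi.single_eq_same] at h1
    rw [← h1]
    exact Submodule.sum_mem _ fun i _ => Submodule.smul_mem_smul (hcm j0 i) trivial
  -- the ranks
  have hrank : n + b1 = b0 := by
    haveI : Module.IsTorsionFree R M := ⟨fun r hr => hM.smul_regular hr.ne_zero⟩
    have hEt : Module.finrank R E = 0 := by
      obtain ⟨s, hs, hs0⟩ := exists_pow_mem_notMem hxp (by omega) k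
      have hs' : s ≠ 0 := fun h => hs0 (h ▸ zero_mem _)
      rw [Module.finrank_eq_zero_iff_isTorsion]
      exact fun {z} => ⟨⟨s, mem_nonZeroDivisors_of_ne_zero hs'⟩, hE s hs z⟩
    have h1 := Submodule.finrank_quotient_add_finrank (LinearMap.ker α)
    rw [α.quotKerEquivRange.finrank_eq, ← (e.symm.trans θ).finrank_eq, finrank_pi_self, finrank_pi_self] at h1
    have h2 := Submodule.finrank_quotient_add_finrank I
    rw [hEt, finrank_pi_self] at h2
    simp only [zero_add] at h2
    have hpos : 0 < Module.finrank R M := Module.finrank_pos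
    rw [h2, ← Nat.add_mul] at h1
    have := Nat.eq_of_mul_eq_mul_right hpos h1
    omega
  -- the lengths
  let m := maximalIdeal R
  let ι0 : (M →ₗ[R] M) →ₗ[R] (Fin b0 → M) := (LinearMap.ker α).subtype ∘ₗ θ.toLinearMap
  have hι0 : Function.Injective ι0 := (Submodule.injective_subtype _).comp θ.injective
  have hαs : Function.Surjective α.rangeRestrict := α.surjective_rangeRestrict
  have hex1 : Function.Exact ι0 α.rangeRestrict := by
    rw [LinearMap.exact_iff, LinearMap.ker_rangeRestrict, LinearMap.range_comp, LinearEquiv.range,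
      Submodule.map_subtype_top]
  have hex2 : Function.Exact I.subtype I.mkQ := LinearMap.exact_subtype_mkQ I
  obtain ⟨a2, ha2, c2, hc2, hpair⟩ := hM.isD2 (by rw [ringKrullDim_eq, hd]; norm_num) 1
  rw [pow_one] at ha2 hc2
  have hM0 : ∀ i < 2, Subsingleton (LocCoh.H m i M) := subsingleton_H_of_pair ha2 hc2 hpair
  have hR2 : Subsingleton (LocCoh.H m 2 R) := subsingleton_H_self (by omega)
  haveI hart : IsArtinian R (LocCoh.H m 2 M) := Groth.Agent.Lib.LCFin.Artinian.isArtinian_H 2 M
  have hkill : ∀ s ∈ m ^ k, ∀ z : LocCoh.H m 2 M, s • z = 0 := fun s hs z =>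
    smul_H_eq_zero hR2 (hk s hs) z
  have hfin : Module.length R (LocCoh.H m 2 M) ≠ ⊤ := by
    rw [Module.length_ne_top_iff, isFiniteLength_iff_isNoetherian_isArtinian]
    refine ⟨?_, hart⟩
    let H2 := LocCoh.H m 2 M
    let J := m ^ k
    have htor : Module.IsTorsionBySet R H2 (J : Set R) := fun z s => hkill s.1 s.2 z
    letI := htor.module
    haveI := htor.isScalarTower (S := R)
    haveI : IsArtinianRing (R ⧸ J) := by
      haveI : Ring.KrullDimLE 0 (R ⧸ J) := Ring.KrullDimLE.mk₀ fun P hP => by
        have hQ : (P.comap (Ideal.Quotient.mk J)).IsMaximal := by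
          have h1 : m ≤ P.comap (Ideal.Quotient.mk J) := fun z hz =>
            (Ideal.IsPrime.comap (Ideal.Quotient.mk J)).mem_of_pow_mem k (by
              rw [Ideal.mem_comap, Ideal.Quotient.eq_zero_iff_mem.mpr (Ideal.pow_mem_pow hz k)]
              exact zero_mem _)
          rw [← (maximalIdeal.isMaximal R).eq_of_le (Ideal.IsPrime.comap _).ne_top h1]
          exact maximalIdeal.isMaximal R
        rw [← Ideal.map_comap_of_surjective _ Ideal.Quotient.mk_surjective P]
        refine (Ideal.map_eq_top_or_isMaximal_of_surjective _ Ideal.Quotient.mk_surjective hQ).resolve_left ?_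
        rw [Ideal.map_comap_of_surjective _ Ideal.Quotient.mk_surjective]
        exact hP.ne_top
      exact IsNoetherianRing.isArtinianRing_of_krullDimLE_zero
    haveI : IsArtinian (R ⧸ J) H2 := isArtinian_of_tower R hart
    haveI : IsNoetherian (R ⧸ J) H2 := IsSemiprimaryRing.isNoetherian_iff_isArtinian.mpr inferInstance
    have hl : Module.length R H2 = Module.length (R ⧸ J) H2 :=
      Module.length_eq_of_surjective Ideal.Quotient.mk_surjective
    exact (isFiniteLength_iff_isNoetherian_isArtinian.mp (Module.length_ne_top_iff.mp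
      (hl.trans_ne (Module.length_ne_top_iff.mpr
        (isFiniteLength_iff_isNoetherian_isArtinian.mpr ⟨inferInstance, inferInstance⟩))))).1
  obtain ⟨eP⟩ := exists_piEquiv (I := m) (M := M) 2 b0
  obtain ⟨eQ⟩ := exists_piEquiv (I := m) (M := M) 2 b1
  obtain ⟨eN⟩ := exists_piEquiv (I := m) (M := M) 2 n
  let eEnd : LocCoh.H m 2 (M →ₗ[R] M) ≃ₗ[R] LocCoh.H m 2 (Fin n → M) :=
    LinearEquiv.ofLinear (Hmap m 2 e.toLinearMap) (Hmap m 2 e.symm.toLinearMap)
      (by rw [← Hmap_comp, e.comp_symm, Hmap_id]) (by rw [← Hmap_comp, e.symm_comp, Hmap_id])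
  have hS0 := subsingleton_H_pi 0 b1 (hM0 0 two_pos)
  have hS1 := subsingleton_H_pi 1 b1 (hM0 1 one_lt_two)
  have hE1 : Subsingleton (LocCoh.H m 1 E) := subsingleton_H_of_killed 0 k hE
  let d0 := Groth.Agent.Lib.LCFin.Seq.δ m I.injective_subtype I.mkQ_surjective hex2 0
  have hd0 : Function.Bijective d0 := by
    refine ⟨(injective_iff_map_eq_zero d0).mpr fun z hz => ?_, fun z => ?_⟩
    · obtain ⟨y, rfl⟩ := (exact_map_δ m I.injective_subtype I.mkQ_surjective hex2 0 z).1 hz
      rw [hS0.elim y 0, map_zero]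
    · exact (exact_δ_map m I.injective_subtype I.mkQ_surjective hex2 0 z).1 (hS1.elim _ _)
  have hIinj : Function.Injective (Hmap m 2 I.subtype) := by
    rw [injective_iff_map_eq_zero]
    intro z hz
    obtain ⟨y, rfl⟩ := (exact_δ_map m I.injective_subtype I.mkQ_surjective hex2 1 z).1 hz
    rw [hE1.elim y 0, map_zero]
  let d1 := Groth.Agent.Lib.LCFin.Seq.δ m hι0 hαs hex1 1
  have hd1 : Function.Injective d1 := by
    rw [injective_iff_map_eq_zero]
    intro z hz
    obtain ⟨y, rfl⟩ := (exact_map_δ m hι0 hαs hex1 1 z).1 hz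
    rw [(subsingleton_H_pi 1 b0 (hM0 1 one_lt_two)).elim y 0, map_zero]
  set ℓ := Module.length R (LocCoh.H m 2 M) with hℓ
  have hlE : Module.length R (LocCoh.H m 1 I) = Module.length R E := by
    rw [← length_H_zero_of_killed k hE]
    exact (LinearEquiv.ofBijective d0 hd0).length_eq.symm
  let f1 := Hmap m 2 ι0
  have hA : Module.length R (LocCoh.H m 2 (M →ₗ[R] M)) =
      Module.length R E + Module.length R (LinearMap.range f1) := by
    rw [← hlE]
    refine Module.length_eq_add_of_exact d1 f1.rangeRestrict hd1 f1.surjective_rangeRestrict ?_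
    rw [LinearMap.exact_iff, LinearMap.ker_rangeRestrict]
    exact LinearMap.exact_iff.mp (exact_δ_map m hι0 hαs hex1 1)
  let g1 := Hmap m 2 α.rangeRestrict
  have hB : Module.length R (LocCoh.H m 2 (Fin b0 → M)) =
      Module.length R (LinearMap.range f1) + Module.length R (LinearMap.range g1) := by
    refine Module.length_eq_add_of_exact (LinearMap.range f1).subtype g1.rangeRestrict
      (Submodule.injective_subtype _) g1.surjective_rangeRestrict ?_
    rw [LinearMap.exact_iff, LinearMap.ker_rangeRestrict, Submodule.range_subtype]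
    exact LinearMap.exact_iff.mp (exact_map_map m hι0 hαs hex1 2)
  have hC : Module.length R (LinearMap.range g1) ≤ Module.length R (LocCoh.H m 2 (Fin b1 → M)) :=
    Module.length_le_of_injective (Hmap m 2 I.subtype ∘ₗ (LinearMap.range g1).subtype)
      (hIinj.comp (Submodule.injective_subtype _))
  rw [eEnd.length_eq, eN.length_eq, Module.length_pi_of_fintype, Finset.sum_const, Finset.card_univ,
    Fintype.card_fin, nsmul_eq_mul] at hA
  rw [eP.length_eq, Module.length_pi_of_fintype, Finset.sum_const, Finset.card_univ,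
    Fintype.card_fin, nsmul_eq_mul, show (b0 : ℕ∞) = n + b1 by rw [← Nat.cast_add, hrank], add_mul] at hB
  rw [eQ.length_eq, Module.length_pi_of_fintype, Finset.sum_const, Finset.card_univ,
    Fintype.card_fin, nsmul_eq_mul] at hC
  rw [← hℓ] at hA hB hC
  have hfA : (n : ℕ∞) * ℓ ≠ ⊤ := WithTop.mul_ne_top (ENat.coe_ne_top n) hfin
  have hfC : (b1 : ℕ∞) * ℓ ≠ ⊤ := WithTop.mul_ne_top (ENat.coe_ne_top b1) hfin
  lift ℓ to ℕ using hfin with l
  have hfE : Module.length R E ≠ ⊤ := fun h => hfA (by rw [hA, h]; simp)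
  lift Module.length R E to ℕ using hfE with eE
  have hfI : Module.length R (LinearMap.range f1) ≠ ⊤ := fun h => hfA (by rw [hA, h]; simp)
  lift Module.length R (LinearMap.range f1) to ℕ using hfI with i1
  have hfG : Module.length R (LinearMap.range g1) ≠ ⊤ := fun h => hfC (top_le_iff.mp (h ▸ hC))
  lift Module.length R (LinearMap.range g1) to ℕ using hfG with i2
  norm_cast at hA hB hC hE0
  omega

end Three

end Groth.Agent.Lib.Purity.Auslander
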