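import Groth.Agent.Lib.Purity.D2
import Groth.Agent.Lib.LCFin.Seq
import Groth.Agent.Lib.LCFin.Artinian
import Groth.Agent.Lib.LocalCoh.Torsion
import Groth.Agent.Lib.Depth.LocalCoh
import Mathlib.RingTheory.Length

/-!
# Local cohomology facts and maps factoring through free modules
-/

set_option autoImplicit false

universe u v

open IsLocalRing CategoryTheory Groth.Agent.Lib.LocalCoh

namespace Groth.Agent.Lib.Purity.Basic

open Groth.Agent.Lib.Purity.D2 Groth.Agent.Lib.LCFin.Seq

section H

variable {R : Type u} [CommRing R] [IsNoetherianRing R] {I : Ideal R}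
variable {M N : Type u} [AddCommGroup M] [Module R M] [AddCommGroup N] [Module R N]

omit [IsNoetherianRing R] in
lemma Hmap_add (i : ℕ) (f g : M →ₗ[R] N) : Hmap I i (f + g) = Hmap I i f + Hmap I i g := by
  rw [Hmap, Hmap, Hmap, ModuleCat.ofHom_add, Functor.map_add]
  rfl

omit [IsNoetherianRing R] in
lemma Hmap_zero (i : ℕ) : Hmap I i (0 : M →ₗ[R] N) = 0 := by
  rw [Hmap, ModuleCat.ofHom_zero, Functor.map_zero]
  rfl

omit [IsNoetherianRing R] in
lemma Hmap_smul (i : ℕ) (r : R) (f : M →ₗ[R] N) (z : LocCoh.H I i M) :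
    Hmap I i (r • f) z = r • Hmap I i f z := by
  rw [show r • f = LinearMap.lsmul R N r ∘ₗ f from LinearMap.ext fun _ => rfl, Hmap_comp,
    LinearMap.comp_apply, Hmap_lsmul]

omit [IsNoetherianRing R] in
lemma Hmap_sum (i : ℕ) {ι : Type v} (s : Finset ι) (f : ι → M →ₗ[R] N) :
    Hmap I i (∑ x ∈ s, f x) = ∑ x ∈ s, Hmap I i (f x) := by
  classical
  induction s using Finset.induction_on with
  | empty => simp [Hmap_zero]
  | insert x s hx ih => rw [Finset.sum_insert hx, Finset.sum_insert hx, Hmap_add, ih]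

omit [IsNoetherianRing R] in
/-- Local cohomology of a finite power. -/
theorem exists_piEquiv (i n : ℕ) :
    Nonempty (LocCoh.H I i (Fin n → M) ≃ₗ[R] (Fin n → LocCoh.H I i M)) := by
  classical
  refine ⟨LinearEquiv.ofLinear
    (LinearMap.pi fun j => Hmap I i (LinearMap.proj j))
    (∑ j, Hmap I i (LinearMap.single R (fun _ => M) j) ∘ₗ LinearMap.proj j) ?_ ?_⟩
  · refine LinearMap.ext fun z => funext fun j => ?_
    simp only [LinearMap.comp_apply, LinearMap.pi_apply, LinearMap.sum_apply, LinearMap.proj_apply,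
      map_sum, LinearMap.id_apply]
    rw [Finset.sum_eq_single j, ← LinearMap.comp_apply, ← Hmap_comp,
      show LinearMap.proj j ∘ₗ LinearMap.single R (fun _ => M) j = LinearMap.id by ext; simp,
      Hmap_id, LinearMap.id_apply]
    · intro l _ hl
      rw [← LinearMap.comp_apply, ← Hmap_comp,
        show LinearMap.proj j ∘ₗ LinearMap.single R (fun _ => M) l = 0 by
          ext; simp [Pi.single_eq_of_ne (Ne.symm hl)],
        Hmap_zero, LinearMap.zero_apply]
    · exact fun h => absurd (Finset.mem_univ j) h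
  · refine LinearMap.ext fun z => ?_
    simp only [LinearMap.comp_apply, LinearMap.pi_apply, LinearMap.sum_apply, LinearMap.proj_apply,
      LinearMap.id_apply]
    simp only [← LinearMap.comp_apply (Hmap I i _) (Hmap I i _), ← Hmap_comp]
    rw [← LinearMap.sum_apply, ← Hmap_sum,
      show (∑ j, LinearMap.single R (fun _ => M) j ∘ₗ LinearMap.proj j) = LinearMap.id from
        LinearMap.ext fun v => by simp [Finset.univ_sum_single],
      Hmap_id, LinearMap.id_apply]

omit [IsNoetherianRing R] in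
theorem subsingleton_H_pi (i n : ℕ) (h : Subsingleton (LocCoh.H I i M)) :
    Subsingleton (LocCoh.H I i (Fin n → M)) := by
  obtain ⟨e⟩ := exists_piEquiv (I := I) (M := M) i n
  exact e.toEquiv.subsingleton

theorem subsingleton_H_of_killed (i : ℕ) (k : ℕ) (h : ∀ s ∈ I ^ k, ∀ z : M, s • z = 0) :
    Subsingleton (LocCoh.H I (i + 1) M) :=
  lc_subsingleton_of_isPowerTorsion I i (ModuleCat.of R M) fun z => ⟨k, fun a ha => h a ha z⟩

omit [IsNoetherianRing R] in
theorem length_H_zero_of_killed (k : ℕ) (h : ∀ s ∈ I ^ k, ∀ z : M, s • z = 0) :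
    Module.length R (LocCoh.H I 0 M) = Module.length R M := by
  rw [(((lcZeroIso I).app (ModuleCat.of R M)).toLinearEquiv).length_eq]
  exact (LinearEquiv.ofBijective ((DRing.gammaIι I).app (ModuleCat.of R M)).hom
    ⟨Subtype.val_injective, fun m => ⟨⟨m, k, fun a ha => h a ha m⟩, rfl⟩⟩).length_eq

end H

section Regular

variable {R : Type u} [CommRing R]

open RingTheory.Sequence

theorem subsingleton_H_of_pair {a b : R} {I : Ideal R} (ha : a ∈ I) (hb : b ∈ I) [IsNoetherianRing R]
    {M : Type u} [AddCommGroup M] [Module R M] (h : Pair a b M) (i : ℕ) (hi : i < 2) :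
    Subsingleton (LocCoh.H I i M) := by
  refine Groth.Agent.Lib.Depth.LocalCoh.subsingleton_H_of_isWeaklyRegular I (M := ModuleCat.of R M)
    (rs := [a, b]) ?_ (by simp [ha, hb]) (by simpa using hi)
  rw [isWeaklyRegular_cons_iff, isWeaklyRegular_singleton_iff]
  refine ⟨h.reg, IsSMulRegular.of_right_eq_zero_of_smul fun z hz => ?_⟩
  obtain ⟨z, rfl⟩ := Submodule.Quotient.mk_surjective _ z
  rw [← Submodule.Quotient.mk_smul, Submodule.Quotient.mk_eq_zero,
    Submodule.mem_smul_pointwise_iff_exists] at hz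
  obtain ⟨w, -, hw⟩ := hz
  obtain ⟨u, hu⟩ := h.div z w hw.symm
  rw [Submodule.Quotient.mk_eq_zero, Submodule.mem_smul_pointwise_iff_exists]
  exact ⟨u, trivial, hu.symm⟩

theorem subsingleton_H_self [IsRegularLocalRing R] {i : ℕ} (hi : i < (maximalIdeal R).spanFinrank) :
    Subsingleton (LocCoh.H (maximalIdeal R) i R) := by
  classical
  have hfg : (maximalIdeal R).FG := IsNoetherian.noetherian _
  obtain ⟨rs, hrs, hlen⟩ : ∃ rs : List R,
      Ideal.ofList rs = maximalIdeal R ∧ rs.length = (maximalIdeal R).spanFinrank := by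
    refine ⟨(Submodule.FG.finite_generators hfg).toFinset.toList, ?_, ?_⟩
    · simp only [Ideal.ofList, Finset.mem_toList, Set.Finite.mem_toFinset, Set.ofPred_mem_eq]
      exact Submodule.span_generators _
    · rw [Finset.length_toList,
        ← Set.ncard_eq_toFinset_card _ (Submodule.FG.finite_generators hfg),
        Submodule.FG.generators_ncard hfg]
  exact Groth.Agent.Lib.Depth.LocalCoh.subsingleton_H_of_isWeaklyRegular (maximalIdeal R) (M := ModuleCat.of R R)
    (Groth.Agent.Lib.Regular.Quotient.isRegular_of_span_eq_maximalIdeal rs hrs hlen).toIsWeaklyRegular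
    (fun r hr => hrs ▸ Ideal.subset_span hr) (hlen ▸ hi)

end Regular

section Factor

variable (R : Type u) [CommRing R] (M : Type v) [AddCommGroup M] [Module R M]

/-- Endomorphisms factoring through a finite free module. -/
def factor : Submodule R (M →ₗ[R] M) :=
  Submodule.span R {h | ∃ (φ : M →ₗ[R] R) (m : M), h = φ.smulRight m}

variable {R M}

lemma smulRight_mem (φ : M →ₗ[R] R) (m : M) : φ.smulRight m ∈ factor R M :=
  Submodule.subset_span ⟨φ, m, rfl⟩

lemma factor_induction {P : (M →ₗ[R] M) → Prop}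
    (h : ∀ (φ : M →ₗ[R] R) (m : M), P (φ.smulRight m)) (h0 : P 0)
    (hadd : ∀ f g, P f → P g → P (f + g)) (hsmul : ∀ (r : R) f, P f → P (r • f))
    {f : M →ₗ[R] M} (hf : f ∈ factor R M) : P f := by
  refine Submodule.span_induction ?_ h0 (fun a b _ _ => hadd a b) (fun r a _ => hsmul r a) hf
  rintro _ ⟨φ, m, rfl⟩
  exact h φ m

theorem eq_zero_of_forall_dual {s : R} (hs : (s • LinearMap.id : M →ₗ[R] M) ∈ factor R M) {z : M}
    (hz : ∀ ψ : M →ₗ[R] R, ψ z = 0) : s • z = 0 := by
  suffices h : ∀ f ∈ factor R M, f z = 0 from h _ hs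
  intro f hf
  refine factor_induction (P := fun f => f z = 0) (fun φ m => by simp [hz φ]) (by simp)
    (fun f g hf hg => by simp [hf, hg]) (fun r f hf => by simp [hf]) hf

/-- `s` times a functional on the dual is an evaluation. -/
theorem exists_eval {s : R} (hs : (s • LinearMap.id : M →ₗ[R] M) ∈ factor R M)
    (Φ : Module.Dual R (Module.Dual R M)) : ∃ m : M, s • Φ = Module.Dual.eval R M m := by
  suffices h : ∀ f ∈ factor R M, ∃ m : M, ∀ ψ : M →ₗ[R] R, Φ (ψ ∘ₗ f) = ψ m by
    obtain ⟨m, hm⟩ := h _ hs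
    refine ⟨m, LinearMap.ext fun ψ => ?_⟩
    rw [Module.Dual.eval_apply, ← hm ψ, LinearMap.smul_apply, LinearMap.comp_smul, map_smul,
      LinearMap.comp_id]
  intro f hf
  refine factor_induction (P := fun f => ∃ m : M, ∀ ψ : M →ₗ[R] R, Φ (ψ ∘ₗ f) = ψ m)
    (fun φ m => ⟨Φ φ • m, fun ψ => ?_⟩) ⟨0, fun ψ => by simp⟩ ?_ ?_ hf
  · rw [show ψ ∘ₗ φ.smulRight m = ψ m • φ from LinearMap.ext fun y => by simp [mul_comm],
      map_smul, map_smul, smul_eq_mul, smul_eq_mul, mul_comm]
  · rintro f g ⟨m, hm⟩ ⟨m', hm'⟩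
    exact ⟨m + m', fun ψ => by rw [LinearMap.comp_add, map_add, hm, hm', map_add]⟩
  · rintro r f ⟨m, hm⟩
    exact ⟨r • m, fun ψ => by rw [LinearMap.comp_smul, map_smul, hm, map_smul]⟩

/-- A factorizable map lifts through any map hitting all of the target. -/
theorem exists_lift {F : Type v} [AddCommGroup F] [Module R F] (π : F →ₗ[R] M)
    (hπ : Function.Surjective π) {f : M →ₗ[R] M} (hf : f ∈ factor R M) :
    ∃ σ : M →ₗ[R] F, π ∘ₗ σ = f := by
  refine factor_induction (P := fun f => ∃ σ : M →ₗ[R] F, π ∘ₗ σ = f) (fun φ m => ?_)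
    ⟨0, LinearMap.comp_zero _⟩ ?_ ?_ hf
  · obtain ⟨v, rfl⟩ := hπ m
    exact ⟨φ.smulRight v, LinearMap.ext fun y => by simp⟩
  · rintro f g ⟨σ, hσ⟩ ⟨τ, hτ⟩
    exact ⟨σ + τ, by rw [LinearMap.comp_add, hσ, hτ]⟩
  · rintro r f ⟨σ, hσ⟩
    exact ⟨r • σ, by rw [LinearMap.comp_smul, hσ]⟩

theorem smul_H_eq_zero {R : Type u} [CommRing R] {M : Type u} [AddCommGroup M] [Module R M]
    {I : Ideal R} {i : ℕ} (hR : Subsingleton (LocCoh.H I i R)) {s : R}
    (hs : (s • LinearMap.id : M →ₗ[R] M) ∈ factor R M) (z : LocCoh.H I i M) : s • z = 0 := by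
  suffices h : ∀ f ∈ factor R M, Hmap I i f z = 0 by
    have h1 := h _ hs
    rwa [Hmap_smul, Hmap_id, LinearMap.id_apply] at h1
  intro f hf
  refine factor_induction (P := fun f => Hmap I i f z = 0) (fun φ m => ?_) ?_ ?_ ?_ hf
  · rw [show φ.smulRight m = LinearMap.toSpanSingleton R M m ∘ₗ φ from LinearMap.ext fun y => by simp,
      Hmap_comp, LinearMap.comp_apply, hR.elim (Hmap I i φ z) 0, map_zero]
  · rw [Hmap_zero, LinearMap.zero_apply]
  · intro f g hf hg
    rw [Hmap_add, LinearMap.add_apply, hf, hg, add_zero]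
  · intro r f hf
    rw [Hmap_smul, hf, smul_zero]

variable [IsNoetherianRing R] [Module.Finite R M]

/-- A finite module with free localization has a factorizable multiple of the identity. -/
theorem exists_notMem_factor (p : Ideal R) [p.IsPrime]
    (hfree : Module.Free (Localization.AtPrime p) (LocalizedModule p.primeCompl M)) :
    ∃ s : R, s ∉ p ∧ (s • LinearMap.id : M →ₗ[R] M) ∈ factor R M := by
  classical
  haveI : Module.FinitePresentation R M := Module.finitePresentation_of_finite R M
  let Rp := Localization.AtPrime p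
  let Mp := LocalizedModule p.primeCompl M
  let g := LocalizedModule.mkLinearMap p.primeCompl M
  haveI : Module.Finite Rp Mp := Module.Finite.of_isLocalizedModule p.primeCompl g
  let b := Module.finBasis Rp Mp
  choose q hq using fun i => IsLocalizedModule.surj p.primeCompl g (b i)
  let φp : Fin (Module.finrank Rp Mp) → (M →ₗ[R] Rp) := fun i =>
    ((b.coord i).restrictScalars R) ∘ₗ g
  choose φ t hφ using fun i =>
    Module.FinitePresentation.exists_lift_of_isLocalizedModule p.primeCompl
      (Algebra.linearMap R Rp) (φp i)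
  let T : p.primeCompl := (∏ i, t i) * ∏ i, (q i).2
  let c : Fin (Module.finrank Rp Mp) → R := fun i =>
    (∏ j ∈ Finset.univ.erase i, (t j : R)) * ∏ j ∈ Finset.univ.erase i, ((q j).2 : R)
  let F : M →ₗ[R] M := ∑ i, c i • (φ i).smulRight (q i).1
  have hF : F ∈ factor R M := Submodule.sum_mem _ fun i _ => Submodule.smul_mem _ _ (smulRight_mem _ _)
  have hgF : g ∘ₗ F = g ∘ₗ ((T : R) • LinearMap.id) := by
    refine LinearMap.ext fun m => ?_
    have hb : g m = ∑ i, b.coord i (g m) • b i := (b.sum_repr (g m)).symm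
    simp only [F, LinearMap.comp_apply, LinearMap.sum_apply, LinearMap.smul_apply,
      LinearMap.smulRight_apply, map_sum, map_smul, LinearMap.id_apply]
    rw [hb, Finset.smul_sum]
    refine Finset.sum_congr rfl fun i _ => ?_
    have h1 : ((q i).2 : R) • b i = g (q i).1 := hq i
    have h2 : algebraMap R Rp (φ i m) = (t i : R) • b.coord i (g m) := LinearMap.congr_fun (hφ i) m
    have hT : (T : R) = c i * ((t i : R) * ((q i).2 : R)) := by
      simp only [T, c, Submonoid.coe_mul, SubmonoidClass.coe_finsetProd]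
      rw [← Finset.prod_erase_mul _ _ (Finset.mem_univ i),
        ← Finset.prod_erase_mul _ (fun j => ((q j).2 : R)) (Finset.mem_univ i)]
      ring
    change c i • (φ i m • g (q i).1) = (T : R) • (b.coord i (g m) • b i)
    rw [hT, mul_smul (c i) _ _]
    congr 1
    rw [← h1, ← algebraMap_smul Rp (φ i m), h2, smul_assoc, mul_smul]
    congr 1
    exact smul_comm _ _ _
  obtain ⟨u, hu⟩ := Module.Finite.exists_smul_of_comp_eq_of_isLocalizedModule p.primeCompl g _ _ hgF
  refine ⟨(u : R) * T, p.primeCompl.mul_mem u.2 T.2, ?_⟩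
  rw [mul_smul]
  change u • ((T : R) • LinearMap.id : M →ₗ[R] M) ∈ factor R M
  rw [← hu]
  exact Submodule.smul_mem _ _ hF

/-- If all localizations at non-maximal primes are free, a power of the maximal ideal consists of
factorizable multipliers. -/
theorem exists_pow_factor [IsLocalRing R]
    (h : ∀ (p : Ideal R) [p.IsPrime], p ≠ maximalIdeal R →
      Module.Free (Localization.AtPrime p) (LocalizedModule p.primeCompl M)) :
    ∃ k, ∀ s ∈ maximalIdeal R ^ k, (s • LinearMap.id : M →ₗ[R] M) ∈ factor R M := by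
  let J : Ideal R := (factor R M).comap (LinearMap.toSpanSingleton R _ LinearMap.id)
  have hrad : maximalIdeal R ≤ J.radical := by
    rw [Ideal.radical_eq_sInf]
    refine le_sInf fun p ⟨hJp, hp⟩ => ?_
    by_contra hne
    haveI := hp
    obtain ⟨s, hsp, hs⟩ := exists_notMem_factor p (h p fun e => hne (e ▸ le_rfl))
    exact hsp (hJp hs)
  obtain ⟨k, hk⟩ := Ideal.exists_pow_le_of_le_radical_of_fg hrad (IsNoetherian.noetherian _)
  exact ⟨k, fun s hs => hk hs⟩

end Factor

end Groth.Agent.Lib.Purity.Basic
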