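import Groth.Agent.Lib.Purity.Galois
import Groth.Agent.Lib.Dim.Integral

/-!
# Purity of the branch locus for Galois extensions
-/

set_option autoImplicit false

universe u v w

open scoped Pointwise

namespace Groth.Agent.Lib.Purity.Branch

open Groth.Agent.Lib.Purity.Galois

variable {R : Type u} [CommRing R] [IsRegularLocalRing R] {A : Type v} [CommRing A] [IsDomain A]
  [IsIntegrallyClosed A] [Algebra R A] [Module.Finite R A]
  {H : Type w} [Group H] [Finite H] [MulSemiringAction H A] [SMulCommClass H R A] [FaithfulSMul H A]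

/-- The subgroup generated by the inertia groups at height one. -/
abbrev inertiaSpan (A : Type v) [CommRing A] (H : Type w) [Group H] [MulSemiringAction H A] :
    Subgroup H :=
  ⨆ P : {P : Ideal A // P.IsPrime ∧ P.height = 1}, P.1.inertia H

omit [IsDomain A] [IsIntegrallyClosed A] [Finite H] in
lemma inertia_le_inertiaSpan {P : Ideal A} (hP : P.IsPrime) (h1 : P.height = 1) :
    P.inertia H ≤ inertiaSpan A H :=
  le_iSup (fun P : {P : Ideal A // P.IsPrime ∧ P.height = 1} => P.1.inertia H) ⟨P, hP, h1⟩

omit [IsDomain A] [IsIntegrallyClosed A] [Finite H] in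
instance normal : (inertiaSpan A H).Normal := by
  refine ⟨fun x hx g => ?_⟩
  suffices h : inertiaSpan A H ≤ (inertiaSpan A H).comap (MulAut.conj g).toMonoidHom from h hx
  refine iSup_le fun P y hy => ?_
  obtain ⟨P, hP, h1⟩ := P
  have hP' : (g • P).IsPrime := hP.smul g
  have h1' : (g • P).height = 1 := by
    have e : g • P = P.comap (MulSemiringAction.toRingEquiv H A g).symm := by
      ext z
      rw [Ideal.mem_pointwise_smul_iff_inv_smul_mem, Ideal.mem_comap]
      rfl
    rw [e, RingEquiv.height_comap, h1]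
  refine inertia_le_inertiaSpan hP' h1' fun z => ?_
  change (g * y * g⁻¹) • z - z ∈ g • P
  rw [Ideal.mem_pointwise_smul_iff_inv_smul_mem, smul_sub, mul_smul, mul_smul, inv_smul_smul]
  exact hy (g⁻¹ • z)

/-- Elements acting trivially modulo a height one prime of the invariants of a normal subgroup
containing all inertia lie in the subgroup. -/
lemma mem_of_forall_sub_mem (N : Subgroup H) [N.Normal]
    (h : H) (P : Ideal A) [P.IsPrime] (hN : P.inertia H ≤ N)
    (hq : ∀ b : FixedPoints.subalgebra R A N, h • (b : A) - b ∈ P) : h ∈ N := by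
  classical
  haveI : Algebra.IsInvariant (FixedPoints.subalgebra R A N) A N := ⟨fun b hb => ⟨⟨b, hb⟩, rfl⟩⟩
  haveI : SMulCommClass N (FixedPoints.subalgebra R A N) A := ⟨fun n b x => by
    change (n : H) • ((b : A) * x) = (b : A) * ((n : H) • x)
    rw [smul_mul', show (n : H) • (b : A) = b from b.2 n]⟩
  let B := FixedPoints.subalgebra R A N
  haveI : (h • P).IsPrime := Ideal.IsPrime.smul h
  have hfixN : ∀ b : B, ∀ n : N, n • (h⁻¹ • (b : A)) = h⁻¹ • (b : A) := fun b n => by
    change (n : H) • (h⁻¹ • (b : A)) = _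
    rw [smul_smul, show (n : H) * h⁻¹ = h⁻¹ * (h * n * h⁻¹) by group, mul_smul,
      show (h * n * h⁻¹) • (b : A) = b from b.2 ⟨_, Subgroup.Normal.conj_mem ‹N.Normal› n n.2 h⟩]
  have hover : (h • P).under B = P.under B := by
    ext b
    rw [Ideal.under_def, Ideal.under_def, Ideal.mem_comap, Ideal.mem_comap,
      Ideal.mem_pointwise_smul_iff_inv_smul_mem]
    have h1 : (b : A) - h⁻¹ • (b : A) ∈ P := by
      have := hq ⟨h⁻¹ • (b : A), hfixN b⟩
      change h • (h⁻¹ • (b : A)) - h⁻¹ • (b : A) ∈ P at this
      rwa [smul_inv_smul] at this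
    change h⁻¹ • (b : A) ∈ P ↔ (b : A) ∈ P
    exact ⟨fun h2 => by simpa using add_mem h1 h2, fun h2 => by simpa using sub_mem h2 h1⟩
  obtain ⟨n, hn⟩ := Algebra.IsInvariant.exists_smul_of_under_eq B A N (h • P) P hover
  let h' : H := (n : H) * h
  have hst : P = P.map (MulSemiringAction.toRingEquiv H A h') := by
    rw [show (P.map (MulSemiringAction.toRingEquiv H A h')) = h' • P from rfl, mul_smul]
    exact hn
  have hq' : ∀ b : B, h' • (b : A) - b ∈ P := fun b => by
    have hmem : (n : H) • (h • (b : A) - b) ∈ (n : H) • (h • P) := by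
      rw [Ideal.smul_mem_pointwise_smul_iff, Ideal.mem_pointwise_smul_iff_inv_smul_mem, smul_sub,
        inv_smul_smul]
      have h1 := hq ⟨h⁻¹ • (b : A), hfixN b⟩
      change h • (h⁻¹ • (b : A)) - h⁻¹ • (b : A) ∈ P at h1
      rwa [smul_inv_smul] at h1
    rw [smul_sub, show (n : H) • (b : A) = b from b.2 n, smul_smul (n : H) h (b : A)] at hmem
    exact (Set.ext_iff.mp (congrArg SetLike.coe hn) _).mpr hmem
  haveI : P.LiesOver (P.under B) := ⟨rfl⟩
  let σ : (A ⧸ P) ≃ₐ[B ⧸ P.under B] (A ⧸ P) :=
    AlgEquiv.ofRingEquiv (f := Ideal.quotientEquiv P P (MulSemiringAction.toRingEquiv H A h') hst) fun b => by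
      obtain ⟨b, rfl⟩ := Ideal.Quotient.mk_surjective b
      exact Ideal.Quotient.eq.mpr (hq' b)
  obtain ⟨m, hm⟩ := Ideal.Quotient.stabilizerHom_surjective N (P.under B) P σ
  have hI : ((m : N) : H)⁻¹ * h' ∈ P.inertia H := fun x => by
    have h1 := AlgEquiv.congr_fun hm (Ideal.Quotient.mk P x)
    have h2 : ((m : N) : H) • x - h' • x ∈ P := Ideal.Quotient.eq.mp h1
    change ((((m : N) : H)⁻¹ * h') • x) - x ∈ P
    have hmP : (m : N) • P = P := m.2
    rw [mul_smul, ← Ideal.smul_mem_pointwise_smul_iff (a := ((m : N) : H)), smul_sub, smul_inv_smul]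
    refine (Set.ext_iff.mp (congrArg SetLike.coe hmP) _).mpr ?_
    simpa using P.neg_mem h2
  have h2 : h' ∈ N := by
    have := N.mul_mem (m : N).2 (hN hI)
    rwa [mul_inv_cancel_left] at this
  have := N.mul_mem (N.inv_mem n.2) h2
  rwa [inv_mul_cancel_left] at this

variable [IsLocalRing A]

/-- The invariants of a subgroup as a normal local domain. -/
lemma fixed_props (hinj : Function.Injective (algebraMap R A)) (N : Subgroup H) :
    IsIntegrallyClosed (FixedPoints.subalgebra R A N) ∧ IsLocalRing (FixedPoints.subalgebra R A N) ∧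
      Module.Finite R (FixedPoints.subalgebra R A N) := by
  let B := FixedPoints.subalgebra R A N
  have hval : Function.Injective (B.val : B →+* A) := Subtype.val_injective
  refine ⟨?_, ?_, ?_⟩
  · rw [isIntegrallyClosed_iff (FractionRing B)]
    intro z hz
    obtain ⟨a, s, hs, rfl⟩ := IsFractionRing.div_surjective B z
    let ι : FractionRing B →+* FractionRing A :=
      IsFractionRing.lift (g := (algebraMap A (FractionRing A)).comp (B.val : B →+* A))
        ((IsFractionRing.injective A (FractionRing A)).comp hval)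
    have hι : ∀ b : B, ι (algebraMap B _ b) = algebraMap A (FractionRing A) (b : A) := fun b =>
      IsFractionRing.lift_algebraMap _ b
    have hs0 : (s : A) ≠ 0 := fun h => nonZeroDivisors.ne_zero hs (hval (h.trans (map_zero _).symm))
    obtain ⟨f, hf, hfz⟩ := hz
    have hint : IsIntegral A (ι (algebraMap B _ a / algebraMap B _ s)) := by
      refine ⟨f.map (B.val : B →+* A), hf.map _, ?_⟩
      rw [Polynomial.eval₂_map]
      have h1 := congrArg ι hfz
      rw [Polynomial.hom_eval₂, map_zero] at h1
      rw [← h1]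
      congr 1
      exact RingHom.ext fun b => (hι b).symm
    obtain ⟨c, hc⟩ := IsIntegrallyClosed.isIntegral_iff.mp hint
    rw [map_div₀, hι, hι, eq_div_iff ((map_ne_zero_iff _ (IsFractionRing.injective A _)).mpr hs0),
      ← map_mul] at hc
    have hcs : c * (s : A) = a := IsFractionRing.injective A _ hc
    have hcB : c ∈ B := fun n => by
      refine mul_right_cancel₀ hs0 ?_
      conv_lhs => rw [← show n • (s : A) = s from s.2 n, ← smul_mul', hcs, show n • (a : A) = a from a.2 n]
      exact hcs.symm
    refine ⟨⟨c, hcB⟩, ?_⟩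
    rw [eq_div_iff ((map_ne_zero_iff _ (IsFractionRing.injective B _)).mpr (nonZeroDivisors.ne_zero hs)),
      ← map_mul]
    exact congrArg (algebraMap B _) (Subtype.ext hcs)
  · refine IsLocalRing.of_nonunits_add fun a b ha hb => ?_
    have key : ∀ c : B, IsUnit (c : A) → IsUnit c := fun c hc => by
      refine IsUnit.of_mul_eq_one ⟨↑hc.unit⁻¹, fun n => ?_⟩ (Subtype.ext hc.mul_val_inv)
      refine hc.mul_left_cancel ?_
      have h1 := congrArg (n • ·) hc.mul_val_inv
      simp only [smul_mul', smul_one, show n • (c : A) = c from c.2 n] at h1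
      exact h1.trans hc.mul_val_inv.symm
    intro hab
    have h1 : IsUnit ((a : A) + b) := hab.map (B.val : B →+* A)
    exact IsLocalRing.nonunits_add (fun h => ha (key a h)) (fun h => hb (key b h)) h1
  · exact Module.Finite.iff_fg.mpr (IsNoetherian.noetherian (Subalgebra.toSubmodule B))

/-- Purity of the branch locus: the inertia groups at height one generate. -/
theorem inertiaSpan_eq_top (hinj : Function.Injective (algebraMap R A))
    (hres : Function.Surjective (IsLocalRing.residue A ∘ algebraMap R A))
    (hfix : ∀ a : A, (∀ h : H, h • a = a) → a ∈ Set.range (algebraMap R A)) :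
    inertiaSpan A H = ⊤ := by
  classical
  set N := inertiaSpan A H with hNdef
  have hN : ∀ P : Ideal A, P.IsPrime → P.height ≤ 1 → P.inertia H ≤ N := by
    intro P hP h1
    rcases eq_or_ne P.height 1 with h | h
    · exact inertia_le_inertiaSpan hP h
    · have h0 : P.height = 0 := ENat.lt_one_iff_eq_zero.mp (lt_of_le_of_ne h1 h)
      haveI := hP
      have hbot : P = ⊥ := Ideal.height_eq_zero_iff_eq_bot.mp h0
      intro x hx
      have : x = 1 := eq_of_smul_eq_smul (α := A) fun a => by
        have := hx a
        rw [hbot] at this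
        rw [one_smul]
        exact sub_eq_zero.mp (Ideal.mem_bot.mp this)
      exact this ▸ N.one_mem
  let B := FixedPoints.subalgebra R A N
  obtain ⟨hBn, hBl, hBf⟩ := fixed_props (R := R) hinj N
  haveI := hBn
  haveI := hBl
  haveI := hBf
  haveI : Algebra.IsInvariant B A N := ⟨fun b hb => ⟨⟨b, hb⟩, rfl⟩⟩
  haveI : Algebra.IsIntegral B A := Algebra.IsInvariant.isIntegral B A N
  haveI : Algebra.IsIntegral R A := Algebra.IsIntegral.of_finite R A
  haveI : FaithfulSMul R A := (faithfulSMul_iff_algebraMap_injective R A).mpr hinj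
  let res : H →* (B ≃ₐ[R] B) := (MulSemiringAction.toAlgAut (H ⧸ N) R B).comp (QuotientGroup.mk' N)
  have hres' : ∀ (h : H) (b : B), (res h b : A) = h • (b : A) := fun h b => rfl
  haveI : Finite res.range := Finite.of_surjective res.rangeRestrict res.rangeRestrict_surjective
  haveI : Fintype res.range := Fintype.ofFinite _
  have hinjB : Function.Injective (algebraMap R B) := fun a b h => hinj (congrArg Subtype.val h)
  have hfixB : ∀ b : B, (∀ g : res.range, g • b = b) → b ∈ Set.range (algebraMap R B) := by
    intro b hb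
    obtain ⟨r, hr⟩ := hfix (b : A) fun h => by
      rw [← hres']
      exact congrArg Subtype.val (hb ⟨res h, h, rfl⟩)
    exact ⟨r, Subtype.ext hr⟩
  have hgal : IsGaloisCodimOne R B res.range := by
    intro p hp hpr
    haveI := hp
    haveI : Algebra.IsIntegral R B := Algebra.IsIntegral.of_finite R B
    refine exists_notMem_rep p fun q hq hqp => ?_
    rw [Subgroup.eq_bot_iff_forall]
    rintro ⟨_, h, rfl⟩ hh
    haveI := hq
    obtain ⟨P, -, hP, hPq⟩ := Ideal.exists_ideal_over_prime_of_isIntegral q (⊥ : Ideal A) (by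
      rw [Ideal.comap_bot_of_injective (algebraMap B A) Subtype.val_injective]
      exact bot_le)
    haveI := hP
    have hunder : P.under R = p := by
      rw [← hqp, ← hPq]
      rfl
    have hP1 : P.height ≤ 1 := by
      refine (Groth.Agent.Lib.Dim.Integral.height_le_height_under (R := R) P).trans ?_
      rw [hunder]
      haveI := hpr
      refine Ideal.height_le_one_of_isPrincipal_of_mem_minimalPrimes p p ?_
      rw [Ideal.minimalPrimes_eq_subsingleton_self]
      exact rfl
    have hmem := mem_of_forall_sub_mem (R := R) N h P (hN P hP hP1) fun b => by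
      have h1 := hh b
      rw [← hPq] at h1
      exact h1
    refine Subtype.ext ?_
    change res h = 1
    refine AlgEquiv.ext fun b => Subtype.ext ?_
    rw [hres']
    exact b.2 ⟨h, hmem⟩
  have hresB : Function.Surjective (IsLocalRing.residue B ∘ algebraMap R B) := by
    intro c
    obtain ⟨b, rfl⟩ := IsLocalRing.residue_surjective c
    obtain ⟨r, hr⟩ := hres (IsLocalRing.residue A (b : A))
    refine ⟨r, ?_⟩
    rw [Function.comp_apply, ← sub_eq_zero, ← map_sub, IsLocalRing.residue_eq_zero_iff]
    rw [Function.comp_apply, ← sub_eq_zero, ← map_sub, IsLocalRing.residue_eq_zero_iff] at hr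
    intro hu
    exact hr (hu.map (B.val : B →+* A))
  have htriv : ∀ g : res.range, g = 1 := fun g => eq_one hinjB hfixB hgal hresB g
  haveI : Algebra.IsInvariant B A N := inferInstance
  rw [eq_top_iff]
  intro h _
  obtain ⟨P, hP0⟩ : ∃ P : Ideal A, P = ⊥ := ⟨⊥, rfl⟩
  haveI : P.IsPrime := hP0 ▸ Ideal.isPrime_bot
  refine mem_of_forall_sub_mem (R := R) N h P (hN P inferInstance (by rw [hP0, Ideal.height_bot]; exact zero_le)) fun b => ?_
  have h1 := htriv ⟨res h, h, rfl⟩
  have h2 : res h = 1 := congrArg Subtype.val h1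
  rw [← hres', h2, AlgEquiv.one_apply, sub_self]
  exact zero_mem _

end Groth.Agent.Lib.Purity.Branch
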