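import Groth.Agent.Lib.Regular.UFD
import Groth.Agent.Lib.Regular.Serre
import Mathlib.LinearAlgebra.Dual.Lemmas
import Mathlib.Algebra.Module.FinitePresentation
import Mathlib.RingTheory.Noetherian.Basic

/-!
# Second syzygies and maps into them
-/

set_option autoImplicit false

universe u v w

open IsLocalRing

namespace Groth.Agent.Lib.Purity.D2

section Pair

variable {R : Type u} [CommRing R]

/-- `a` is regular on `Z` and `b` is regular on `Z / aZ`. -/
structure Pair (a b : R) (Z : Type v) [AddCommGroup Z] [Module R Z] : Prop where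
  reg : IsSMulRegular Z a
  div : ∀ z w : Z, b • z = a • w → ∃ u : Z, z = a • u

variable {a b : R} {Z : Type v} [AddCommGroup Z] [Module R Z]

lemma Pair.of_equiv {Z' : Type w} [AddCommGroup Z'] [Module R Z'] (h : Pair a b Z) (e : Z ≃ₗ[R] Z') :
    Pair a b Z' := by
  refine ⟨fun z w hzw => e.symm.injective (h.reg ?_), fun z w hzw => ?_⟩
  · simpa using congrArg e.symm hzw
  · obtain ⟨u, hu⟩ := h.div (e.symm z) (e.symm w) (by simpa using congrArg e.symm hzw)
    exact ⟨e u, e.symm.injective (by simpa using hu)⟩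

lemma Pair.pi {ι : Type w} (h : Pair a b Z) : Pair a b (ι → Z) := by
  refine ⟨fun z w hzw => funext fun i => h.reg (congrFun hzw i), fun z w hzw => ?_⟩
  choose u hu using fun i => h.div (z i) (w i) (congrFun hzw i)
  exact ⟨u, funext hu⟩

lemma Pair.ker {Z' : Type w} [AddCommGroup Z'] [Module R Z'] (h : Pair a b Z) (f : Z →ₗ[R] Z')
    (h' : IsSMulRegular Z' a) : Pair a b (LinearMap.ker f) := by
  refine ⟨fun z w hzw => Subtype.ext (h.reg (congrArg Subtype.val hzw)), fun z w hzw => ?_⟩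
  obtain ⟨u, hu⟩ := h.div z w (congrArg Subtype.val hzw)
  refine ⟨⟨u, ?_⟩, Subtype.ext hu⟩
  rw [LinearMap.mem_ker]
  refine h'.right_eq_zero_of_smul ?_
  rw [← map_smul, ← hu]
  exact z.2

lemma Pair.hom {X : Type w} [AddCommGroup X] [Module R X] (h : Pair a b Z) :
    Pair a b (X →ₗ[R] Z) := by
  refine ⟨fun φ ψ he => LinearMap.ext fun x => h.reg (LinearMap.congr_fun he x), fun φ ψ he => ?_⟩
  choose u hu using fun x => h.div (φ x) (ψ x) (LinearMap.congr_fun he x)
  refine ⟨{ toFun := u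
            map_add' := fun x y => h.reg (show a • u (x + y) = a • (u x + u y) by
              rw [← hu, map_add, smul_add, ← hu, ← hu])
            map_smul' := fun r x => h.reg (show a • u (r • x) = a • r • u x by
              rw [← hu, map_smul, smul_comm a, ← hu]) }, LinearMap.ext hu⟩

end Pair

section Local

variable (R : Type u) [CommRing R] [IsLocalRing R] (Z : Type v) [AddCommGroup Z] [Module R Z]

/-- `Z` has pairs deep in every power of the maximal ideal. -/
def IsD2 : Prop := ∀ k : ℕ, ∃ a ∈ maximalIdeal R ^ k, ∃ b ∈ maximalIdeal R ^ k, Pair a b Z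

variable {R Z}

lemma IsD2.of_equiv {Z' : Type w} [AddCommGroup Z'] [Module R Z'] (h : IsD2 R Z) (e : Z ≃ₗ[R] Z') :
    IsD2 R Z' := fun k => by
  obtain ⟨a, ha, b, hb, h1⟩ := h k
  exact ⟨a, ha, b, hb, h1.of_equiv e⟩

lemma IsD2.pi {ι : Type w} (h : IsD2 R Z) : IsD2 R (ι → Z) := fun k => by
  obtain ⟨a, ha, b, hb, h1⟩ := h k
  exact ⟨a, ha, b, hb, h1.pi⟩

lemma IsD2.hom {X : Type w} [AddCommGroup X] [Module R X] (h : IsD2 R Z) : IsD2 R (X →ₗ[R] Z) :=
  fun k => by
  obtain ⟨a, ha, b, hb, h1⟩ := h k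
  exact ⟨a, ha, b, hb, h1.hom⟩

lemma IsD2.eq_zero (h : IsD2 R Z) {z : Z} (k : ℕ) (hz : ∀ s ∈ maximalIdeal R ^ k, s • z = 0) :
    z = 0 := by
  obtain ⟨a, ha, b, -, h1⟩ := h k
  exact h1.reg.right_eq_zero_of_smul (hz a ha)

variable {X : Type w} [AddCommGroup X] [Module R X]

lemma IsD2.hom_ext (h : IsD2 R Z) (k : ℕ) {φ ψ : X →ₗ[R] Z}
    (hφ : ∀ s ∈ maximalIdeal R ^ k, ∀ x, φ (s • x) = ψ (s • x)) : φ = ψ := by
  refine LinearMap.ext fun x => sub_eq_zero.mp (h.eq_zero k fun s hs => ?_)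
  rw [smul_sub, ← map_smul, ← map_smul, hφ s hs x, sub_self]

/-- A map defined on a submodule containing `m ^ k • X` extends uniquely. -/
theorem IsD2.exists_extend (h : IsD2 R Z) (Y : Submodule R X) (k : ℕ)
    (hY : ∀ s ∈ maximalIdeal R ^ k, ∀ x : X, s • x ∈ Y) (φ : Y →ₗ[R] Z) :
    ∃ ψ : X →ₗ[R] Z, ∀ y : Y, ψ y = φ y := by
  obtain ⟨a, ha, b, hb, h1⟩ := h k
  have key : ∀ x, ∃ u : Z, φ ⟨a • x, hY a ha x⟩ = a • u := fun x =>
    h1.div _ (φ ⟨b • x, hY b hb x⟩) (by
      rw [← map_smul, ← map_smul]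
      exact congrArg φ (Subtype.ext (smul_comm b a x)))
  choose u hu using key
  refine ⟨{ toFun := u
            map_add' := fun x y => h1.reg (show a • u (x + y) = a • (u x + u y) by
              rw [← hu, smul_add a (u x) (u y), ← hu, ← hu, ← map_add]
              exact congrArg φ (Subtype.ext (smul_add a x y)))
            map_smul' := fun r x => h1.reg (show a • u (r • x) = a • r • u x by
              rw [← hu, smul_comm a r (u x), ← hu, ← map_smul]
              exact congrArg φ (Subtype.ext (smul_comm a r x))) }, fun y => h1.reg ?_⟩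
  change a • u (y : X) = a • φ y
  rw [← hu, ← map_smul]
  rfl

end Local

section Regular

variable {R : Type u} [CommRing R]

lemma pair_of_prime [IsDomain R] {x r : R} (hx : Prime x) (hr : ¬ x ∣ r) (i j : ℕ) :
    Pair (x ^ i) (r ^ j) R := by
  refine ⟨IsSMulRegular.of_right_eq_zero_of_smul fun z hz =>
    (mul_eq_zero.mp hz).resolve_left (pow_ne_zero _ hx.ne_zero), fun z w hzw => ?_⟩
  have h1 : x ^ i ∣ r ^ j * z := ⟨w, hzw⟩
  exact hx.pow_dvd_of_dvd_mul_left i (fun h => hr (hx.dvd_of_dvd_pow h)) h1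

theorem isD2_self [IsRegularLocalRing R] (hd : (2 : WithBot ℕ∞) ≤ ringKrullDim R) : IsD2 R R := by
  haveI := Groth.Agent.Lib.Regular.Quotient.isDomain R
  haveI := Groth.Agent.Lib.Regular.UFD.uniqueFactorizationMonoid R
  have hne : maximalIdeal R ≠ ⊥ := fun h => by
    have hf : IsField R := IsLocalRing.isField_iff_maximalIdeal_eq.mpr h
    rw [ringKrullDim_eq_zero_of_isField hf] at hd
    exact absurd hd (by decide)
  obtain ⟨t, htm, ht⟩ := Ideal.IsPrime.exists_mem_prime_of_ne_bot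
    (maximalIdeal.isMaximal R).isPrime hne
  have hlt : ¬ maximalIdeal R ≤ Ideal.span {t} := fun h => by
    have heq : maximalIdeal R = Ideal.span {t} :=
      le_antisymm h (Ideal.span_le.mpr (Set.singleton_subset_iff.mpr htm))
    have h1 : (maximalIdeal R).height ≤ 1 := by
      haveI : (Ideal.span {t}).IsPrime := (Ideal.span_singleton_prime ht.ne_zero).mpr ht
      rw [heq]
      refine Ideal.height_le_one_of_isPrincipal_of_mem_minimalPrimes (Ideal.span {t}) _ ?_
      rw [Ideal.minimalPrimes_eq_subsingleton_self]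
      exact rfl
    rw [← IsLocalRing.maximalIdeal_height_eq_ringKrullDim] at hd
    have h3 : (2 : ℕ∞) ≤ (maximalIdeal R).height := WithBot.coe_le_coe.mp hd
    exact absurd (h3.trans h1) (by norm_num)
  obtain ⟨s, hs, hst⟩ := SetLike.not_le_iff_exists.mp hlt
  rw [Ideal.mem_span_singleton] at hst
  exact fun k => ⟨t ^ k, Ideal.pow_mem_pow htm k, s ^ k, Ideal.pow_mem_pow hs k, pair_of_prime ht hst k k⟩

variable (R) in
/-- A kernel of a map of finite free modules. -/
def Syz2 (M : Type v) [AddCommGroup M] [Module R M] : Prop :=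
  ∃ (a b : ℕ) (f : (Fin a → R) →ₗ[R] (Fin b → R)), Nonempty (M ≃ₗ[R] LinearMap.ker f)

variable {M : Type v} [AddCommGroup M] [Module R M]

lemma Syz2.of_equiv {M' : Type w} [AddCommGroup M'] [Module R M'] (h : Syz2 R M) (e : M ≃ₗ[R] M') :
    Syz2 R M' := by
  obtain ⟨a, b, f, ⟨e'⟩⟩ := h
  exact ⟨a, b, f, ⟨e.symm.trans e'⟩⟩

lemma Syz2.finite [IsNoetherianRing R] (h : Syz2 R M) : Module.Finite R M := by
  obtain ⟨a, b, f, ⟨e⟩⟩ := h
  exact Module.Finite.equiv e.symm

lemma Syz2.pair [IsDomain R] (h : Syz2 R M) {a b : R} (hab : Pair a b R) : Pair a b M := by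
  obtain ⟨n, m, f, ⟨e⟩⟩ := h
  exact ((hab.pi).ker f hab.pi.reg).of_equiv e.symm

lemma Syz2.isD2 [IsRegularLocalRing R] (h : Syz2 R M) (hd : (2 : WithBot ℕ∞) ≤ ringKrullDim R) :
    IsD2 R M := fun k => by
  haveI := Groth.Agent.Lib.Regular.Quotient.isDomain R
  obtain ⟨a, ha, b, hb, h1⟩ := isD2_self hd k
  exact ⟨a, ha, b, hb, h.pair h1⟩

lemma Syz2.smul_regular [IsDomain R] (h : Syz2 R M) {r : R} (hr : r ≠ 0) : IsSMulRegular M r := by
  obtain ⟨n, m, f, ⟨e⟩⟩ := h
  intro z w hzw
  refine e.injective (Subtype.ext (funext fun i => mul_left_cancel₀ hr ?_))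
  exact congrFun (congrArg Subtype.val (show r • e z = r • e w by
    rw [← map_smul, ← map_smul]; exact congrArg e hzw)) i

/-- Maps out of a presented module. -/
theorem exists_homEquiv {X : Type w} [AddCommGroup X] [Module R X] {n : ℕ} {κ : Type} [Finite κ]
    (π : (Fin n → R) →ₗ[R] X) (hπ : Function.Surjective π) (c : κ → Fin n → R)
    (hc : Submodule.span R (Set.range c) = LinearMap.ker π) (Z : Type v) [AddCommGroup Z] [Module R Z]
    (α : (Fin n → Z) →ₗ[R] (κ → Z)) (hα : ∀ v j, α v j = ∑ i, c j i • v i) :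
    Nonempty ((X →ₗ[R] Z) ≃ₗ[R] LinearMap.ker α) := by
  classical
  let θ : (X →ₗ[R] Z) →ₗ[R] (Fin n → Z) :=
    { toFun := fun ψ i => ψ (π (Pi.single i 1))
      map_add' := fun _ _ => rfl
      map_smul' := fun _ _ => rfl }
  have hsum : ∀ (ψ : X →ₗ[R] Z) (v : Fin n → R), ψ (π v) = ∑ i, v i • θ ψ i := fun ψ v => by
    conv_lhs => rw [pi_eq_sum_univ' v]
    simp [θ, map_sum]
  have hmem : ∀ ψ, θ ψ ∈ LinearMap.ker α := fun ψ => funext fun j => by
    rw [hα, ← hsum, Pi.zero_apply]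
    have : c j ∈ LinearMap.ker π := hc ▸ Submodule.subset_span ⟨j, rfl⟩
    rw [LinearMap.mem_ker.mp this, map_zero]
  refine ⟨LinearEquiv.ofBijective (θ.codRestrict _ hmem) ⟨fun ψ ψ' he => LinearMap.ext fun x => ?_, ?_⟩⟩
  · obtain ⟨v, rfl⟩ := hπ x
    rw [hsum, hsum, show θ ψ = θ ψ' from congrArg Subtype.val he]
  · rintro ⟨v, hv⟩
    let L : (Fin n → R) →ₗ[R] Z := Fintype.linearCombination R v
    have hker : LinearMap.ker π ≤ LinearMap.ker L := by
      rw [← hc, Submodule.span_le]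
      rintro _ ⟨j, rfl⟩
      rw [SetLike.mem_coe, LinearMap.mem_ker, Fintype.linearCombination_apply, ← hα]
      exact congrFun (LinearMap.mem_ker.mp hv) j
    refine ⟨(LinearMap.ker π).liftQ L hker ∘ₗ (π.quotKerEquivOfSurjective hπ).symm.toLinearMap,
      Subtype.ext (funext fun i => ?_)⟩
    change (LinearMap.ker π).liftQ L hker ((π.quotKerEquivOfSurjective hπ).symm (π (Pi.single i 1))) = v i
    have h1 : (π.quotKerEquivOfSurjective hπ).symm (π (Pi.single i 1)) =
        Submodule.Quotient.mk (Pi.single i 1) := by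
      rw [LinearEquiv.symm_apply_eq]
      rfl
    rw [h1, Submodule.liftQ_apply, Fintype.linearCombination_apply_single, one_smul]

/-- The map `v ↦ (∑ i, c j i • v i)_j`. -/
noncomputable def pairing {n : ℕ} {κ : Type} (c : κ → Fin n → R) (Z : Type v) [AddCommGroup Z]
    [Module R Z] : (Fin n → Z) →ₗ[R] (κ → Z) :=
  LinearMap.pi fun j => ∑ i, c j i • LinearMap.proj i

lemma pairing_apply {n : ℕ} {κ : Type} (c : κ → Fin n → R) {Z : Type v} [AddCommGroup Z]
    [Module R Z] (v : Fin n → Z) (j : κ) : pairing c Z v j = ∑ i, c j i • v i := by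
  simp [pairing]

theorem syz2_dual [IsNoetherianRing R] (X : Type w) [AddCommGroup X] [Module R X] [Module.Finite R X] :
    Syz2 R (Module.Dual R X) := by
  obtain ⟨n, π, hπ⟩ := Module.Finite.exists_fin' R X
  obtain ⟨m, c, hc⟩ := Submodule.fg_iff_exists_fin_generating_family.mp
    (IsNoetherian.noetherian (LinearMap.ker π))
  exact ⟨n, m, pairing c R, exists_homEquiv π hπ c hc R _ fun v j => pairing_apply c v j⟩

theorem Syz2.localize (h : Syz2 R M) (S : Submonoid R) :
    Syz2 (Localization S) (LocalizedModule S M) := by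
  obtain ⟨a, b, f, ⟨e⟩⟩ := h
  let g₀ : (Fin a → R) →ₗ[R] (Fin a → Localization S) :=
    LinearMap.pi fun i => (Algebra.linearMap R (Localization S)).comp (LinearMap.proj i)
  let g₁ : (Fin b → R) →ₗ[R] (Fin b → Localization S) :=
    LinearMap.pi fun i => (Algebra.linearMap R (Localization S)).comp (LinearMap.proj i)
  haveI : IsLocalizedModule S g₀ := IsLocalizedModule.pi S _
  haveI : IsLocalizedModule S g₁ := IsLocalizedModule.pi S _
  let f' := IsLocalizedModule.mapExtendScalars S g₀ g₁ (Localization S) f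
  let κ : LinearMap.ker f →ₗ[R] (LinearMap.ker (IsLocalizedModule.map S g₀ g₁ f)) :=
    LinearMap.toKerIsLocalized S g₀ g₁ f
  haveI : IsLocalizedModule S κ := LinearMap.toKerLocalized_isLocalizedModule (Localization S) S g₀ g₁ f
  haveI : IsLocalizedModule S (κ ∘ₗ e.toLinearMap) := inferInstance
  let e1 := IsLocalizedModule.linearEquiv S (LocalizedModule.mkLinearMap S M) (κ ∘ₗ e.toLinearMap)
  let e2 : LinearMap.ker (IsLocalizedModule.map S g₀ g₁ f) ≃ₗ[R] LinearMap.ker f' :=
    { toFun := fun x => ⟨x.1, x.2⟩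
      invFun := fun x => ⟨x.1, x.2⟩
      map_add' := fun _ _ => rfl
      map_smul' := fun _ _ => rfl }
  exact ⟨a, b, f', ⟨(e1.trans e2).extendScalarsOfIsLocalization S (Localization S)⟩⟩

end Regular

end Groth.Agent.Lib.Purity.D2
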