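import Groth.Agent.Lib.Purity.Local
import Groth.Agent.H80.PurityFlat

/-!
# Purity of the branch locus for flat quasi-finite algebras
-/

set_option autoImplicit false

universe u

open TensorProduct IsLocalRing

namespace Groth.Agent.Lib.Purity.FlatLocal

open Groth.Agent.Lib.Purity.Local (localization_etale smul_kaehler_eq_zero)

/-- A finite flat algebra over a Noetherian local ring of dimension at least one, unramified over
the primes of height one, is étale. -/
theorem etale_of_unramified_height_one (A B : Type u) [CommRing A] [CommRing B] [Algebra A B]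
    [IsNoetherianRing A] [IsLocalRing A] [Module.Finite A B] [Module.Flat A B]
    (hdim : (1 : WithBot ℕ∞) ≤ ringKrullDim A)
    (h : ∀ q : PrimeSpectrum B, (q.asIdeal.comap (algebraMap A B)).height = 1 →
      Algebra.IsUnramifiedAt A q.asIdeal) : Algebra.Etale A B := by
  classical
  have : Module.Free A B := Module.free_of_flat_of_isLocalRing
  let b := Module.Free.chooseBasis A B
  by_cases hd : IsUnit (Algebra.discr A b)
  · exact H80.DiscEtale.etale_of_isUnit_discr b hd
  exfalso
  obtain ⟨p, hp, hdp, hp1⟩ := Groth.Agent.S0249.result A hdim _ ((IsLocalRing.mem_maximalIdeal _).mpr hd)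
  have := H80.DiscEtale.formallyUnramified_fibre (B := B) p fun q hq => h q (hq ▸ hp1)
  rw [H80.DiscEtale.formallyUnramified_iff_discr (b.baseChange p.ResidueField),
    H80.DiscEtale.discr_baseChange] at this
  exact this (Ideal.algebraMap_residueField_eq_zero.mpr hdp)

set_option maxHeartbeats 800000 in
/-- Purity of the branch locus at a quasi-finite point of a flat algebra. -/
theorem flat_and_unramified (R S : Type u) [CommRing R] [IsNoetherianRing R] [CommRing S] [Algebra R S]
    [Algebra.FiniteType R S] (p : Ideal R) [p.IsPrime] (q : Ideal S) [q.IsPrime] [q.LiesOver p]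
    [Algebra.QuasiFiniteAt R q] [Algebra (Localization.AtPrime p) (Localization.AtPrime q)]
    [Localization.AtPrime.IsLiesOverAlgebra p q]
    [Module.Flat R S] (hdim : (1 : WithBot ℕ∞) ≤ ringKrullDim (Localization.AtPrime q))
    (hu : ∀ q₁ : Ideal S, [q₁.IsPrime] → q₁ ≤ q → q₁.height = 1 → Algebra.IsUnramifiedAt R q₁) :
    Module.Flat (Localization.AtPrime p) (Localization.AtPrime q) ∧
      Algebra.FormallyUnramified (Localization.AtPrime p) (Localization.AtPrime q) := by
  obtain ⟨R', _, _, _, P, _, _, e, he, P', _, _, hP'q, heP', -, hfin, huniq⟩ :=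
    Algebra.exists_etale_isIdempotentElem_forall_liesOver_eq p q
  have : IsNoetherianRing S := Algebra.FiniteType.isNoetherianRing R S
  have : IsNoetherianRing R' := Algebra.FiniteType.isNoetherianRing R R'
  let A := Localization.AtPrime p
  let A' := Localization.AtPrime P
  let := Localization.AtPrime.algebraOfLiesOver p P
  have : IsLocalHom (algebraMap A A') := by
    rw [Localization.AtPrime.IsLiesOverAlgebra.algebraMap_eq]
    exact Localization.isLocalHom_localRingHom _ _ _ _
  obtain ⟨hflatA, hfuA⟩ := localization_etale R R' p P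
  have hmA : (maximalIdeal A).map (algebraMap A A') = maximalIdeal A' :=
    have : Algebra.EssFiniteType A A' := Algebra.EssFiniteType.of_comp R _ _
    Algebra.FormallyUnramified.map_maximalIdeal
  -- the base change
  let T := R' ⊗[R] S
  let : Algebra S T := Algebra.TensorProduct.rightAlgebra
  have : IsScalarTower R S T := Algebra.TensorProduct.right_isScalarTower
  have : Algebra.Etale S T := Algebra.Etale.of_equiv
    ({ (Algebra.TensorProduct.comm R S R').toRingEquiv with
        commutes' := fun x => by simp [RingHom.algebraMap_toAlgebra] } : S ⊗[R] R' ≃ₐ[S] T)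
  have : P'.LiesOver q := ⟨hP'q.symm⟩
  have : P'.LiesOver p := .trans P' P p
  let L := Localization.AtPrime q
  let C := Localization.AtPrime P'
  let := Localization.AtPrime.algebraOfLiesOver q P'
  let := Localization.AtPrime.algebraOfLiesOver P P'
  let := Localization.AtPrime.algebraOfLiesOver p P'
  obtain ⟨hflatL, hfuL⟩ := localization_etale S T q P'
  have : IsNoetherianRing T := Algebra.FiniteType.isNoetherianRing S T
  have : IsLocalHom (algebraMap L C) := by
    rw [Localization.AtPrime.IsLiesOverAlgebra.algebraMap_eq]
    exact Localization.isLocalHom_localRingHom _ _ _ _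
  have hmL : (maximalIdeal L).map (algebraMap L C) = maximalIdeal C :=
    have : Algebra.EssFiniteType L C := Algebra.EssFiniteType.of_comp S _ _
    Algebra.FormallyUnramified.map_maximalIdeal
  have hdimC : ringKrullDim C = ringKrullDim L :=
    Groth.Agent.Lib.Regular.Descent.ringKrullDim_eq C hmL
  -- `C` is finite over `A'`
  let Te := Localization.Away e
  have : Algebra.IsIntegral R' Te := Algebra.IsIntegral.of_finite R' Te
  let D := Localization (Algebra.algebraMapSubmonoid Te P.primeCompl)
  have : IsScalarTower R' A' D := IsScalarTower.of_algebraMap_eq fun x => by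
    rw [IsScalarTower.algebraMap_apply R' Te D]
    exact (IsLocalization.map_eq _ x).symm
  have hDfin : Module.Finite A' D := Module.Finite.of_isLocalization R' Te P.primeCompl
  have hCe : IsUnit (algebraMap T C e) := IsLocalization.map_units C (⟨e, heP'⟩ : P'.primeCompl)
  let : Algebra Te C := (IsLocalization.Away.lift e hCe : Te →+* C).toAlgebra
  have : IsScalarTower T Te C :=
    IsScalarTower.of_algebraMap_eq fun x => (IsLocalization.Away.lift_eq e hCe x).symm
  have : IsScalarTower R' Te C := IsScalarTower.of_algebraMap_eq fun x => by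
    rw [IsScalarTower.algebraMap_apply R' T Te, ← IsScalarTower.algebraMap_apply T Te C,
      ← IsScalarTower.algebraMap_apply]
  let N : Submonoid Te := P'.primeCompl.map (algebraMap T Te)
  have hle : Submonoid.powers e ≤ P'.primeCompl := Submonoid.powers_le.mpr heP'
  have hCN : IsLocalization N C := IsLocalization.isLocalization_of_submonoid_le Te C _ _ hle
  have hDN : IsLocalization (Algebra.algebraMapSubmonoid Te P.primeCompl ⊔ N) D := by
    refine IsLocalization.of_le _ _ le_sup_left fun r hr => ?_
    obtain ⟨a, ha, b, ⟨t, ht, rfl⟩, rfl⟩ := Submonoid.mem_sup.mp hr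
    rw [map_mul]
    refine (IsLocalization.map_units D ⟨a, ha⟩).mul ?_
    by_contra hnu
    obtain ⟨M, hM, htM⟩ := exists_max_ideal_of_mem_nonunits hnu
    haveI := hM
    have : Algebra.IsIntegral A' D := Algebra.IsIntegral.of_finite A' D
    have hMA : M.comap (algebraMap A' D) = maximalIdeal A' :=
      eq_maximalIdeal (Ideal.isMaximal_comap_of_isIntegral_of_isMaximal M)
    let M₀ : Ideal T := M.comap ((algebraMap Te D).comp (algebraMap T Te))
    have : M₀.LiesOver P := ⟨by
      ext x
      rw [Ideal.under_def, Ideal.mem_comap, Ideal.mem_comap, RingHom.comp_apply,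
        ← IsScalarTower.algebraMap_apply R' T Te, ← IsScalarTower.algebraMap_apply R' Te D,
        IsScalarTower.algebraMap_apply R' A' D, ← Ideal.mem_comap, hMA]
      exact (IsLocalization.AtPrime.to_map_mem_maximal_iff A' P x).symm⟩
    have hne : e ∉ M₀ := fun h => hM.ne_top (Ideal.eq_top_of_isUnit_mem _ h
      ((IsLocalization.Away.algebraMap_isUnit e).map (algebraMap Te D)))
    exact ht ((huniq M₀ inferInstance inferInstance hne) ▸ (show t ∈ M₀ from htM))
  have hCN' : IsLocalization (Algebra.algebraMapSubmonoid Te P.primeCompl ⊔ N) C := by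
    refine IsLocalization.of_le _ _ le_sup_right fun r hr => ?_
    obtain ⟨a, ⟨s, hs, rfl⟩, b, hb, rfl⟩ := Submonoid.mem_sup.mp hr
    rw [map_mul, ← IsScalarTower.algebraMap_apply R' Te C, IsScalarTower.algebraMap_apply R' T C]
    exact (IsLocalization.map_units C (⟨_, fun h => hs ((P'.over_def P).symm ▸ h : s ∈ P)⟩ : P'.primeCompl)).mul
      (IsLocalization.map_units C ⟨b, hb⟩)
  let eDC : D ≃ₐ[Te] C := IsLocalization.algEquiv (Algebra.algebraMapSubmonoid Te P.primeCompl ⊔ N) D C
  have : Module.Finite A' C := Module.Finite.equiv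
    ((eDC.toLinearEquiv.restrictScalars R').extendScalarsOfIsLocalization P.primeCompl A')
  have : Algebra.IsIntegral A' C := Algebra.IsIntegral.of_finite A' C
  have : Module.Flat R' T := inferInstance
  have : Module.Flat T C := IsLocalization.flat C P'.primeCompl
  have : Module.Flat R' C := Module.Flat.trans R' T C
  have hflatC : Module.Flat A' C :=
    (Module.flat_iff_of_isLocalization A' P.primeCompl _).mpr ‹Module.Flat R' C›
  have hdimA' : (1 : WithBot ℕ∞) ≤ ringKrullDim A' := by
    refine le_trans (hdimC ▸ hdim) ?_
    exact Groth.Agent.Lib.Dim.Integral.ringKrullDim_le_of_isIntegral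
  have hCet : Algebra.Etale A' C := by
    refine etale_of_unramified_height_one A' C hdimA' fun Q hQ => ?_
    have hQh : Q.asIdeal.height = 1 :=
      (Groth.Agent.Lib.Dim.Integral.height_eq_height_under Q.asIdeal).trans hQ
    let Q₁ : Ideal L := Q.asIdeal.under L
    let q₁ : Ideal S := Q₁.under S
    have : Algebra.HasGoingDown L C := inferInstance
    have hQ₁ : Q₁.height = 1 := by
      have hle : Q₁.height ≤ 1 := by
        refine le_trans ?_ hQh.le
        have : Q.asIdeal.LiesOver Q₁ := ⟨rfl⟩
        rw [Ideal.height_eq_height_add_of_liesOver_of_hasGoingDown Q₁ Q.asIdeal]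
        exact le_self_add
      refine hle.antisymm (Order.one_le_iff_pos.mpr (pos_iff_ne_zero.mpr fun h0 => ?_))
      obtain ⟨Q₀, hQ₀, hQ₀Q⟩ := Ideal.exists_minimalPrimes_le (I := (⊥ : Ideal C)) (J := Q.asIdeal) bot_le
      have := hQ₀.isPrime
      have hu : Q₀.under L = Q₁ := le_antisymm (Ideal.comap_mono hQ₀Q)
        ((Ideal.height_eq_zero_iff.mp h0).2 ⟨inferInstance, bot_le⟩ (Ideal.comap_mono hQ₀Q))
      have : Algebra.QuasiFinite S C := Algebra.QuasiFinite.of_isLocalization P'.primeCompl
      have he : Q₀ = Q.asIdeal := Algebra.QuasiFinite.eq_of_le_of_under_eq (R := S) _ _ hQ₀Q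
        (by rw [← Ideal.under_under (B := L) Q₀, hu, Ideal.under_under (B := L) Q.asIdeal])
      have := Ideal.height_eq_zero_iff.mpr hQ₀
      rw [he, hQh] at this
      exact one_ne_zero this
    have hq₁q : q₁ ≤ q := by
      intro x hx
      by_contra hxq
      exact (Ideal.IsPrime.ne_top inferInstance)
        (Ideal.eq_top_of_isUnit_mem Q₁ hx (IsLocalization.map_units L (⟨x, hxq⟩ : q.primeCompl)))
    have hq₁h : q₁.height = 1 := (IsLocalization.height_under q.primeCompl Q₁).trans hQ₁
    have := hu q₁ hq₁q hq₁h
    have hns : (⟨q₁, inferInstance⟩ : PrimeSpectrum S) ∈ Algebra.unramifiedLocus R S := this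
    rw [Algebra.unramifiedLocus_eq_compl_support, Set.mem_compl_iff, Module.support_eq_zeroLocus,
      PrimeSpectrum.mem_zeroLocus, Set.not_subset] at hns
    obtain ⟨r, hr, hrq⟩ := hns
    have hrC : algebraMap S C r ∉ Q.asIdeal := fun h => hrq (by
      change algebraMap L C (algebraMap S L r) ∈ Q.asIdeal
      rwa [← IsScalarTower.algebraMap_apply S L C])
    have hkill := smul_kaehler_eq_zero (A := A') C r (Module.mem_annihilator.mp hr) (fun c => by
      obtain ⟨⟨t, d, hd⟩, htd⟩ := IsLocalization.surj P'.primeCompl c
      have hadj : ∀ t : T, algebraMap T C t ∈ Algebra.adjoin A' (Set.range (algebraMap S C)) := fun t => by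
        induction t using TensorProduct.induction_on with
        | zero => rw [map_zero]; exact zero_mem _
        | add x y hx hy => rw [map_add]; exact add_mem hx hy
        | tmul x y =>
          rw [show x ⊗ₜ[R] y = algebraMap R' T x * algebraMap S T y by
            change _ = (x ⊗ₜ[R] (1 : S)) * ((1 : R') ⊗ₜ[R] y)
            rw [Algebra.TensorProduct.tmul_mul_tmul, mul_one, one_mul], map_mul, ← IsScalarTower.algebraMap_apply R' T C,
            ← IsScalarTower.algebraMap_apply S T C, IsScalarTower.algebraMap_apply R' A' C]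
          exact mul_mem (Subalgebra.algebraMap_mem _ _) (Algebra.subset_adjoin ⟨y, rfl⟩)
      exact ⟨_, hadj d, IsLocalization.map_units C ⟨d, hd⟩, htd ▸ hadj t⟩)
    have hmem : Q ∈ Algebra.unramifiedLocus A' C := by
      rw [Algebra.unramifiedLocus_eq_compl_support, Set.mem_compl_iff, Module.support_eq_zeroLocus,
        PrimeSpectrum.mem_zeroLocus, Set.not_subset]
      exact ⟨_, Module.mem_annihilator.mpr hkill, hrC⟩
    exact hmem
  -- descent
  have : IsScalarTower A L C := IsScalarTower.of_algebraMap_eq' (by
    refine IsLocalization.ringHom_ext p.primeCompl ?_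
    simp only [RingHom.comp_assoc, ← IsScalarTower.algebraMap_eq])
  have : IsScalarTower A A' C := IsScalarTower.of_algebraMap_eq' (by
    refine IsLocalization.ringHom_ext p.primeCompl ?_
    simp only [RingHom.comp_assoc, ← IsScalarTower.algebraMap_eq])
  have : IsLocalHom (algebraMap A L) := by
    rw [Localization.AtPrime.IsLiesOverAlgebra.algebraMap_eq]
    exact Localization.isLocalHom_localRingHom _ _ _ _
  have : Module.Flat A C := Module.Flat.trans A A' C
  have : Module.FaithfullyFlat L C := Module.FaithfullyFlat.of_flat_of_isLocalHom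
  refine ⟨SourceDescent.Ring.flat_of_comp A L C, ?_⟩
  have : Algebra.FormallyUnramified A C := Algebra.FormallyUnramified.comp A A' C
  have : Algebra.EssFiniteType A L := Algebra.EssFiniteType.of_comp R _ _
  have : Algebra.EssFiniteType S C := Algebra.EssFiniteType.comp S T C
  have : Algebra.EssFiniteType R C := Algebra.EssFiniteType.comp R S C
  have : Algebra.EssFiniteType A C := Algebra.EssFiniteType.of_comp R _ _
  obtain ⟨hsep, hm⟩ := (Algebra.FormallyUnramified.iff_map_maximalIdeal_eq (R := A) (S := C)).mp inferInstance
  refine Algebra.FormallyUnramified.iff_map_maximalIdeal_eq.mpr ⟨?_, ?_⟩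
  · exact Algebra.isSeparable_tower_bot_of_isSeparable (ResidueField A) (ResidueField L) (ResidueField C)
  · rw [← Ideal.comap_map_eq_self_of_faithfullyFlat (B := C) ((maximalIdeal A).map (algebraMap A L)),
      Ideal.map_map, ← IsScalarTower.algebraMap_eq, hm, ← hmL,
      Ideal.comap_map_eq_self_of_faithfullyFlat]

end Groth.Agent.Lib.Purity.FlatLocal
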