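import Groth.Agent.Lib.Purity.Auslander
import Mathlib.RingTheory.Ideal.Height

/-!
# Auslander's lemma in all dimensions
-/

set_option autoImplicit false

universe u v

open IsLocalRing

namespace Groth.Agent.Lib.Purity.Free

open Groth.Agent.Lib.Purity.D2 Groth.Agent.Lib.Purity.Basic Groth.Agent.Lib.Purity.Reduce
open Groth.Agent.Lib.Purity.Auslander Groth.Agent.Lib.LCFin.Seq

variable {R : Type u} [CommRing R] [IsRegularLocalRing R] {M : Type u} [AddCommGroup M] [Module R M]

/-- Two modules sharing a dense submodule are isomorphic. -/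
theorem exists_equiv_of_dense {A : Type u} [CommRing A] [IsLocalRing A] {W P Q : Type u}
    [AddCommGroup W] [Module A W] [AddCommGroup P] [Module A P] [AddCommGroup Q] [Module A Q]
    (hP : IsD2 A P) (hQ : IsD2 A Q) (i : W →ₗ[A] P) (t : W →ₗ[A] Q) (hi : Function.Injective i)
    (ht : Function.Injective t) (k l : ℕ) (hir : ∀ s ∈ maximalIdeal A ^ k, ∀ v, s • v ∈ LinearMap.range i)
    (htr : ∀ s ∈ maximalIdeal A ^ l, ∀ v, s • v ∈ LinearMap.range t) :
    Nonempty (Q ≃ₗ[A] P) := by
  let ei := LinearEquiv.ofInjective i hi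
  let et := LinearEquiv.ofInjective t ht
  obtain ⟨F, hF⟩ := hQ.exists_extend (LinearMap.range i) k hir (t ∘ₗ ei.symm.toLinearMap)
  obtain ⟨G, hG⟩ := hP.exists_extend (LinearMap.range t) l htr (i ∘ₗ et.symm.toLinearMap)
  have hF' : ∀ v, F (i v) = t v := fun v => by
    rw [hF ⟨i v, v, rfl⟩]
    exact congrArg t (ei.symm_apply_apply v)
  have hG' : ∀ v, G (t v) = i v := fun v => by
    rw [hG ⟨t v, v, rfl⟩]
    exact congrArg i (et.symm_apply_apply v)
  refine ⟨LinearEquiv.ofLinear G F (hP.hom_ext k fun s hs v => ?_) (hQ.hom_ext l fun s hs v => ?_)⟩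
  · obtain ⟨w, hw⟩ := hir s hs v
    rw [← hw, LinearMap.comp_apply, hF', hG', LinearMap.id_apply]
  · obtain ⟨w, hw⟩ := htr s hs v
    rw [← hw, LinearMap.comp_apply, hG', hF', LinearMap.id_apply]

section Hull

variable {x : R} {k n : ℕ}

/-- The double dual of `M / xM`. -/
abbrev Hull (x : R) (M : Type u) [AddCommGroup M] [Module R M] : Type u :=
  Module.Dual (QR x) (Module.Dual (QR x) (QM x M))

set_option maxHeartbeats 800000 in
/-- The endomorphisms of the hull are again `n` copies of it. -/
theorem exists_endEquiv_hull (hM : Syz2 R M) (hxp : Prime x) [IsLocalRing (QR x)]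
    (hk : ∀ s ∈ maximalIdeal R ^ k, (s • LinearMap.id : M →ₗ[R] M) ∈ factor R M)
    (e : (M →ₗ[R] M) ≃ₗ[R] (Fin n → M))
    (hN : IsD2 (QR x) (Hull x M)) (hsk : ∃ s ∈ maximalIdeal R ^ k, s ∉ Ideal.span {x}) :
    Function.Injective (Module.Dual.eval (QR x) (QM x M)) ∧
    (∀ s ∈ maximalIdeal (QR x) ^ k, ∀ Φ, s • Φ ∈ LinearMap.range (Module.Dual.eval (QR x) (QM x M))) ∧
    Nonempty ((Hull x M →ₗ[QR x] Hull x M) ≃ₗ[QR x] (Fin n → Hull x M)) := by
  classical
  haveI := Groth.Agent.Lib.Regular.Quotient.isDomain R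
  obtain ⟨red, hred⟩ := exists_red (x := x) (M := M)
  set j := Module.Dual.eval (QR x) (QM x M) with hj
  set N := Hull x M
  set m' := maximalIdeal (QR x)
  have hmap : ∀ s' ∈ m' ^ k, ∃ s ∈ maximalIdeal R ^ k, Ideal.Quotient.mk (Ideal.span {x}) s = s' := by
    intro s' hs'
    have h1 : m' = (maximalIdeal R).map (Ideal.Quotient.mk (Ideal.span {x})) :=
      Groth.Agent.Lib.Regular.Quotient.maximalIdeal_quotient _
    rw [h1, ← Ideal.map_pow] at hs'
    exact (Ideal.mem_map_iff_of_surjective _ Ideal.Quotient.mk_surjective).mp hs'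
  have hfac : ∀ s ∈ maximalIdeal R ^ k, ((Ideal.Quotient.mk (Ideal.span {x}) s : QR x) • LinearMap.id :
      QM x M →ₗ[QR x] QM x M) ∈ factor (QR x) (QM x M) := by
    intro s hs
    have := red_mem_factor red hred (hk s hs)
    rwa [show red (s • LinearMap.id) = (Ideal.Quotient.mk (Ideal.span {x}) s : QR x) • LinearMap.id from
      LinearMap.ext fun z => by
        obtain ⟨z, rfl⟩ := qm_surjective z
        rw [hred, LinearMap.smul_apply, LinearMap.smul_apply, LinearMap.id_apply, LinearMap.id_apply,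
          qm_smul]] at this
  have hinj : Function.Injective j := by
    obtain ⟨s, hs, hsx⟩ := hsk
    rw [injective_iff_map_eq_zero]
    intro z hz
    exact smul_eq_zero_imp hxp hM (r := Ideal.Quotient.mk (Ideal.span {x}) s)
      (fun h => hsx (Ideal.Quotient.eq_zero_iff_mem.mp h))
      (eq_zero_of_forall_dual (hfac s hs) fun ψ => LinearMap.congr_fun hz ψ)
  have hrange : ∀ s ∈ m' ^ k, ∀ Φ, s • Φ ∈ LinearMap.range j := by
    intro s' hs' Φ
    obtain ⟨s, hs, rfl⟩ := hmap s' hs'
    obtain ⟨z, hz⟩ := exists_eval (hfac s hs) Φ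
    exact ⟨z, hz.symm⟩
  refine ⟨hinj, hrange, ?_⟩
  -- extension of endomorphisms
  let ej := LinearEquiv.ofInjective j hinj
  have hext : ∀ φ : QM x M →ₗ[QR x] QM x M, ∃ ψ : N →ₗ[QR x] N, ∀ z, ψ (j z) = j (φ z) := by
    intro φ
    obtain ⟨ψ, hψ⟩ := hN.exists_extend (LinearMap.range j) k hrange (j ∘ₗ φ ∘ₗ ej.symm.toLinearMap)
    refine ⟨ψ, fun z => ?_⟩
    rw [hψ ⟨j z, z, rfl⟩]
    simp only [LinearMap.comp_apply, LinearEquiv.coe_coe]
    congr 2
    exact ej.symm_apply_apply z
  have huniq : ∀ ψ ψ' : N →ₗ[QR x] N, (∀ z, ψ (j z) = ψ' (j z)) → ψ = ψ' := fun ψ ψ' h =>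
    hN.hom_ext k fun s hs Φ => by
      obtain ⟨z, hz⟩ := hrange s hs Φ
      rw [← hz, h]
  choose ext hext' using hext
  -- lifting vectors
  obtain ⟨lift, hlift⟩ : ∃ lift : (Fin n → QM x M) → (Fin n → M),
      ∀ v i, qm (x := x) (lift v i) = v i :=
    ⟨fun v i => (qm_surjective (v i)).choose, fun v i => (qm_surjective (v i)).choose_spec⟩
  have hwd : ∀ a b : Fin n → M, (∀ i, qm (x := x) (a i) = qm (b i)) →
      red (e.symm a) = red (e.symm b) := by
    intro a b h
    choose u hu using fun i => qm_eq_zero_iff.mp (show qm (x := x) (a i - b i) = 0 by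
      rw [map_sub, h, sub_self])
    rw [← sub_eq_zero, ← map_sub, ← map_sub, show a - b = x • u from funext hu]
    refine LinearMap.ext fun z => ?_
    obtain ⟨z, rfl⟩ := qm_surjective z
    rw [hred, map_smul, LinearMap.smul_apply, qm_x_smul, LinearMap.zero_apply]
  obtain ⟨T, hT⟩ : ∃ T : (Fin n → QM x M) →ₗ[QR x] (N →ₗ[QR x] N),
      ∀ v z, T v (j z) = j (red (e.symm (lift v)) z) := ⟨
    { toFun := fun v => ext (red (e.symm (lift v)))
      map_add' := fun v w => huniq _ _ fun z => by
        rw [LinearMap.add_apply, hext', hext', hext',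
          hwd (lift (v + w)) (lift v + lift w) (fun i => by rw [Pi.add_apply, map_add, hlift, hlift, hlift]; rfl),
          map_add, map_add, LinearMap.add_apply, map_add]
      map_smul' := fun r v => huniq _ _ fun z => by
        obtain ⟨r, rfl⟩ := Ideal.Quotient.mk_surjective r
        rw [RingHom.id_apply, LinearMap.smul_apply, hext', hext',
          hwd (lift (Ideal.Quotient.mk (Ideal.span {x}) r • v)) (r • lift v) (fun i => by
            rw [hlift, Pi.smul_apply, Pi.smul_apply, ← qm_smul, hlift]),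
          map_smul, map_smul, LinearMap.smul_apply, ← map_smul j]
        congr 1 },
    fun v z => hext' _ _⟩
  have hTinj : Function.Injective T := by
    rw [injective_iff_map_eq_zero]
    intro v hv
    have h0 : red (e.symm (lift v)) = 0 := LinearMap.ext fun z => hinj (by
      rw [← hT, hv, LinearMap.zero_apply, LinearMap.zero_apply, map_zero])
    have h1 : ∀ z, ∃ w, e.symm (lift v) z = x • w := fun z => qm_eq_zero_iff.mp (by
      rw [← hred, h0, LinearMap.zero_apply])
    choose g hg using h1
    have hx0 := hM.smul_regular hxp.ne_zero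
    let g' : M →ₗ[R] M :=
      { toFun := g
        map_add' := fun a b => hx0 (show x • g (a + b) = x • (g a + g b) by
          rw [← hg, map_add, smul_add, hg, hg])
        map_smul' := fun r a => hx0 (show x • g (r • a) = x • r • g a by
          rw [← hg, map_smul, smul_comm x r, hg]) }
    have h2 : lift v = x • e g' := by
      rw [← map_smul, ← show e.symm (lift v) = x • g' from LinearMap.ext hg, e.apply_symm_apply]
    funext i
    rw [← hlift v i, h2, Pi.smul_apply, qm_x_smul]
    rfl
  have hTrange : ∀ s ∈ m' ^ (k + k), ∀ φ : N →ₗ[QR x] N, s • φ ∈ LinearMap.range T := by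
    intro s hs φ
    rw [pow_add] at hs
    refine Submodule.mul_induction_on (C := fun s => s • φ ∈ LinearMap.range T) hs ?_
      fun a b ha hb => by rw [add_smul]; exact add_mem ha hb
    intro a ha t ht
    let φ1 : QM x M →ₗ[QR x] QM x M :=
      ej.symm.toLinearMap ∘ₗ LinearMap.codRestrict (LinearMap.range j) (t • (φ ∘ₗ j)) fun z =>
        hrange t ht (φ (j z))
    have hφ1 : ∀ z, j (φ1 z) = t • φ (j z) := fun z =>
      congrArg Subtype.val (ej.apply_symm_apply ⟨t • φ (j z), hrange t ht (φ (j z))⟩)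
    obtain ⟨a', ha', rfl⟩ := hmap a ha
    obtain ⟨e0, he0⟩ := exists_lift_comp (x := x) φ1 (hk a' ha')
    refine ⟨fun i => qm (e e0 i), huniq _ _ fun z => ?_⟩
    obtain ⟨z, rfl⟩ := qm_surjective z
    rw [hT, hwd (lift fun i => qm (e e0 i)) (e e0) (fun i => hlift _ i), e.symm_apply_apply, hred, he0,
      LinearMap.smul_apply, LinearMap.id_apply, ← qm_smul, map_smul, map_smul, hφ1, mul_smul,
      LinearMap.smul_apply, LinearMap.smul_apply]
  let jn : (Fin n → QM x M) →ₗ[QR x] (Fin n → N) := LinearMap.compLeft j (Fin n)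
  exact exists_equiv_of_dense hN.pi hN.hom jn T hinj.comp_left hTinj k (k + k)
    (fun s hs v => by
      choose w hw using fun i => hrange s hs (v i)
      exact ⟨w, funext hw⟩) hTrange

end Hull

/-- Dimension at least four, given the lemma one dimension below. -/
theorem free_of_four_le {k n : ℕ} (hd : 4 ≤ (maximalIdeal R).spanFinrank) (hM : Syz2 R M)
    (e : (M →ₗ[R] M) ≃ₗ[R] (Fin n → M))
    (hk : ∀ s ∈ maximalIdeal R ^ k, (s • LinearMap.id : M →ₗ[R] M) ∈ factor R M)
    (ih : ∀ (R' : Type u) [CommRing R'] [IsRegularLocalRing R'],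
      (maximalIdeal R').spanFinrank < (maximalIdeal R).spanFinrank →
      ∀ (N : Type u) [AddCommGroup N] [Module R' N], Syz2 R' N → ∀ m : ℕ,
        Nonempty ((N →ₗ[R'] N) ≃ₗ[R'] (Fin m → N)) → Module.Free R' N) :
    Module.Free R M := by
  classical
  haveI := Groth.Agent.Lib.Regular.Quotient.isDomain R
  haveI := hM.finite
  obtain ⟨x, hx, hxp, hreg, hdim⟩ := exists_parameter (R := R) (by omega)
  haveI := hreg
  haveI : Module.Finite (QR x) (QM x M) := Module.Finite.of_restrictScalars_finite R _ _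
  haveI : Module.Finite (QR x) (Module.Dual (QR x) (QM x M)) := (syz2_dual (R := QR x) (QM x M)).finite
  have hdim' := hdim
  have hsyz : Syz2 (QR x) (Hull x M) := syz2_dual (R := QR x) (Module.Dual (QR x) (QM x M))
  haveI : Module.Finite (QR x) (Hull x M) := hsyz.finite
  have hN : IsD2 (QR x) (Hull x M) := hsyz.isD2 (by
    rw [ringKrullDim_eq]; exact_mod_cast (show 2 ≤ (maximalIdeal (QR x)).spanFinrank by omega))
  obtain ⟨hinj, hrange, hend⟩ := exists_endEquiv_hull hM hxp hk e hN
    (exists_pow_mem_notMem hxp (by omega) k)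
  haveI : Module.Free (QR x) (Hull x M) := ih (QR x) (by omega) (Hull x M) hsyz n hend
  haveI := Groth.Agent.Lib.Regular.Quotient.isDomain (QR x)
  let b := Module.finBasis (QR x) (Hull x M)
  set r := Module.finrank (QR x) (Hull x M)
  let j₀ : QM x M →ₗ[QR x] (Fin r → QR x) := b.equivFun.toLinearMap ∘ₗ Module.Dual.eval (QR x) (QM x M)
  let j : QM x M →ₗ[R] (Fin r → QR x) := j₀.restrictScalars R
  have hji : Function.Injective j := b.equivFun.injective.comp hinj
  let m := maximalIdeal R
  let L := (Fin r → QR x) ⧸ LinearMap.range j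
  have hL : ∀ s ∈ m ^ k, ∀ z : L, s • z = 0 := by
    intro s hs z
    obtain ⟨v, rfl⟩ := Submodule.Quotient.mk_surjective _ z
    have hs' : Ideal.Quotient.mk (Ideal.span {x}) s ∈ maximalIdeal (QR x) ^ k := by
      rw [show maximalIdeal (QR x) = m.map (Ideal.Quotient.mk (Ideal.span {x})) from
        Groth.Agent.Lib.Regular.Quotient.maximalIdeal_quotient _, ← Ideal.map_pow]
      exact Ideal.mem_map_of_mem _ hs
    obtain ⟨z, hz⟩ := hrange _ hs' (b.equivFun.symm v)
    rw [← Submodule.Quotient.mk_smul, Submodule.Quotient.mk_eq_zero]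
    refine ⟨z, ?_⟩
    change b.equivFun (Module.Dual.eval (QR x) (QM x M) z) = s • v
    rw [hz, map_smul, b.equivFun.apply_symm_apply]
    rfl
  obtain ⟨a2, ha2, c2, hc2, hpair⟩ := hM.isD2 (by rw [ringKrullDim_eq]; exact_mod_cast (show 2 ≤ (maximalIdeal R).spanFinrank by omega)) 1
  rw [pow_one] at ha2 hc2
  have hM0 : ∀ i < 2, Subsingleton (LocCoh.H m i M) := subsingleton_H_of_pair ha2 hc2 hpair
  have hR : ∀ i < 4, Subsingleton (LocCoh.H m i R) := fun i hi => subsingleton_H_self (by omega)
  have hxR : Function.Injective (LinearMap.lsmul R R x) := fun a c h => mul_left_cancel₀ hxp.ne_zero h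
  have hQR : ∀ i < 3, Subsingleton (LocCoh.H m i (QR x)) := by
    intro i hi
    refine Groth.Agent.Lib.LCFin.Seq.subsingleton_right (f := LinearMap.lsmul R R x)
      (g := Algebra.linearMap R (QR x)) m hxR Ideal.Quotient.mk_surjective ?_ i (hR i (by omega)) (hR (i + 1) (by omega))
    intro a
    rw [Algebra.linearMap_apply]
    constructor
    · intro ha
      obtain ⟨c, hc⟩ := Ideal.mem_span_singleton'.mp (Ideal.Quotient.eq_zero_iff_mem.mp ha)
      exact ⟨c, by rw [← hc, mul_comm]; rfl⟩
    · rintro ⟨c, rfl⟩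
      exact Ideal.Quotient.eq_zero_iff_mem.mpr (Ideal.mul_mem_right _ _ (Ideal.mem_span_singleton_self x))
  have hNF : ∀ i < 3, Subsingleton (LocCoh.H m i (Fin r → QR x)) := fun i hi =>
    subsingleton_H_pi i r (hQR i hi)
  have hex : Function.Exact j (LinearMap.range j).mkQ := LinearMap.exact_iff.mpr (Submodule.ker_mkQ _)
  have hx0 : Function.Injective (LinearMap.lsmul R M x) := hM.smul_regular hxp.ne_zero
  have hexM := exact_qm (x := x) (M := M)
  -- `H²(M / xM) = 0`
  have hQ2 : Subsingleton (LocCoh.H m 2 (QM x M)) :=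
    subsingleton_left m hji (Submodule.mkQ_surjective _) hex 1
      (subsingleton_H_of_killed 0 k hL) (hNF 2 (by omega))
  -- hence `H²(M) = 0`
  have hkill : ∀ z : LocCoh.H m 2 M, x ^ k • z = 0 := fun z =>
    smul_H_eq_zero (hR 2 (by omega)) (hk _ (Ideal.pow_mem_pow hx k)) z
  have hsurj : ∀ z : LocCoh.H m 2 M, ∃ w, x • w = z := fun z => by
    obtain ⟨w, hw⟩ := (exact_map_map m hx0 qm_surjective hexM 2 z).1 (hQ2.elim _ _)
    exact ⟨w, (Hmap_lsmul m 2 x w).symm.trans hw⟩
  have hM2 : Subsingleton (LocCoh.H m 2 M) := by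
    have key : ∀ (l : ℕ) (z : LocCoh.H m 2 M), ∃ w, x ^ l • w = z := by
      intro l
      induction l with
      | zero => exact fun z => ⟨z, by simp⟩
      | succ l ih =>
        intro z
        obtain ⟨w, rfl⟩ := ih z
        obtain ⟨w', rfl⟩ := hsurj w
        exact ⟨w', by rw [pow_succ, mul_smul]⟩
    refine subsingleton_of_forall_eq 0 fun z => ?_
    obtain ⟨w, rfl⟩ := key k z
    exact hkill w
  have hQ1 : Subsingleton (LocCoh.H m 1 (QM x M)) :=
    subsingleton_right m hx0 qm_surjective hexM 1 (hM0 1 one_lt_two) hM2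
  have hL0 : Subsingleton (LocCoh.H m 0 L) :=
    subsingleton_right m hji (Submodule.mkQ_surjective _) hex 0 (hNF 0 (by omega)) hQ1
  have hjs : Function.Surjective j₀ := by
    intro v
    have h1 := (Groth.Agent.Lib.Depth.LocalCoh.subsingleton_H_zero_iff m (ModuleCat.of R L)).mp hL0
      (Submodule.Quotient.mk v) ⟨k, fun s hs => hL s hs _⟩
    exact (Submodule.Quotient.mk_eq_zero (LinearMap.range j)).mp h1
  haveI : Module.Free (QR x) (QM x M) :=
    Module.Free.of_equiv (LinearEquiv.ofBijective j₀ ⟨hji, hjs⟩).symm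
  exact free_of_quotient hx (hM.smul_regular hxp.ne_zero)

/-- Transport of an `n`-power description of the endomorphisms to a localization. -/
theorem exists_endEquiv_localized {A : Type u} [CommRing A] [IsNoetherianRing A] {N : Type u}
    [AddCommGroup N] [Module A N] [Module.Finite A N] {n : ℕ}
    (e : (N →ₗ[A] N) ≃ₗ[A] (Fin n → N)) (S : Submonoid A) :
    Nonempty ((LocalizedModule S N →ₗ[Localization S] LocalizedModule S N) ≃ₗ[Localization S]
      (Fin n → LocalizedModule S N)) := by
  haveI : Module.FinitePresentation A N := Module.finitePresentation_of_finite A N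
  let g := LocalizedModule.mkLinearMap S N
  let gn : (Fin n → N) →ₗ[A] (Fin n → LocalizedModule S N) :=
    LinearMap.pi fun i => g ∘ₗ LinearMap.proj i
  haveI : IsLocalizedModule S gn := IsLocalizedModule.pi S _
  haveI : IsLocalizedModule S (gn ∘ₗ e.toLinearMap) := inferInstance
  let map' := IsLocalizedModule.mapExtendScalars S g g (Localization S)
  exact ⟨(IsLocalizedModule.linearEquiv S map' (gn ∘ₗ e.toLinearMap)).extendScalarsOfIsLocalization S
    (Localization S)⟩

/-- A second syzygy over a regular local ring with `End M ≅ M ^ n` is free. -/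
theorem free_of_endEquiv_aux : ∀ (d : ℕ) (R : Type u) [CommRing R] [IsRegularLocalRing R],
    (maximalIdeal R).spanFinrank = d → ∀ (M : Type u) [AddCommGroup M] [Module R M],
      Syz2 R M → ∀ n : ℕ, Nonempty ((M →ₗ[R] M) ≃ₗ[R] (Fin n → M)) → Module.Free R M := by
  intro d
  induction d using Nat.strong_induction_on with
  | _ d ih =>
    intro R _ _ hd M _ _ hM n ⟨e⟩
    rcases Nat.lt_or_ge d 3 with h | h
    · exact free_of_le_two (by omega) M hM
    haveI := hM.finite
    obtain ⟨k, hk⟩ := exists_pow_factor (R := R) (M := M) fun p hp hpm => by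
      haveI := Groth.Agent.Lib.Regular.Serre.isRegularLocalRing_localization (R := R) p
      have hlt : (maximalIdeal (Localization.AtPrime p)).spanFinrank < d := by
        have h1 : ringKrullDim (Localization.AtPrime p) = p.height :=
          IsLocalization.AtPrime.ringKrullDim_eq_height p _
        rw [ringKrullDim_eq] at h1
        have h2 : p.height < (maximalIdeal R).height :=
          Ideal.height_strict_mono_of_isPrime_of_isPrime
            (lt_of_le_of_ne (IsLocalRing.le_maximalIdeal hp.ne_top) hpm)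
        have h3 := IsLocalRing.maximalIdeal_height_eq_ringKrullDim (R := R)
        rw [ringKrullDim_eq, hd] at h3
        have h4 : (((maximalIdeal (Localization.AtPrime p)).spanFinrank : ℕ) : ℕ∞) = p.height :=
          WithBot.coe_injective h1
        have h5 : (maximalIdeal R).height = (d : ℕ∞) := WithBot.coe_injective h3
        rw [← h4, h5] at h2
        exact_mod_cast h2
      exact ih _ hlt (Localization.AtPrime p) rfl _ (hM.localize p.primeCompl) n
        (exists_endEquiv_localized e p.primeCompl)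
    rcases Nat.lt_or_ge d 4 with h' | h'
    · exact free_of_eq_three (by omega) hM n e hk
    · exact free_of_four_le (by omega) hM e hk fun R' _ _ hlt N _ _ hN m hm =>
        ih _ (by omega) R' rfl N hN m hm

/-- A second syzygy over a regular local ring with `End M ≅ M ^ n` is free. -/
theorem free_of_endEquiv (hM : Syz2 R M) {n : ℕ} (e : (M →ₗ[R] M) ≃ₗ[R] (Fin n → M)) :
    Module.Free R M :=
  free_of_endEquiv_aux _ R rfl M hM n ⟨e⟩

end Groth.Agent.Lib.Purity.Free
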