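import Groth.Agent.Lib.Purity.Free
import Mathlib.RingTheory.Invariant.Basic
import Mathlib.RingTheory.Polynomial.ScaleRoots
import Mathlib.RingTheory.IntegralClosure.IntegrallyClosed
import Mathlib.RingTheory.Ideal.GoingUp

/-!
# Galois algebras in codimension one
-/

set_option autoImplicit false

universe u v w

open Polynomial

namespace Groth.Agent.Lib.Purity.Galois

variable {R : Type u} [CommRing R] {A : Type v} [CommRing A] [Algebra R A]
  {G : Type w} [Group G] [MulSemiringAction G A] [SMulCommClass G R A]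

/-- `f` is represented by pairs with entries in `C`. -/
def Rep (C : Subalgebra R A) (f : G → A) : Prop :=
  ∃ (ι : Type) (_ : Fintype ι) (a b : ι → A),
    (∀ i, a i ∈ C ∧ b i ∈ C) ∧ ∀ g, ∑ i, a i * g • b i = f g

open Classical in
/-- The function supported at one with value `D`. -/
noncomputable def delta (D : A) : G → A := fun g => if g = 1 then D else 0

variable {C : Subalgebra R A} {f f' : G → A}

omit [SMulCommClass G R A] in
lemma Rep.pair (c b : A) (hc : c ∈ C) (hb : b ∈ C) : Rep C fun g : G => c * g • b :=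
  ⟨Unit, inferInstance, fun _ => c, fun _ => b, fun _ => ⟨hc, hb⟩, fun g => by simp⟩

omit [SMulCommClass G R A] in
lemma Rep.add (h : Rep C f) (h' : Rep C f') : Rep C (f + f') := by
  obtain ⟨ι, _, a, b, hC, hf⟩ := h
  obtain ⟨κ, _, a', b', hC', hf'⟩ := h'
  refine ⟨ι ⊕ κ, inferInstance, Sum.elim a a', Sum.elim b b', fun i => ?_, fun g => ?_⟩
  · cases i <;> simp [hC, hC']
  · rw [Fintype.sum_sum_type, Pi.add_apply, ← hf, ← hf']
    rfl

omit [SMulCommClass G R A] in
lemma Rep.mul (h : Rep C f) (h' : Rep C f') : Rep C (f * f') := by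
  obtain ⟨ι, _, a, b, hC, hf⟩ := h
  obtain ⟨κ, _, a', b', hC', hf'⟩ := h'
  refine ⟨ι × κ, inferInstance, fun i => a i.1 * a' i.2, fun i => b i.1 * b' i.2,
    fun i => ⟨mul_mem (hC i.1).1 (hC' i.2).1, mul_mem (hC i.1).2 (hC' i.2).2⟩, fun g => ?_⟩
  rw [Pi.mul_apply, ← hf, ← hf', Finset.sum_mul_sum, Fintype.sum_prod_type]
  refine Finset.sum_congr rfl fun i _ => Finset.sum_congr rfl fun j _ => ?_
  rw [smul_mul']
  ring

omit [SMulCommClass G R A] in
lemma Rep.smul (h : Rep C f) {c : A} (hc : c ∈ C) : Rep C (c • f) := by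
  obtain ⟨ι, _, a, b, hC, hf⟩ := h
  refine ⟨ι, inferInstance, fun i => c * a i, b, fun i => ⟨mul_mem hc (hC i).1, (hC i).2⟩, fun g => ?_⟩
  rw [Pi.smul_apply, smul_eq_mul, ← hf, Finset.mul_sum]
  exact Finset.sum_congr rfl fun i _ => mul_assoc _ _ _

omit [SMulCommClass G R A] in
lemma Rep.one : Rep C (1 : G → A) := by
  have h : (1 : G → A) = fun g => (1 : A) * g • (1 : A) := funext fun g => by simp
  rw [h]
  exact Rep.pair 1 1 (one_mem C) (one_mem C)

omit [SMulCommClass G R A] in
lemma Rep.prod {κ : Type*} (s : Finset κ) (F : κ → G → A) (h : ∀ j ∈ s, Rep C (F j)) :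
    Rep C (∏ j ∈ s, F j) := by
  classical
  induction s using Finset.induction_on with
  | empty => rw [Finset.prod_empty]; exact Rep.one
  | insert x s hx ih =>
    rw [Finset.prod_insert hx]
    exact (h x (Finset.mem_insert_self _ _)).mul (ih fun j hj => h j (Finset.mem_insert_of_mem hj))

variable [Fintype G]

omit [SMulCommClass G R A] in
lemma Rep.trace_identity {D : A} (h : Rep C (delta (G := G) D)) :
    ∃ (ι : Type) (_ : Fintype ι) (a b : ι → A), (∀ i, a i ∈ C ∧ b i ∈ C) ∧
      ∀ x : A, D * x = ∑ i, a i * ∑ g : G, g • (b i * x) := by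
  classical
  obtain ⟨ι, hι, a, b, hC, hf⟩ := h
  refine ⟨ι, hι, a, b, hC, fun x => ?_⟩
  simp only [Finset.mul_sum, smul_mul', ← mul_assoc]
  rw [Finset.sum_comm]
  simp only [← Finset.sum_mul, hf]
  rw [Finset.sum_eq_single (1 : G)]
  · simp [delta]
  · exact fun g _ hg => by simp [delta, hg]
  · exact fun h => absurd (Finset.mem_univ _) h

omit [SMulCommClass G R A] in
/-- Characters are independent. -/
lemma Rep.mul_eq_zero {D : A} (hD : ∀ g : G, g • D = D) (h : Rep C (delta (G := G) D)) (c : G → A)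
    (hc : ∀ x, ∑ g : G, c g * g • x = 0) (g : G) : c g * D = 0 := by
  classical
  obtain ⟨ι, _, a, b, -, hf⟩ := h
  have key : ∀ g' : G, ∑ i, g • a i * g' • b i = if g' = g then D else 0 := by
    intro g'
    have h1 := congrArg (g • ·) (hf (g⁻¹ * g'))
    simp only [Finset.smul_sum, smul_mul', smul_smul, mul_inv_cancel_left] at h1
    rw [h1]
    simp only [delta, inv_mul_eq_one, eq_comm (a := g)]
    split <;> simp [hD]
  calc c g * D = ∑ g', c g' * ∑ i, g • a i * g' • b i := by simp [key]
    _ = ∑ i, g • a i * ∑ g', c g' * g' • b i := by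
      simp only [Finset.mul_sum]
      rw [Finset.sum_comm]
      exact Finset.sum_congr rfl fun i _ => Finset.sum_congr rfl fun g' _ => by ring
    _ = 0 := by simp [hc]

/-- The trace lands in the base. -/
lemma trace_mem (hfix : ∀ a : A, (∀ g : G, g • a = a) → a ∈ Set.range (algebraMap R A)) (x : A) :
    (∑ g : G, g • x) ∈ Set.range (algebraMap R A) :=
  hfix _ fun h => by
    rw [Finset.smul_sum]
    exact Fintype.sum_equiv (Equiv.mulLeft h) _ _ fun g => smul_smul h g x

omit [SMulCommClass G R A] in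
/-- Away from primes with nontrivial inertia the algebra is Galois. -/
theorem exists_notMem_rep [Algebra.IsIntegral R A] [SMulCommClass G R A] (p : Ideal R) [p.IsPrime]
    (hin : ∀ Q : Ideal A, Q.IsPrime → Q.comap (algebraMap R A) = p → Q.inertia G = ⊥) :
    ∃ D : R, D ∉ p ∧ Rep (⊤ : Subalgebra R A) (delta (G := G) (algebraMap R A D)) := by
  classical
  let J : Ideal A :=
    { carrier := {c | Rep (⊤ : Subalgebra R A) (delta (G := G) c)}
      zero_mem' := by
        refine ⟨Empty, inferInstance, Empty.elim, Empty.elim, fun i => i.elim, fun g => ?_⟩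
        simp [delta]
      add_mem' := fun {c d} hc hd => by
        have h := hc.add hd
        have e : (delta c + delta d : G → A) = delta (c + d) := funext fun g => by
          by_cases hg : g = 1 <;> simp [delta, hg]
        rwa [e] at h
      smul_mem' := fun c d hd => by
        have h := hd.smul (c := c) Algebra.mem_top
        have e : (c • delta d : G → A) = delta (c • d) := funext fun g => by
          by_cases hg : g = 1 <;> simp [delta, hg]
        rwa [e] at h }
  have hJ : ∀ Q : Ideal A, Q.IsPrime → Q.comap (algebraMap R A) = p → ¬ J ≤ Q := by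
    intro Q hQ hQp hle
    have h : ∀ g : G, g ≠ 1 → ∃ b : A, g • b - b ∉ Q := fun g hg => by
      by_contra! hc
      exact hg ((Subgroup.eq_bot_iff_forall _).mp (hin Q hQ hQp) g fun b => hc b)
    choose! b hb using h
    let F : G → G → A := fun g h => (-(g • b g)) * h • (1 : A) + (1 : A) * h • b g
    have hrep : Rep (⊤ : Subalgebra R A) (∏ g ∈ Finset.univ.erase 1, F g) :=
      Rep.prod _ _ fun g _ => (Rep.pair (C := (⊤ : Subalgebra R A)) _ _ Algebra.mem_top Algebra.mem_top).add
        (Rep.pair _ _ Algebra.mem_top Algebra.mem_top)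
    have hval : (∏ g ∈ Finset.univ.erase 1, F g) =
        delta (G := G) (∏ g ∈ Finset.univ.erase 1, (b g - g • b g)) := funext fun h => by
      rw [Finset.prod_apply]
      by_cases hh : h = 1
      · subst hh
        simp [delta, F, sub_eq_neg_add]
      · simp only [delta, if_neg hh]
        exact Finset.prod_eq_zero (i := h) (Finset.mem_erase.mpr ⟨hh, Finset.mem_univ _⟩) (by simp [F])
    have hmem : (∏ g ∈ Finset.univ.erase (1 : G), (b g - g • b g)) ∈ J := by
      rw [hval] at hrep
      exact hrep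
    obtain ⟨g, hg, hgQ⟩ := hQ.prod_mem_iff.mp (hle hmem)
    exact hb g (Finset.mem_erase.mp hg).1 (by simpa using Q.neg_mem hgQ)
  by_contra! h
  obtain ⟨Q, hQJ, hQ, hQp⟩ := Ideal.exists_ideal_over_prime_of_isIntegral p J fun D hD => by
    by_contra hDp
    exact h D hDp hD
  exact hJ Q hQ hQp hQJ

section Normal

variable [IsDomain R] [UniqueFactorizationMonoid R] [IsDomain A]

/-- Divisibility can be tested away from one multiplier at each prime. -/
theorem dvd_of_forall {s e : R} (hs : s ≠ 0) (h : ∀ π : R, Prime π → ∃ D : R, ¬ π ∣ D ∧ s ∣ D * e) :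
    s ∣ e := by
  induction s using UniqueFactorizationMonoid.induction_on_prime generalizing e with
  | h₁ => exact absurd rfl hs
  | h₂ s hu => exact hu.dvd
  | h₃ s π hs0 hπ ih =>
    obtain ⟨D, hD, hdvd⟩ := h π hπ
    obtain ⟨e', rfl⟩ := (hπ.dvd_or_dvd (dvd_trans (dvd_mul_right π s) hdvd)).resolve_left hD
    refine mul_dvd_mul_left π (ih hs0 fun q hq => ?_)
    obtain ⟨D', hD', hdvd'⟩ := h q hq
    refine ⟨D', hD', ?_⟩
    rw [mul_left_comm] at hdvd'
    exact (mul_dvd_mul_iff_left hπ.ne_zero).mp hdvd'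

variable [IsIntegrallyClosed A]

/-- A normal algebra is saturated in codimension one. -/
theorem exists_eq_mul (hinj : Function.Injective (algebraMap R A))
    (hfix : ∀ a : A, (∀ g : G, g • a = a) → a ∈ Set.range (algebraMap R A)) {s : R} (hs : s ≠ 0) (a : A)
    (h : ∀ π : R, Prime π → ∃ D : R, ¬ π ∣ D ∧
      ∃ c : A, algebraMap R A D * a = algebraMap R A s * c) :
    ∃ c : A, a = algebraMap R A s * c := by
  classical
  haveI : Algebra.IsInvariant R A G := ⟨hfix⟩
  let P : A → A[X] := fun t => ∏ g : G, (X - Polynomial.C (g • t))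
  have hP : ∀ t, ∃ Q : R[X], Q.map (algebraMap R A) = P t := fun t =>
    (Polynomial.mem_lifts _).mp (Algebra.IsInvariant.charpoly_mem_lifts R A G t)
  have hmon : ∀ t, (P t).Monic := fun t => monic_prod_of_monic _ _ fun g _ => monic_X_sub_C _
  have hdeg : ∀ t, (P t).natDegree = Fintype.card G := fun t => by
    rw [natDegree_prod_of_monic _ _ fun g _ => monic_X_sub_C _]
    simp [natDegree_X_sub_C]
  have hscale : ∀ (r : R) (t : A), P (algebraMap R A r * t) = (P t).scaleRoots (algebraMap R A r) := by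
    intro r t
    have key : ∀ F : Finset G, ∏ g ∈ F, (X - Polynomial.C (g • (algebraMap R A r * t))) =
        (∏ g ∈ F, (X - Polynomial.C (g • t))).scaleRoots (algebraMap R A r) := by
      intro F
      induction F using Finset.induction_on with
      | empty => rw [Finset.prod_empty, Finset.prod_empty, one_scaleRoots]
      | insert x F hx ih =>
        rw [Finset.prod_insert hx, Finset.prod_insert hx, mul_scaleRoots_of_noZeroDivisors, ← ih,
          X_sub_C_scaleRoots, smul_mul', smul_algebraMap, mul_comm (x • t)]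
    exact key _
  obtain ⟨Q, hQ⟩ := hP a
  have hco : ∀ i, s ^ (Fintype.card G - i) ∣ Q.coeff i := fun i => by
    refine dvd_of_forall (pow_ne_zero _ hs) fun π hπ => ?_
    obtain ⟨D, hD, c, hc⟩ := h π hπ
    obtain ⟨Q', hQ'⟩ := hP c
    refine ⟨D ^ (Fintype.card G - i), fun hd => hD (hπ.dvd_of_dvd_pow hd), Q'.coeff i, hinj ?_⟩
    have h1 := congrArg (fun F : A[X] => F.coeff i) (((hscale D a).symm.trans (congrArg P hc)).trans (hscale s c))
    simp only [coeff_scaleRoots, hdeg] at h1
    simp only [← hQ, ← hQ', coeff_map] at h1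
    simp only [map_mul, map_pow]
    linear_combination h1
  choose d hd using hco
  let K := FractionRing A
  let n := Fintype.card G
  have hs' : algebraMap R K s ≠ 0 := by
    rw [IsScalarTower.algebraMap_apply R A K]
    exact (map_ne_zero_iff _ (IsFractionRing.injective A K)).mpr ((map_ne_zero_iff _ hinj).mpr hs)
  let z : K := algebraMap A K a / algebraMap R K s
  let q : R[X] := X ^ n + ∑ i ∈ Finset.range n, Polynomial.C (d i) * X ^ i
  have hQm : Q.Monic := monic_of_injective hinj (hQ ▸ hmon a)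
  have hQd : Q.natDegree = n := by
    rw [← natDegree_map_eq_of_injective hinj Q, hQ, hdeg]
  have hint : IsIntegral R z := by
    refine ⟨q, monic_X_pow_add ?_, ?_⟩
    · refine (degree_sum_le _ _).trans_lt ((Finset.sup_lt_iff (WithBot.bot_lt_coe n)).mpr fun i hi => ?_)
      exact (degree_C_mul_X_pow_le i (d i)).trans_lt (WithBot.coe_lt_coe.mpr (Finset.mem_range.mp hi))
    · have hroot : Polynomial.eval₂ (algebraMap R K) (algebraMap A K a) Q = 0 := by
        have h1 : (P a).eval a = 0 := by
          simp only [P, eval_prod]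
          exact Finset.prod_eq_zero (Finset.mem_univ (1 : G)) (by simp)
        rw [← hQ, eval_map] at h1
        have := congrArg (algebraMap A K) h1
        rwa [hom_eval₂, ← IsScalarTower.algebraMap_eq, map_zero] at this
      rw [eval₂_eq_sum_range, hQd, Finset.sum_range_succ, ← hQd, hQm.coeff_natDegree, hQd, map_one, one_mul] at hroot
      have ha : algebraMap A K a = algebraMap R K s * z := (mul_div_cancel₀ _ hs').symm
      rw [ha] at hroot
      simp only [mul_pow] at hroot
      refine mul_left_cancel₀ (pow_ne_zero n hs') ?_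
      rw [mul_zero]
      refine Eq.trans ?_ hroot
      simp only [q, eval₂_add, eval₂_X_pow, eval₂_finsetSum, eval₂_mul, eval₂_C, mul_add, Finset.mul_sum]
      rw [add_comm]
      congr 1
      rw [Finset.mul_sum]
      refine Finset.sum_congr rfl fun i hi => ?_
      rw [hd i, map_mul, map_pow, show n = (n - i) + i by have := Finset.mem_range.mp hi; omega, pow_add]
      ring
  obtain ⟨c, hc⟩ := IsIntegrallyClosed.isIntegral_iff.mp (hint.tower_top (A := A))
  refine ⟨c, IsFractionRing.injective A K ?_⟩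
  rw [map_mul, hc, ← IsScalarTower.algebraMap_apply]
  exact (mul_div_cancel₀ _ hs').symm

end Normal

section Main

variable [IsDomain A]

/-- For each prime element some multiplier makes the algebra Galois. -/
def IsGaloisCodimOne (R : Type u) [CommRing R] (A : Type v) [CommRing A] [Algebra R A]
    (G : Type w) [Group G] [MulSemiringAction G A] : Prop :=
  ∀ p : Ideal R, p.IsPrime → p.IsPrincipal →
    ∃ D : R, D ∉ p ∧ Rep (⊤ : Subalgebra R A) (delta (G := G) (algebraMap R A D))

theorem exists_prime_mult [IsDomain R] (h : IsGaloisCodimOne R A G) (π : R) (hπ : Prime π) :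
    ∃ D : R, ¬ π ∣ D ∧ Rep (⊤ : Subalgebra R A) (delta (G := G) (algebraMap R A D)) := by
  obtain ⟨D, hD, hr⟩ := h (Ideal.span {π}) ((Ideal.span_singleton_prime hπ.ne_zero).mpr hπ) ⟨⟨π, rfl⟩⟩
  exact ⟨D, fun hd => hD (Ideal.mem_span_singleton.mpr hd), hr⟩

theorem exists_ne_zero_mult [IsDomain R] (h : IsGaloisCodimOne R A G) :
    ∃ D : R, D ≠ 0 ∧ Rep (⊤ : Subalgebra R A) (delta (G := G) (algebraMap R A D)) := by
  obtain ⟨D, hD, hr⟩ := h ⊥ Ideal.isPrime_bot ⟨⟨0, by simp⟩⟩
  exact ⟨D, fun h => hD (h ▸ zero_mem _), hr⟩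

variable [IsDomain R] [UniqueFactorizationMonoid R] [IsIntegrallyClosed A]
  (hinj : Function.Injective (algebraMap R A))
  (hfix : ∀ a : A, (∀ g : G, g • a = a) → a ∈ Set.range (algebraMap R A))
  (hgal : IsGaloisCodimOne R A G)

include hinj hfix hgal

/-- Every endomorphism is a combination of the automorphisms. -/
theorem exists_coeffs (φ : A →ₗ[R] A) : ∃ c : G → A, ∀ x, φ x = ∑ g : G, c g * g • x := by
  classical
  obtain ⟨D0, hD0, hr0⟩ := exists_ne_zero_mult hgal
  have hne : algebraMap R A D0 ≠ 0 := (map_ne_zero_iff _ hinj).mpr hD0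
  have hsurj : ∀ D : R, Rep (⊤ : Subalgebra R A) (delta (G := G) (algebraMap R A D)) →
      ∃ c : G → A, ∀ x, ∑ g : G, c g * g • x = algebraMap R A D * φ x := by
    intro D hr
    obtain ⟨ι, _, a, b, -, hid⟩ := hr.trace_identity
    refine ⟨fun g => ∑ i, φ (a i) * g • b i, fun x => ?_⟩
    have h1 : algebraMap R A D * φ x = φ (∑ i, a i * ∑ g : G, g • (b i * x)) := by
      rw [← hid, ← Algebra.smul_def, ← Algebra.smul_def, map_smul]
    rw [h1, map_sum]
    simp only [Finset.sum_mul]
    rw [Finset.sum_comm]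
    refine Finset.sum_congr rfl fun i _ => ?_
    obtain ⟨r, hr⟩ := trace_mem hfix (b i * x)
    rw [← hr, mul_comm (a i), ← Algebra.smul_def, map_smul, Algebra.smul_def, hr, Finset.sum_mul]
    refine Finset.sum_congr rfl fun g _ => ?_
    rw [smul_mul']
    ring
  obtain ⟨c0, hc0⟩ := hsurj D0 hr0
  have hc : ∀ g, ∃ c, c0 g = algebraMap R A D0 * c := fun g =>
    exists_eq_mul hinj hfix hD0 (c0 g) fun π hπ => by
      obtain ⟨D, hD, hr⟩ := exists_prime_mult hgal π hπ
      obtain ⟨c, hc⟩ := hsurj D hr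
      refine ⟨D, hD, c g, sub_eq_zero.mp ((mul_eq_zero.mp (hr0.mul_eq_zero (fun g => smul_algebraMap g D0)
        (fun g => algebraMap R A D * c0 g - algebraMap R A D0 * c g) (fun x => ?_) g)).resolve_right hne)⟩
      simp only [sub_mul, Finset.sum_sub_distrib, mul_assoc, ← Finset.mul_sum, hc0, hc]
      ring
  choose c hc using hc
  refine ⟨c, fun x => mul_left_cancel₀ hne ?_⟩
  rw [← hc0, Finset.mul_sum]
  exact Finset.sum_congr rfl fun g _ => by rw [hc g]; ring

/-- `A^G ≅ End A`. -/
theorem exists_endEquiv :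
    Nonempty ((G → A) ≃ₗ[R] (A →ₗ[R] A)) := by
  classical
  let Ψ : (G → A) →ₗ[R] (A →ₗ[R] A) :=
    { toFun := fun c => ∑ g, (LinearMap.mulLeft R (c g)) ∘ₗ (DistribSMul.toLinearMap R A g)
      map_add' := fun c d => by
        refine LinearMap.ext fun x => ?_
        simp [Finset.sum_add_distrib, add_mul]
      map_smul' := fun r c => by
        refine LinearMap.ext fun x => ?_
        simp [Finset.smul_sum] }
  have hΨ : ∀ c x, Ψ c x = ∑ g, c g * g • x := fun c x => by simp [Ψ]
  obtain ⟨D0, hD0, hr0⟩ := exists_ne_zero_mult hgal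
  refine ⟨LinearEquiv.ofBijective Ψ ⟨(injective_iff_map_eq_zero Ψ).mpr fun c hc => funext fun g => ?_,
    fun φ => ?_⟩⟩
  · exact (mul_eq_zero.mp (hr0.mul_eq_zero (fun g => smul_algebraMap g D0) c
      (fun x => by rw [← hΨ, hc, LinearMap.zero_apply]) g)).resolve_right
      ((map_ne_zero_iff _ hinj).mpr hD0)
  · obtain ⟨c, hc⟩ := exists_coeffs hinj hfix hgal φ
    exact ⟨c, LinearMap.ext fun x => (hΨ c x).trans (hc x).symm⟩

/-- `A` is a second syzygy over `R`. -/
theorem syz2 [Module.Finite R A] : D2.Syz2 R A := by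
  classical
  obtain ⟨l, x, hx⟩ := Submodule.fg_iff_exists_fin_generating_family.mp (Module.Finite.fg_top (R := R) (M := A))
  choose τ hτ using fun a => trace_mem (G := G) hfix a
  have hadd : ∀ a b, τ (a + b) = τ a + τ b := fun a b => hinj (by
    rw [map_add, hτ, hτ, hτ, ← Finset.sum_add_distrib]
    exact Finset.sum_congr rfl fun g _ => smul_add g a b)
  have hsmul : ∀ (r : R) a, τ (r • a) = r * τ a := fun r a => hinj (by
    rw [map_mul, hτ, hτ, Finset.mul_sum]
    exact Finset.sum_congr rfl fun g _ => by rw [smul_comm, Algebra.smul_def])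
  let T : A →ₗ[R] R := { toFun := τ, map_add' := hadd, map_smul' := hsmul }
  let φ : A →ₗ[R] (Fin l → R) := LinearMap.pi fun j => T ∘ₗ LinearMap.mulLeft R (x j)
  have hτb : ∀ b : A, ∃ β : Fin l → R, ∀ a, T (b * a) = ∑ j, β j * φ a j := fun b => by
    obtain ⟨β, hβ⟩ := (Submodule.mem_span_range_iff_exists_fun R).mp (hx ▸ (Submodule.mem_top : b ∈ ⊤))
    refine ⟨β, fun a => ?_⟩
    rw [← hβ, Finset.sum_mul, map_sum]
    refine Finset.sum_congr rfl fun j _ => ?_
    rw [smul_mul_assoc, map_smul, smul_eq_mul]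
    rfl
  obtain ⟨D0, hD0, hr0⟩ := exists_ne_zero_mult hgal
  have hstep : ∀ (D : R), Rep (⊤ : Subalgebra R A) (delta (G := G) (algebraMap R A D)) →
      ∃ ψ : (Fin l → R) →ₗ[R] A, ∀ a, ψ (φ a) = algebraMap R A D * a := by
    intro D hr
    obtain ⟨ι, _, a, b, -, hid⟩ := hr.trace_identity
    choose β hβ using fun i => hτb (b i)
    refine ⟨∑ i, (∑ j, β i j • LinearMap.proj j : (Fin l → R) →ₗ[R] R).smulRight (a i), fun y => ?_⟩
    rw [hid, LinearMap.sum_apply]
    refine Finset.sum_congr rfl fun i _ => ?_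
    rw [← hτ, LinearMap.smulRight_apply, Algebra.smul_def, mul_comm (a i)]
    congr 2
    simp only [LinearMap.sum_apply, LinearMap.smul_apply, LinearMap.proj_apply, smul_eq_mul]
    exact (hβ i y).symm
  obtain ⟨ψ, hψ⟩ := hstep D0 hr0
  have hφinj : Function.Injective φ := fun a b h => mul_left_cancel₀
    ((map_ne_zero_iff _ hinj).mpr hD0) ((hψ a).symm.trans ((congrArg ψ h).trans (hψ b)))
  have hsat : ∀ (s : R), s ≠ 0 → ∀ v a, s • v = φ a → ∃ c, φ c = v := by
    intro s hs v a h
    obtain ⟨c, hc⟩ := exists_eq_mul hinj hfix hs a fun π hπ => by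
      obtain ⟨D, hD, hr⟩ := exists_prime_mult hgal π hπ
      obtain ⟨ψ', hψ'⟩ := hstep D hr
      exact ⟨D, hD, ψ' v, by rw [← hψ', ← h, map_smul, Algebra.smul_def]⟩
    refine ⟨c, funext fun j => mul_left_cancel₀ hs ?_⟩
    have := congrFun h j
    rw [Pi.smul_apply, smul_eq_mul, hc, ← Algebra.smul_def, map_smul, Pi.smul_apply, smul_eq_mul] at this
    exact this.symm
  let f : (Fin l → R) →ₗ[R] (Fin l → R) := D0 • LinearMap.id - φ ∘ₗ ψ
  have hrange : LinearMap.range φ = LinearMap.ker f := by
    refine le_antisymm ?_ fun v hv => ?_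
    · rintro _ ⟨a, rfl⟩
      rw [LinearMap.mem_ker, LinearMap.sub_apply, LinearMap.smul_apply, LinearMap.id_apply,
        LinearMap.comp_apply, hψ, ← Algebra.smul_def, map_smul, sub_self]
    · rw [LinearMap.mem_ker, LinearMap.sub_apply, LinearMap.smul_apply, LinearMap.id_apply,
        LinearMap.comp_apply, sub_eq_zero] at hv
      exact hsat D0 hD0 v (ψ v) hv
  exact ⟨l, l, f, ⟨(LinearEquiv.ofInjective φ hφinj).trans (LinearEquiv.ofEq _ _ hrange)⟩⟩

end Main

section Regular

variable [IsDomain A] [IsIntegrallyClosed A] [Module.Finite R A] [IsRegularLocalRing R]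
  (hinj : Function.Injective (algebraMap R A))
  (hfix : ∀ a : A, (∀ g : G, g • a = a) → a ∈ Set.range (algebraMap R A))
  (hgal : IsGaloisCodimOne R A G)

include hinj hfix hgal

/-- Purity: a normal algebra that is Galois in codimension one is free. -/
theorem free : Module.Free R A := by
  haveI := Groth.Agent.Lib.Regular.Quotient.isDomain R
  haveI := Groth.Agent.Lib.Regular.UFD.uniqueFactorizationMonoid R
  obtain ⟨Ψ⟩ := exists_endEquiv hinj hfix hgal
  obtain ⟨a, b, f, ⟨e⟩⟩ := syz2 hinj hfix hgal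
  let eG : (G → A) ≃ₗ[R] (Fin (Fintype.card G) → LinearMap.ker f) :=
    (LinearEquiv.funCongrLeft R A (Fintype.equivFin G).symm).trans (LinearEquiv.piCongrRight fun _ => e)
  haveI := Groth.Agent.Lib.Purity.Free.free_of_endEquiv (M := LinearMap.ker f) (R := R)
    ⟨a, b, f, ⟨LinearEquiv.refl _ _⟩⟩
    ((e.arrowCongr e).symm.trans (Ψ.symm.trans eG))
  exact Module.Free.of_equiv e.symm

/-- Purity: the Galois identity holds with multiplier one. -/
theorem rep_one : Rep (⊤ : Subalgebra R A) (delta (G := G) (1 : A)) := by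
  classical
  haveI := Groth.Agent.Lib.Regular.Quotient.isDomain R
  haveI := Groth.Agent.Lib.Regular.UFD.uniqueFactorizationMonoid R
  haveI := free hinj hfix hgal
  obtain ⟨D0, hD0, hr0⟩ := exists_ne_zero_mult hgal
  have hne : algebraMap R A D0 ≠ 0 := (map_ne_zero_iff _ hinj).mpr hD0
  choose τ hτ using fun a => trace_mem (G := G) hfix a
  let T : A →ₗ[R] R :=
    { toFun := τ
      map_add' := fun a b => hinj (by
        rw [map_add, hτ, hτ, hτ, ← Finset.sum_add_distrib]
        exact Finset.sum_congr rfl fun g _ => smul_add g a b)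
      map_smul' := fun r a => hinj (by
        rw [RingHom.id_apply, smul_eq_mul, map_mul, hτ, hτ, Finset.mul_sum]
        exact Finset.sum_congr rfl fun g _ => by rw [smul_comm, Algebra.smul_def]) }
  have hT : ∀ a, algebraMap R A (T a) = ∑ g : G, g • a := hτ
  let P : A →ₗ[R] Module.Dual R A := (LinearMap.mul R A).compr₂ T
  have hP : ∀ a b, P a b = T (a * b) := fun a b => rfl
  have hPinj : Function.Injective P := by
    rw [injective_iff_map_eq_zero]
    intro c hc
    obtain ⟨ι, _, a, b, -, hid⟩ := hr0.trace_identity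
    refine (mul_eq_zero.mp ((hid c).trans (Finset.sum_eq_zero fun i _ => ?_))).resolve_left hne
    rw [← hT, mul_comm (b i) c, ← hP, hc, LinearMap.zero_apply, map_zero, mul_zero]
  have hstep : ∀ (ψ : Module.Dual R A) (D : R),
      Rep (⊤ : Subalgebra R A) (delta (G := G) (algebraMap R A D)) → ∃ c, P c = D • ψ := by
    intro ψ D hr
    obtain ⟨ι, _, a, b, -, hid⟩ := hr.trace_identity
    refine ⟨∑ i, ψ (a i) • b i, LinearMap.ext fun y => ?_⟩
    have h1 : D • ψ y = ψ (∑ i, a i * ∑ g : G, g • (b i * y)) := by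
      rw [← hid, ← Algebra.smul_def, map_smul]
    rw [LinearMap.smul_apply, h1, map_sum, map_sum, LinearMap.sum_apply]
    refine Finset.sum_congr rfl fun i _ => ?_
    rw [← hT, mul_comm (a i), ← Algebra.smul_def, map_smul, map_smul, LinearMap.smul_apply, hP,
      smul_eq_mul, smul_eq_mul, mul_comm]
  have hPsurj : Function.Surjective P := by
    intro ψ
    obtain ⟨c0, hc0⟩ := hstep ψ D0 hr0
    obtain ⟨c, hc⟩ := exists_eq_mul hinj hfix hD0 c0 fun π hπ => by
      obtain ⟨D, hD, hr⟩ := exists_prime_mult hgal π hπ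
      obtain ⟨c, hc⟩ := hstep ψ D hr
      refine ⟨D, hD, c, ?_⟩
      rw [← Algebra.smul_def, ← Algebra.smul_def]
      exact hPinj (by rw [map_smul, map_smul, hc0, hc, smul_comm])
    refine ⟨c, LinearMap.ext fun y => mul_left_cancel₀ hD0 ?_⟩
    rw [← smul_eq_mul, ← LinearMap.smul_apply, ← map_smul, Algebra.smul_def, ← hc, hc0]
    rfl
  let β := Module.Free.chooseBasis R A
  choose y hy using fun i => hPsurj (β.coord i)
  let c : G → A := fun g => (∑ i, β i * g • y i) - delta (G := G) 1 g
  have hzero : ∀ x, ∑ g : G, c g * g • x = 0 := by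
    intro x
    have h1 : ∑ g : G, (∑ i, β i * g • y i) * g • x = x := by
      calc ∑ g : G, (∑ i, β i * g • y i) * g • x = ∑ i, β i * algebraMap R A (T (y i * x)) := by
            simp only [hT, Finset.sum_mul, Finset.mul_sum, smul_mul', mul_assoc]
            rw [Finset.sum_comm]
        _ = ∑ i, β.repr x i • β i := Finset.sum_congr rfl fun i _ => by
            rw [← hP, hy, Algebra.smul_def, mul_comm]
            rfl
        _ = x := β.sum_repr x
    simp only [c, sub_mul, Finset.sum_sub_distrib, h1]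
    simp [delta]
  let ι := Module.Free.ChooseBasisIndex R A
  obtain ⟨eι⟩ : Nonempty (Fin (Fintype.card ι) ≃ ι) := ⟨(Fintype.equivFin ι).symm⟩
  refine ⟨Fin (Fintype.card ι), inferInstance, fun i => β (eι i), fun i => y (eι i),
    fun i => ⟨Algebra.mem_top, Algebra.mem_top⟩, fun g => ?_⟩
  rw [Equiv.sum_comp eι fun i => β i * g • y i]
  exact sub_eq_zero.mp ((mul_eq_zero.mp
    (hr0.mul_eq_zero (fun g => smul_algebraMap g D0) c hzero g)).resolve_right hne)

/-- With trivial residue extension the group is trivial. -/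
theorem eq_one [IsLocalRing A] [FaithfulSMul G A]
    (hres : Function.Surjective (IsLocalRing.residue A ∘ algebraMap R A)) (g : G) : g = 1 := by
  classical
  haveI := Groth.Agent.Lib.Regular.Quotient.isDomain R
  haveI := Groth.Agent.Lib.Regular.UFD.uniqueFactorizationMonoid R
  haveI := free hinj hfix hgal
  have hpres : ∀ (h : G) (z : A), z ∈ IsLocalRing.maximalIdeal A → h • z ∈ IsLocalRing.maximalIdeal A :=
    fun h z hz => (IsLocalRing.mem_maximalIdeal _).mpr fun hu => (IsLocalRing.mem_maximalIdeal _).mp hz (by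
      simpa using hu.map (MulSemiringAction.toRingHom G A h⁻¹))
  -- every endomorphism preserves the maximal ideal
  have hall : ∀ (φ : A →ₗ[R] A) (z : A), z ∈ IsLocalRing.maximalIdeal A → φ z ∈ IsLocalRing.maximalIdeal A := by
    intro φ z hz
    obtain ⟨c, hc⟩ := exists_coeffs hinj hfix hgal φ
    rw [hc]
    exact Ideal.sum_mem _ fun g _ => Ideal.mul_mem_left _ _ (hpres g z hz)
  let β := Module.Free.chooseBasis R A
  have hle : ∀ z ∈ IsLocalRing.maximalIdeal A,
      z ∈ (IsLocalRing.maximalIdeal R • ⊤ : Submodule R A) := by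
    intro z hz
    rw [← β.linearCombination_repr z, Finsupp.linearCombination_apply]
    refine Submodule.sum_mem _ fun i _ => Submodule.smul_mem_smul ?_ trivial
    by_contra hu
    rw [IsLocalRing.mem_maximalIdeal, mem_nonunits_iff, not_not] at hu
    refine (IsLocalRing.mem_maximalIdeal _).mp (hall ((β.coord i).smulRight 1) z hz) ?_
    rw [LinearMap.smulRight_apply, ← Algebra.algebraMap_eq_smul_one]
    exact hu.map _
  have htop : (⊤ : Submodule R A) ≤ LinearMap.range (Algebra.linearMap R A) := by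
    refine Submodule.le_of_le_smul_of_le_jacobson_bot Module.Finite.fg_top
      (IsLocalRing.jacobson_eq_maximalIdeal (R := R) ⊥ bot_ne_top).ge fun z _ => ?_
    obtain ⟨r, hr⟩ := hres (IsLocalRing.residue A z)
    have : z - algebraMap R A r ∈ IsLocalRing.maximalIdeal A := by
      rw [← IsLocalRing.residue_eq_zero_iff, map_sub, sub_eq_zero]
      exact hr.symm
    rw [← add_sub_cancel (algebraMap R A r) z]
    exact Submodule.add_mem_sup ⟨r, rfl⟩ (hle _ this)
  refine eq_of_smul_eq_smul (α := A) fun z => ?_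
  obtain ⟨r, rfl⟩ := htop (Submodule.mem_top (x := z))
  simp

end Regular

end Groth.Agent.Lib.Purity.Galois
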