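import Groth.Agent.Lib.Purity.Local
import Groth.Agent.Lib.Unram.AtPrime
import Mathlib.AlgebraicGeometry.Morphisms.QuasiFinite

/-!
# Purity of the branch locus for schemes
-/

set_option autoImplicit false

universe u

open CategoryTheory AlgebraicGeometry IsLocalRing

namespace Groth.Agent.Lib.Purity.LocalScheme

/-- Purity of the branch locus: a morphism quasi-finite at a point with normal local ring over a
regular local ring of the same dimension, unramified at the points of codimension one, is étale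
there. -/
theorem exists_etale_nhd {X Y : Scheme.{u}} (f : X ⟶ Y) [LocallyOfFiniteType f]
    [IsLocallyNoetherian Y] (x : X)
    (hx : IsDomain (X.presheaf.stalk x) ∧ IsIntegrallyClosed (X.presheaf.stalk x))
    (hy : IsRegularLocalRing (Y.presheaf.stalk (f.base x)))
    (hq : f.QuasiFiniteAt x)
    (hdim : ringKrullDim (X.presheaf.stalk x) = ringKrullDim (Y.presheaf.stalk (f.base x)))
    (hdim1 : (1 : WithBot ℕ∞) ≤ ringKrullDim (X.presheaf.stalk x))
    (hunr : ∀ x' : X, x' ⤳ x → ringKrullDim (X.presheaf.stalk x') = 1 →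
      (f.stalkMap x').hom.FormallyUnramified) :
    ∃ U : X.Opens, x ∈ U ∧ Etale (U.ι ≫ f) := by
  have := H34.EtaleAt.locallyOfFinitePresentation f
  refine (Unram.AtPrime.exists_etale_nhd_iff f x).mpr ?_
  obtain ⟨_, ⟨U, hU, rfl⟩, hxU, -⟩ :=
    Y.isBasis_affineOpens.exists_subset_of_mem_open (Set.mem_univ (f x)) isOpen_univ
  obtain ⟨_, ⟨V, hV, rfl⟩, hxV, hVU⟩ :=
    X.isBasis_affineOpens.exists_subset_of_mem_open hxU (U.2.preimage f.continuous)
  have := f.finiteType_appLE hU hV hVU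
  have : IsNoetherianRing Γ(Y, U) := IsLocallyNoetherian.component_noetherian ⟨U, hU⟩
  have hqf := Scheme.Hom.QuasiFiniteAt.quasiFiniteAt hq hV hU hVU hxV
  algebraize [(f.appLE U V hVU).hom]
  have : IsNoetherianRing Γ(X, V) := Algebra.FiniteType.isNoetherianRing Γ(Y, U) Γ(X, V)
  let p := (hU.primeIdealOf ⟨f x, hVU hxV⟩).asIdeal
  let q := (hV.primeIdealOf ⟨x, hxV⟩).asIdeal
  have : q.LiesOver p :=
    ⟨congr($(IsAffineOpen.comap_primeIdealOf_appLE U hU V hV hVU hxV).1).symm⟩
  have : Algebra.QuasiFiniteAt Γ(Y, U) q := hqf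
  let := Localization.AtPrime.algebraOfLiesOver p q
  let := X.presheaf.algebra_section_stalk (⟨x, hxV⟩ : V)
  let := Y.presheaf.algebra_section_stalk (⟨f x, hVU hxV⟩ : U)
  have := hV.isLocalization_stalk ⟨x, hxV⟩
  have := hU.isLocalization_stalk ⟨f x, hVU hxV⟩
  let eX : X.presheaf.stalk x ≃+* Localization.AtPrime q :=
    (IsLocalization.algEquiv q.primeCompl _ _).toRingEquiv
  let eY : Y.presheaf.stalk (f x) ≃+* Localization.AtPrime p :=
    (IsLocalization.algEquiv p.primeCompl _ _).toRingEquiv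
  have : IsRegularLocalRing (Localization.AtPrime p) := IsRegularLocalRing.of_ringEquiv eY
  obtain ⟨hxd, hxi⟩ := hx
  have hd : IsDomain (Localization.AtPrime q) := eX.toMulEquiv.isDomain_iff.mp hxd
  have hdim' : ringKrullDim (Localization.AtPrime q) = ringKrullDim (Localization.AtPrime p) := by
    rw [← ringKrullDim_eq_of_ringEquiv eX, hdim, ← ringKrullDim_eq_of_ringEquiv eY]
  have hone : ∀ q₁ : Ideal Γ(X, V), [q₁.IsPrime] → q₁ ≤ q → q₁.height = 1 →
      Algebra.IsUnramifiedAt Γ(Y, U) q₁ := by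
    intro q₁ hq₁ hle hh
    let z : PrimeSpectrum Γ(X, V) := ⟨q₁, hq₁⟩
    let x₁ : X := hV.fromSpec z
    have hx₁V : x₁ ∈ V := hV.range_fromSpec.le (Set.mem_range_self z)
    have hprime : hV.primeIdealOf ⟨x₁, hx₁V⟩ = z :=
      hV.isOpenImmersion_fromSpec.base_open.injective (hV.fromSpec_primeIdealOf ⟨x₁, hx₁V⟩)
    have hsp : x₁ ⤳ x := by
      have h := ((PrimeSpectrum.le_iff_specializes z (hV.primeIdealOf ⟨x, hxV⟩)).mp hle).map hV.fromSpec.continuous
      rwa [hV.fromSpec_primeIdealOf ⟨x, hxV⟩] at h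
    let := X.presheaf.algebra_section_stalk (⟨x₁, hx₁V⟩ : V)
    have := hV.isLocalization_stalk ⟨x₁, hx₁V⟩
    have hd1 : ringKrullDim (X.presheaf.stalk x₁) = 1 := by
      rw [IsLocalization.AtPrime.ringKrullDim_eq_height (hV.primeIdealOf ⟨x₁, hx₁V⟩).asIdeal, hprime]
      exact_mod_cast hh
    have hu := hunr x₁ hsp hd1
    let p₁ := (hU.primeIdealOf ⟨f x₁, hVU hx₁V⟩).asIdeal
    let q₁' := (hV.primeIdealOf ⟨x₁, hx₁V⟩).asIdeal
    have : q₁'.LiesOver p₁ :=
      ⟨congr($(IsAffineOpen.comap_primeIdealOf_appLE U hU V hV hVU hx₁V).1).symm⟩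
    let := Localization.AtPrime.algebraOfLiesOver p₁ q₁'
    have : Algebra.FormallyUnramified (Localization.AtPrime p₁) (Localization.AtPrime q₁') := by
      rw [← RingHom.formallyUnramified_algebraMap]
      exact (RingHom.FormallyUnramified.respectsIso.arrow_mk_iso_iff
        (IsAffineOpen.arrowStalkMapIso f U hU V hV hVU hx₁V)).1 hu
    have hq₁' : Algebra.IsUnramifiedAt Γ(Y, U) q₁' :=
      (Unram.AtPrime.isUnramifiedAt_iff_formallyUnramified_localization _ _ p₁ q₁').mpr this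
    have hmem : hV.primeIdealOf ⟨x₁, hx₁V⟩ ∈ Algebra.unramifiedLocus Γ(Y, U) Γ(X, V) := hq₁'
    rw [hprime] at hmem
    exact hmem
  have hu : ∀ q₁ : Ideal Γ(X, V), [q₁.IsPrime] → q₁ ≤ q → q₁.height ≤ 1 →
      Algebra.IsUnramifiedAt Γ(Y, U) q₁ := by
    intro q₁ hq₁ hle hh
    rcases Order.le_one_iff.mp hh with h0 | h1
    swap
    · exact hone q₁ hle h1
    obtain ⟨P₂, hP₂, -, hP₂h⟩ := Groth.Agent.S0249.result (Localization.AtPrime q)
      (by rw [← ringKrullDim_eq_of_ringEquiv eX]; exact hdim1) 0 (zero_mem _)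
    haveI := hP₂
    have hdisj : Disjoint (q.primeCompl : Set Γ(X, V)) ↑q₁ :=
      Set.disjoint_left.mpr fun a ha ha' => ha (hle ha')
    have : (q₁.map (algebraMap Γ(X, V) (Localization.AtPrime q))).IsPrime :=
      IsLocalization.isPrime_of_isPrime_disjoint q.primeCompl _ _ hq₁ hdisj
    have hQ : q₁.map (algebraMap Γ(X, V) (Localization.AtPrime q)) = ⊥ := by
      by_contra hne
      have h2 := Ideal.height_strict_mono_of_isPrime_of_isPrime (bot_lt_iff_ne_bot.mpr hne)
      rw [← IsLocalization.height_under q.primeCompl (q₁.map _),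
        IsLocalization.under_map_of_isPrime_disjoint q.primeCompl _ hq₁ hdisj, h0] at h2
      exact not_lt_zero h2
    have hle₂ : q₁ ≤ P₂.under Γ(X, V) := by
      rw [← IsLocalization.under_map_of_isPrime_disjoint q.primeCompl (Localization.AtPrime q) hq₁ hdisj, hQ]
      exact Ideal.comap_mono bot_le
    have h2q : P₂.under Γ(X, V) ≤ q := fun a ha => by
      by_contra haq
      exact hP₂.ne_top (Ideal.eq_top_of_isUnit_mem _ ha
        (IsLocalization.map_units (Localization.AtPrime q) (⟨a, haq⟩ : q.primeCompl)))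
    have hmem : (⟨P₂.under Γ(X, V), inferInstance⟩ : PrimeSpectrum Γ(X, V)) ∈
        Algebra.unramifiedLocus Γ(Y, U) Γ(X, V) :=
      hone _ h2q ((IsLocalization.height_under q.primeCompl P₂).trans hP₂h)
    exact ((PrimeSpectrum.le_iff_specializes ⟨q₁, hq₁⟩ ⟨P₂.under Γ(X, V), inferInstance⟩).mp hle₂).mem_open
      Algebra.isOpen_unramifiedLocus hmem
  obtain ⟨hflat, hfu⟩ := Local.flat_and_unramified Γ(Y, U) Γ(X, V) p q
    ⟨hd, IsIntegrallyClosed.of_equiv eX⟩ hdim' hu
  have e := IsAffineOpen.arrowStalkMapIso f U hU V hV hVU hxV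
  exact ⟨(RingHom.Flat.respectsIso.arrow_mk_iso_iff e).mpr ((RingHom.flat_algebraMap_iff).mpr hflat),
    (RingHom.FormallyUnramified.respectsIso.arrow_mk_iso_iff e).mpr
      ((RingHom.formallyUnramified_algebraMap).mpr hfu)⟩

end Groth.Agent.Lib.Purity.LocalScheme
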