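import Groth.Agent.Lib.Purity.Branch
import Mathlib.LinearAlgebra.Dimension.Torsion.Finite
import Mathlib.GroupTheory.NoncommPiCoprod

/-!
# Products of invariant subalgebras
-/

set_option autoImplicit false

universe u v w

namespace Groth.Agent.Lib.Purity.Product

open Groth.Agent.Lib.Purity.Galois Groth.Agent.Lib.Purity.Branch

variable {R : Type u} [CommRing R] {A : Type v} [CommRing A] [Algebra R A]

/-- The rank of a Galois algebra is the order of the group. -/
theorem finrank_eq_card [IsDomain R] [IsNoetherianRing R] [IsDomain A] [Module.Free R A] [Module.Finite R A]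
    {G : Type w} [Group G] [Fintype G] [MulSemiringAction G A] [SMulCommClass G R A]
    (hinj : Function.Injective (algebraMap R A))
    (hfix : ∀ a : A, (∀ g : G, g • a = a) → a ∈ Set.range (algebraMap R A))
    {C : Subalgebra R A} {D : R} (hD : D ≠ 0) (h : Rep C (delta (G := G) (algebraMap R A D))) :
    Module.finrank R A = Fintype.card G := by
  classical
  obtain ⟨ι, _, a, b, -, hid⟩ := h.trace_identity
  have hne : algebraMap R A D ≠ 0 := (map_ne_zero_iff _ hinj).mpr hD
  let Ψ : (G → A) →ₗ[R] (A →ₗ[R] A) :=
    { toFun := fun c => ∑ g, (LinearMap.mulLeft R (c g)) ∘ₗ (DistribSMul.toLinearMap R A g)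
      map_add' := fun c d => by
        refine LinearMap.ext fun x => ?_
        simp [Finset.sum_add_distrib, add_mul]
      map_smul' := fun r c => by
        refine LinearMap.ext fun x => ?_
        simp [Finset.smul_sum] }
  have hΨ : ∀ c x, Ψ c x = ∑ g, c g * g • x := fun c x => by simp [Ψ]
  let Φ : (A →ₗ[R] A) →ₗ[R] (G → A) :=
    { toFun := fun φ g => ∑ i, φ (a i) * g • b i
      map_add' := fun φ ψ => funext fun g => by simp [Finset.sum_add_distrib, add_mul]
      map_smul' := fun r φ => funext fun g => by simp [Finset.smul_sum] }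
  have hΨinj : Function.Injective Ψ := (injective_iff_map_eq_zero Ψ).mpr fun c hc => funext fun g =>
    (mul_eq_zero.mp (h.mul_eq_zero (fun g => smul_algebraMap g D) c
      (fun x => by rw [← hΨ, hc, LinearMap.zero_apply]) g)).resolve_right hne
  have hΦinj : Function.Injective Φ := (injective_iff_map_eq_zero Φ).mpr fun φ hφ => by
    refine LinearMap.ext fun x => (mul_eq_zero.mp ?_).resolve_left hne
    have h1 : algebraMap R A D * φ x = ∑ g, Φ φ g * g • x := by
      rw [← Algebra.smul_def, ← map_smul, Algebra.smul_def, hid, map_sum]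
      simp only [Φ, LinearMap.coe_mk, AddHom.coe_mk, Finset.sum_mul]
      rw [Finset.sum_comm]
      refine Finset.sum_congr rfl fun i _ => ?_
      obtain ⟨r, hr⟩ := trace_mem hfix (b i * x)
      rw [← hr, mul_comm (a i), ← Algebra.smul_def, map_smul, Algebra.smul_def, hr, Finset.sum_mul]
      refine Finset.sum_congr rfl fun g _ => ?_
      rw [smul_mul']
      ring
    rw [h1, hφ]
    simp
  have h1 := LinearMap.finrank_le_finrank_of_injective hΨinj
  have h2 := LinearMap.finrank_le_finrank_of_injective hΦinj
  rw [Module.finrank_pi_fintype, Module.finrank_linearMap, Finset.sum_const, Finset.card_univ,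
    smul_eq_mul] at h1 h2
  exact (Nat.eq_of_mul_eq_mul_right Module.finrank_pos (le_antisymm h1 h2)).symm

/-- The group is no larger than the rank. -/
theorem card_le_finrank [IsDomain R] [IsNoetherianRing R] [IsDomain A] [Module.Finite R A]
    {G : Type w} [Group G] [Fintype G] [MulSemiringAction G A] [SMulCommClass G R A]
    (hinj : Function.Injective (algebraMap R A))
    {C : Subalgebra R A} {D : R} (hD : D ≠ 0) (h : Rep C (delta (G := G) (algebraMap R A D)))
    {N : ℕ} (hN : Nat.card G = N) : N ≤ Module.finrank R A := by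
  classical
  haveI : FaithfulSMul R A := (faithfulSMul_iff_algebraMap_injective R A).mpr hinj
  have hne : algebraMap R A D ≠ 0 := (map_ne_zero_iff _ hinj).mpr hD
  obtain ⟨v, hv⟩ := exists_linearIndependent_of_le_finrank (R := R) (M := A) (le_refl (Module.finrank R A))
  let S := Submodule.span R (Set.range v)
  have hS : Module.finrank R (A ⧸ S) = 0 := by
    have h1 := Submodule.finrank_quotient_add_finrank S
    rw [finrank_span_eq_card hv, Fintype.card_fin] at h1
    omega
  let T : (G → A) →ₗ[R] (Fin (Module.finrank R A) → A) :=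
    { toFun := fun c i => ∑ g, c g * g • v i
      map_add' := fun c d => funext fun i => by simp [Finset.sum_add_distrib, add_mul]
      map_smul' := fun r c => funext fun i => by simp [Finset.smul_sum] }
  have hT : Function.Injective T := (injective_iff_map_eq_zero T).mpr fun c hc => funext fun g => by
    refine (mul_eq_zero.mp (h.mul_eq_zero (fun g => smul_algebraMap g D) c (fun x => ?_) g)).resolve_right hne
    let L : A →ₗ[R] A := ∑ g, (LinearMap.mulLeft R (c g)) ∘ₗ (DistribSMul.toLinearMap R A g)
    have hL : ∀ y, L y = ∑ g, c g * g • y := fun y => by simp [L]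
    have hker : S ≤ LinearMap.ker L := by
      rw [Submodule.span_le]
      rintro _ ⟨i, rfl⟩
      exact (hL _).trans (congrFun hc i)
    obtain ⟨⟨r, hr⟩, hrx⟩ := (Module.finrank_eq_zero_iff_isTorsion.mp hS) (x := Submodule.Quotient.mk x)
    rw [Submonoid.mk_smul, ← Submodule.Quotient.mk_smul, Submodule.Quotient.mk_eq_zero] at hrx
    have h2 : r • L x = 0 := by rw [← map_smul]; exact hker hrx
    rw [Algebra.smul_def, mul_eq_zero] at h2
    rw [← hL]
    exact h2.resolve_left ((map_ne_zero_iff _ hinj).mpr (nonZeroDivisors.ne_zero hr))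
  have h1 := LinearMap.finrank_le_finrank_of_injective hT
  have hpi : ∀ (ι : Type w) [Fintype ι], Module.finrank R (ι → A) = Fintype.card ι * Module.finrank R A :=
    fun ι _ => by
      rw [(LinearEquiv.funCongrLeft R A (Fintype.equivFin ι).symm).finrank_eq,
        Auslander.finrank_pi_self]
  rw [hpi, Auslander.finrank_pi_self] at h1
  rw [← hN, Nat.card_eq_fintype_card]
  exact Nat.le_of_mul_le_mul_right h1 Module.finrank_pos

variable [IsRegularLocalRing R] [IsDomain A] [IsIntegrallyClosed A] [Module.Finite R A]
  {H : Type w} [Group H] [Finite H] [MulSemiringAction H A] [SMulCommClass H R A] [FaithfulSMul H A]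

/-- Galois identities for an invariant subalgebra at a prime with inertia inside the subgroup. -/
theorem exists_rep_fixed [IsLocalRing A] (hinj : Function.Injective (algebraMap R A))
    (hfix : ∀ a : A, (∀ h : H, h • a = a) → a ∈ Set.range (algebraMap R A))
    (K : Subgroup H) [K.Normal] (p : Ideal R) [p.IsPrime]
    (hin : ∀ P : Ideal A, P.IsPrime → P.comap (algebraMap R A) = p → P.inertia H ≤ K) :
    ∃ D : R, D ∉ p ∧ Rep (FixedPoints.subalgebra R A K)
      (Set.indicator (K : Set H) fun _ => algebraMap R A D) := by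
  classical
  let B := FixedPoints.subalgebra R A K
  obtain ⟨-, -, hBf⟩ := fixed_props (R := R) hinj K
  haveI := hBf
  haveI : Algebra.IsInvariant B A K := ⟨fun b hb => ⟨⟨b, hb⟩, rfl⟩⟩
  haveI : Algebra.IsIntegral B A := Algebra.IsInvariant.isIntegral B A K
  haveI : Algebra.IsIntegral R B := Algebra.IsIntegral.of_finite R B
  let res : H →* (B ≃ₐ[R] B) := (MulSemiringAction.toAlgAut (H ⧸ K) R B).comp (QuotientGroup.mk' K)
  have hres' : ∀ (h : H) (b : B), (res h b : A) = h • (b : A) := fun h b => rfl
  haveI : Finite res.range := Finite.of_surjective res.rangeRestrict res.rangeRestrict_surjective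
  haveI : Fintype res.range := Fintype.ofFinite _
  obtain ⟨D, hD, ι, _, a, b, -, hrep⟩ := exists_notMem_rep (R := R) (A := B) (G := res.range) p
    fun q hq hqp => by
      rw [Subgroup.eq_bot_iff_forall]
      rintro ⟨_, h, rfl⟩ hh
      haveI := hq
      obtain ⟨P, -, hP, hPq⟩ := Ideal.exists_ideal_over_prime_of_isIntegral q (⊥ : Ideal A) (by
        rw [Ideal.comap_bot_of_injective (algebraMap B A) Subtype.val_injective]
        exact bot_le)
      haveI := hP
      have hPp : P.comap (algebraMap R A) = p := by
        rw [← hqp, ← hPq]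
        rfl
      have hmem := mem_of_forall_sub_mem (R := R) K h P (hin P hP hPp) fun b => by
        have h1 := hh b
        rw [← hPq] at h1
        exact h1
      refine Subtype.ext ?_
      change res h = 1
      refine AlgEquiv.ext fun b => Subtype.ext ?_
      rw [hres']
      exact b.2 ⟨h, hmem⟩
  refine ⟨D, hD, ι, inferInstance, fun i => (a i : A), fun i => (b i : A),
    fun i => ⟨(a i).2, (b i).2⟩, fun h => ?_⟩
  have h1 := congrArg (Subtype.val : B → A) (hrep ⟨res h, h, rfl⟩)
  rw [AddSubmonoidClass.coe_finsetSum] at h1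
  refine h1.trans ?_
  have hiff : res h = 1 ↔ h ∈ K := by
    refine ⟨fun hr => ?_, fun hh => AlgEquiv.ext fun b => Subtype.ext ?_⟩
    · haveI : (⊥ : Ideal A).IsPrime := Ideal.isPrime_bot
      refine mem_of_forall_sub_mem (R := R) K h (⊥ : Ideal A) (fun x hx => ?_) fun b => ?_
      · have : x = 1 := eq_of_smul_eq_smul (α := A) fun c => by
          rw [one_smul]; exact sub_eq_zero.mp (Ideal.mem_bot.mp (hx c))
        exact this ▸ K.one_mem
      · rw [← hres', hr, AlgEquiv.one_apply, sub_self]
        exact zero_mem _
    · rw [hres']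
      exact b.2 ⟨h, hh⟩
  by_cases hh : h ∈ K
  · rw [delta, if_pos (Subtype.ext (hiff.mpr hh)), Set.indicator_of_mem (show h ∈ (K : Set H) from hh)]
    rfl
  · rw [delta, if_neg (fun e => hh (hiff.mp (congrArg Subtype.val e))),
      Set.indicator_of_notMem (show h ∉ (K : Set H) from hh)]
    rfl

/-- The invariants of a subgroup have rank its index. -/
theorem finrank_fixed [IsLocalRing A] (hinj : Function.Injective (algebraMap R A))
    (hfix : ∀ a : A, (∀ h : H, h • a = a) → a ∈ Set.range (algebraMap R A))
    (K : Subgroup H) [K.Normal] [Module.Free R (FixedPoints.subalgebra R A K)] :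
    Module.finrank R (FixedPoints.subalgebra R A K) = Nat.card (H ⧸ K) := by
  classical
  haveI := Groth.Agent.Lib.Regular.Quotient.isDomain R
  let B := FixedPoints.subalgebra R A K
  obtain ⟨-, -, hBf⟩ := fixed_props (R := R) hinj K
  haveI := hBf
  haveI : Fintype (H ⧸ K) := Fintype.ofFinite _
  obtain ⟨D, hD, ι, hι, a, b, hC, hrep⟩ := exists_rep_fixed (R := R) hinj hfix K (⊥ : Ideal R) fun P hP hP0 => by
    haveI := hP
    haveI : Algebra.IsIntegral R A := Algebra.IsIntegral.of_finite R A
    have hbot : P = ⊥ := Ideal.eq_bot_of_comap_eq_bot hP0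
    intro x hx
    have : x = 1 := eq_of_smul_eq_smul (α := A) fun c => by
      rw [one_smul]
      have := hx c
      rw [hbot] at this
      exact sub_eq_zero.mp (Ideal.mem_bot.mp this)
    exact this ▸ K.one_mem
  rw [Nat.card_eq_fintype_card]
  refine finrank_eq_card (G := H ⧸ K) (C := (⊤ : Subalgebra R B))
    (fun x y h => hinj (congrArg Subtype.val h)) (fun c hc => ?_) (D := D) (fun h => hD (h ▸ zero_mem _))
    ⟨ι, hι, fun i => ⟨a i, (hC i).1⟩, fun i => ⟨b i, (hC i).2⟩,
      fun i => ⟨Algebra.mem_top, Algebra.mem_top⟩, fun g => ?_⟩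
  · obtain ⟨r, hr⟩ := hfix (c : A) fun h => congrArg Subtype.val (hc (QuotientGroup.mk h))
    exact ⟨r, Subtype.ext hr⟩
  · obtain ⟨h, rfl⟩ := QuotientGroup.mk_surjective g
    refine Subtype.ext ?_
    rw [AddSubmonoidClass.coe_finsetSum]
    refine (hrep h).trans ?_
    by_cases hh : h ∈ K
    · rw [Set.indicator_of_mem (show h ∈ (K : Set H) from hh), delta,
        if_pos ((QuotientGroup.eq_one_iff h).mpr hh)]
      rfl
    · rw [Set.indicator_of_notMem (show h ∉ (K : Set H) from hh), delta,
        if_neg fun e => hh ((QuotientGroup.eq_one_iff h).mp e)]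
      rfl

end Groth.Agent.Lib.Purity.Product
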