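import Groth.Agent.Lib.Purity.Basic
import Mathlib.RingTheory.DiscreteValuationRing.TFAE
import Mathlib.LinearAlgebra.FreeModule.PID
import Mathlib.RingTheory.Nakayama

/-!
# Reduction of a second syzygy modulo a parameter
-/

set_option autoImplicit false

universe u v

open IsLocalRing

namespace Groth.Agent.Lib.Purity.Reduce

open Groth.Agent.Lib.Purity.D2 Groth.Agent.Lib.Purity.Basic

variable {R : Type u} [CommRing R] (x : R)

/-- `R / (x)` -/
abbrev QR : Type u := R ⧸ Ideal.span {x}

variable (M : Type v) [AddCommGroup M] [Module R M]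

/-- `M / xM` -/
abbrev QM : Type v := M ⧸ (Ideal.span {x} • ⊤ : Submodule R M)

variable {x M}

/-- The projection. -/
abbrev qm : M →ₗ[R] QM x M := (Ideal.span {x} • ⊤ : Submodule R M).mkQ

lemma qm_eq_zero_iff {m : M} : qm (x := x) m = 0 ↔ ∃ u : M, m = x • u := by
  rw [Submodule.mkQ_apply, Submodule.Quotient.mk_eq_zero, Submodule.ideal_span_singleton_smul,
    Submodule.mem_smul_pointwise_iff_exists]
  exact ⟨fun ⟨u, _, hu⟩ => ⟨u, hu.symm⟩, fun ⟨u, hu⟩ => ⟨u, trivial, hu.symm⟩⟩

lemma exact_qm : Function.Exact (LinearMap.lsmul R M x) (qm (x := x) (M := M)) := fun m => by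
  rw [qm_eq_zero_iff]
  exact ⟨fun ⟨u, hu⟩ => ⟨u, hu.symm⟩, fun ⟨u, hu⟩ => ⟨u, hu.symm⟩⟩

lemma qm_surjective : Function.Surjective (qm (x := x) (M := M)) := Submodule.mkQ_surjective _

lemma qm_smul (r : R) (m : M) :
    (Ideal.Quotient.mk (Ideal.span {x}) r : QR x) • qm (x := x) m = qm (r • m) := rfl

lemma qm_x_smul (m : M) : qm (x := x) (x • m) = 0 := qm_eq_zero_iff.mpr ⟨m, rfl⟩

/-- An endomorphism modulo `x`. -/
theorem exists_red : ∃ red : (M →ₗ[R] M) →ₗ[R] (QM x M →ₗ[QR x] QM x M),
    ∀ h m, red h (qm m) = qm (h m) := by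
  let F : (M →ₗ[R] M) → (QM x M →ₗ[R] QM x M) := fun h =>
    Submodule.mapQ _ _ h fun m hm => by
      rw [Submodule.ideal_span_singleton_smul, Submodule.mem_smul_pointwise_iff_exists] at hm
      obtain ⟨u, -, rfl⟩ := hm
      rw [Submodule.mem_comap, map_smul]
      exact Submodule.smul_mem_smul (Ideal.mem_span_singleton_self x) trivial
  refine ⟨{ toFun := fun h =>
              { toFun := F h
                map_add' := map_add _
                map_smul' := fun r m => by
                  obtain ⟨r, rfl⟩ := Ideal.Quotient.mk_surjective r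
                  exact map_smul (F h) r m }
            map_add' := fun f g => LinearMap.ext fun m => by
              obtain ⟨m, rfl⟩ := qm_surjective m
              rfl
            map_smul' := fun r f => LinearMap.ext fun m => by
              obtain ⟨m, rfl⟩ := qm_surjective m
              rfl }, fun h m => rfl⟩

theorem red_mem_factor (red : (M →ₗ[R] M) →ₗ[R] (QM x M →ₗ[QR x] QM x M))
    (hred : ∀ h m, red h (qm m) = qm (h m)) {h : M →ₗ[R] M} (hh : h ∈ factor R M) :
    red h ∈ factor (QR x) (QM x M) := by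
  refine factor_induction (P := fun h => red h ∈ factor (QR x) (QM x M)) (fun φ m => ?_)
    (by rw [map_zero]; exact zero_mem _) (fun f g hf hg => by rw [map_add]; exact add_mem hf hg)
    (fun r f hf => by
      rw [map_smul, ← algebraMap_smul (QR x) r (red f)]
      exact Submodule.smul_mem _ _ hf) hh
  let φ' : QM x M →ₗ[R] QR x := Submodule.liftQ _ ((Algebra.linearMap R (QR x)) ∘ₗ φ) (by
    intro m hm
    rw [Submodule.ideal_span_singleton_smul, Submodule.mem_smul_pointwise_iff_exists] at hm
    obtain ⟨u, -, rfl⟩ := hm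
    rw [LinearMap.mem_ker, LinearMap.comp_apply, map_smul, Algebra.linearMap_apply, smul_eq_mul]
    exact Ideal.Quotient.eq_zero_iff_mem.mpr (Ideal.mul_mem_right _ _ (Ideal.mem_span_singleton_self x)))
  let φ'' : QM x M →ₗ[QR x] QR x :=
    { toFun := φ'
      map_add' := map_add _
      map_smul' := fun r m => by
        obtain ⟨r, rfl⟩ := Ideal.Quotient.mk_surjective r
        exact map_smul φ' r m }
  have : red (φ.smulRight m) = φ''.smulRight (qm m) := LinearMap.ext fun z => by
    obtain ⟨z, rfl⟩ := qm_surjective z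
    rw [hred, LinearMap.smulRight_apply, LinearMap.smulRight_apply]
    exact (qm_smul (φ z) m).symm
  rw [this]
  exact smulRight_mem _ _

/-- An endomorphism of `M / xM`, times a factorizable one, lifts. -/
theorem exists_lift_comp (φ : QM x M →ₗ[QR x] QM x M) {h : M →ₗ[R] M} (hh : h ∈ factor R M) :
    ∃ e : M →ₗ[R] M, ∀ m, qm (x := x) (e m) = φ (qm (h m)) := by
  refine factor_induction (P := fun h => ∃ e : M →ₗ[R] M, ∀ m, qm (x := x) (e m) = φ (qm (h m)))
    (fun ψ m => ?_) ⟨0, fun m => by simp⟩ ?_ ?_ hh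
  · obtain ⟨m', hm'⟩ := qm_surjective (x := x) (φ (qm m))
    refine ⟨ψ.smulRight m', fun z => ?_⟩
    rw [LinearMap.smulRight_apply, LinearMap.smulRight_apply, ← qm_smul, hm', ← map_smul]
    rfl
  · rintro f g ⟨e, he⟩ ⟨e', he'⟩
    exact ⟨e + e', fun m => by simp only [LinearMap.add_apply, map_add, he, he']⟩
  · rintro r f ⟨e, he⟩
    refine ⟨r • e, fun m => ?_⟩
    rw [LinearMap.smul_apply, LinearMap.smul_apply, ← qm_smul, he, ← map_smul]
    rfl

section Local

variable [IsLocalRing R] [IsNoetherianRing R] [Module.Finite R M]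

/-- Freeness lifts along a regular parameter. -/
theorem free_of_quotient (hx : x ∈ maximalIdeal R) (hreg : IsSMulRegular M x)
    [Module.Free (QR x) (QM x M)] : Module.Free R M := by
  classical
  have hle : Ideal.span {x} ≤ (⊥ : Ideal R).jacobson := by
    rw [IsLocalRing.jacobson_eq_maximalIdeal ⊥ bot_ne_top]
    exact Ideal.span_le.mpr (Set.singleton_subset_iff.mpr hx)
  haveI : Nontrivial (QR x) := Ideal.Quotient.nontrivial_iff.mpr fun h => by
    have h1 : (1 : R) ∈ maximalIdeal R :=
      (Ideal.span_le.mpr (Set.singleton_subset_iff.mpr hx)) (h ▸ Submodule.mem_top)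
    exact (maximalIdeal.isMaximal R).ne_top ((Ideal.eq_top_iff_one _).mpr h1)
  haveI : Module.Finite (QR x) (QM x M) := Module.Finite.of_restrictScalars_finite R _ _
  let b := Module.finBasis (QR x) (QM x M)
  choose e he using fun i => qm_surjective (x := x) (M := M) (b i)
  let f : (Fin (Module.finrank (QR x) (QM x M)) → R) →ₗ[R] M := Fintype.linearCombination R e
  have hf : ∀ c, qm (x := x) (f c) = ∑ i, (Ideal.Quotient.mk (Ideal.span {x}) (c i) : QR x) • b i := by
    intro c
    simp only [f, Fintype.linearCombination_apply, map_sum, ← qm_smul, he]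
  have hsurj : Function.Surjective f := by
    rw [← LinearMap.range_eq_top, eq_top_iff]
    refine Submodule.le_of_le_smul_of_le_jacobson_bot Module.Finite.fg_top hle fun m _ => ?_
    obtain ⟨c, hc⟩ : ∃ c : Fin (Module.finrank (QR x) (QM x M)) → R,
        ∀ i, Ideal.Quotient.mk (Ideal.span {x}) (c i) = b.repr (qm m) i :=
      ⟨fun i => (Ideal.Quotient.mk_surjective (b.repr (qm m) i)).choose,
        fun i => (Ideal.Quotient.mk_surjective (b.repr (qm m) i)).choose_spec⟩
    have h1 : qm (x := x) (m - f c) = 0 := by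
      rw [map_sub, hf, Finset.sum_congr rfl fun i _ => by rw [hc i], b.sum_repr, sub_self]
    rw [← sub_add_cancel m (f c), add_comm]
    exact Submodule.add_mem_sup ⟨c, rfl⟩ ((Submodule.Quotient.mk_eq_zero _).mp h1)
  have hinj : Function.Injective f := by
    rw [← LinearMap.ker_eq_bot, eq_bot_iff]
    refine Submodule.le_of_le_smul_of_le_jacobson_bot (N := ⊥) (IsNoetherian.noetherian _) hle ?_
    rw [bot_sup_eq]
    intro c hc
    have h1 := hf c
    rw [LinearMap.mem_ker.mp hc, map_zero] at h1
    have h2 := Fintype.linearIndependent_iff.mp b.linearIndependent _ h1.symm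
    choose d hd using fun i => Ideal.mem_span_singleton'.mp (Ideal.Quotient.eq_zero_iff_mem.mp (h2 i))
    have hcd : c = x • d := funext fun i => by rw [← hd i]; simp [mul_comm]
    have hdk : f d = 0 := hreg.right_eq_zero_of_smul (by rw [← map_smul, ← hcd]; exact hc)
    rw [hcd]
    exact Submodule.smul_mem_smul (Ideal.mem_span_singleton_self x) hdk
  exact Module.Free.of_equiv (LinearEquiv.ofBijective f ⟨hinj, hsurj⟩)

end Local

section Torsion

variable [IsDomain R]

/-- A second syzygy modulo a prime element is torsion free. -/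
theorem smul_eq_zero_imp (hx : Prime x) (hM : Syz2 R M) {r : QR x} {z : QM x M} (hr : r ≠ 0)
    (h : r • z = 0) : z = 0 := by
  obtain ⟨r, rfl⟩ := Ideal.Quotient.mk_surjective r
  obtain ⟨z, rfl⟩ := qm_surjective z
  rw [qm_smul, qm_eq_zero_iff] at h
  obtain ⟨w, hw⟩ := h
  have hxr : ¬ x ∣ r := fun hd => hr (Ideal.Quotient.eq_zero_iff_mem.mpr (Ideal.mem_span_singleton.mpr hd))
  have hp := hM.pair (pair_of_prime hx hxr 1 1)
  rw [pow_one, pow_one] at hp
  exact qm_eq_zero_iff.mpr (hp.div z w hw)

end Torsion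

end Groth.Agent.Lib.Purity.Reduce
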