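import Groth.Agent.Lib.FEt.FullyFaithful
import Groth.Agent.Lib.FEt.NormalAlg
import Groth.Agent.Lib.Regular.UFD
import Mathlib.AlgebraicGeometry.Morphisms.Flat
import Mathlib.AlgebraicGeometry.Noetherian

/-!
# Restriction of finite étale covers to dense opens of normal schemes
-/

set_option autoImplicit false

universe u

open CategoryTheory CategoryTheory.Limits AlgebraicGeometry TopologicalSpace
open scoped TensorProduct

namespace Groth.Agent.Lib.Purity.Restrict

section Maximal

variable {W : Scheme.{u}} [hW : ∀ w : W, IsDomain (W.presheaf.stalk w)]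

/-- The maximal point over a point. -/
noncomputable def top (w : W) : W :=
  (W.fromSpecStalk w).base (⟨⊥, Ideal.isPrime_bot⟩ : PrimeSpectrum (W.presheaf.stalk w))

theorem top_specializes_of_specializes {b w : W} (h : b ⤳ w) : top w ⤳ b := by
  obtain ⟨t, rfl⟩ : b ∈ Set.range (W.fromSpecStalk w).base := by
    rw [Scheme.range_fromSpecStalk]; exact h
  exact ((PrimeSpectrum.le_iff_specializes _ t).mp bot_le).map (W.fromSpecStalk w).continuous

theorem top_specializes (w : W) : top w ⤳ w := top_specializes_of_specializes specializes_rfl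

theorem eq_top {b w : W} (h : b ⤳ w) (hb : ∀ c : W, c ⤳ b → c = b) : b = top w :=
  (hb _ (top_specializes_of_specializes h)).symm

theorem top_isMax (w : W) {c : W} (h : c ⤳ top w) : c = top w :=
  (h.antisymm (top_specializes_of_specializes (h.trans (top_specializes w)))).eq

theorem finite_range_top [IsNoetherian W] : (Set.range (top (W := W))).Finite := by
  refine Set.Finite.of_finite_image (f := fun t => closure {t})
    (TopologicalSpace.NoetherianSpace.finite_irreducibleComponents.subset ?_)
    fun a _ b _ hab => (specializes_iff_mem_closure.mpr ((show closure {a} = closure {b} from hab) ▸ subset_closure rfl : b ∈ closure {a})).antisymm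
      (specializes_iff_mem_closure.mpr ((show closure {b} = closure {a} from hab.symm) ▸ subset_closure rfl : a ∈ closure {b})) |>.eq
  rintro _ ⟨_, ⟨w, rfl⟩, rfl⟩
  refine ⟨isIrreducible_singleton.closure, fun S hS hle => ?_⟩
  have hgp := hS.isGenericPoint_genericPoint_closure
  have h1 : hS.genericPoint ⤳ top w := hgp.specializes (subset_closure (hle (subset_closure rfl)))
  intro z hz
  rw [← top_isMax w h1]
  exact specializes_iff_mem_closure.mp (hgp.specializes (subset_closure hz))

/-- A clopen subset of an open containing the maximal points is the trace of a clopen subset. -/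
theorem exists_isClopen [IsNoetherian W] {V C : Set W} (hV : IsOpen V) (hmax : ∀ w, top w ∈ V)
    (hC : IsOpen C) (hC' : IsOpen (V \ C)) (hCV : C ⊆ V) :
    ∃ D : Set W, IsClopen D ∧ D ∩ V = C := by
  let D : Set W := {w | top w ∈ C}
  have key : ∀ P : Set W, IsClosed {w | top w ∈ P} := fun P => by
    have : {w | top w ∈ P} = ⋃ t ∈ Set.range (top (W := W)) ∩ P, closure {t} := by
      ext w
      simp only [Set.mem_setOf_eq, Set.mem_iUnion, exists_prop]
      refine ⟨fun h => ⟨top w, ⟨⟨w, rfl⟩, h⟩, specializes_iff_mem_closure.mp (top_specializes w)⟩, ?_⟩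
      rintro ⟨t, ⟨⟨v, rfl⟩, ht⟩, hw⟩
      rwa [← eq_top (specializes_iff_mem_closure.mpr hw) fun c => top_isMax v]
    rw [this]
    exact (finite_range_top.subset Set.inter_subset_left).isClosed_biUnion fun _ _ => isClosed_closure
  refine ⟨D, ⟨key C, ?_⟩, ?_⟩
  · rw [← isClosed_compl_iff, show Dᶜ = {w | top w ∈ Cᶜ} from rfl]
    exact key _
  · ext w
    refine ⟨fun ⟨hD, hwV⟩ => ?_, fun hw => ⟨(top_specializes w).mem_open hC hw, hCV hw⟩⟩
    by_contra hw
    exact ((top_specializes w).mem_open hC' ⟨hwV, hw⟩).2 hD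

end Maximal

theorem isDomain_of_etale {X W : Scheme.{u}} (p : W ⟶ X) [Etale p]
    (hX : ∀ x : X, IsDomain (X.presheaf.stalk x) ∧ IsIntegrallyClosed (X.presheaf.stalk x)) (w : W) :
    IsDomain (W.presheaf.stalk w) := by
  obtain ⟨_, ⟨U, hU, rfl⟩, hwU, -⟩ :=
    X.isBasis_affineOpens.exists_subset_of_mem_open (Set.mem_univ (p.base w)) isOpen_univ
  obtain ⟨_, ⟨V, hV, rfl⟩, hwV, hVU⟩ :=
    W.isBasis_affineOpens.exists_subset_of_mem_open (show w ∈ p ⁻¹ᵁ U from hwU) (p ⁻¹ᵁ U).isOpen
  algebraize [(p.appLE U V hVU).hom]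
  have : Algebra.Etale Γ(X, U) Γ(W, V) := p.etale_appLE hU hV hVU
  let p₀ := hU.primeIdealOf ⟨p.base w, hwU⟩
  let q₀ := hV.primeIdealOf ⟨w, hwV⟩
  have hqp : q₀.asIdeal.comap (algebraMap Γ(X, U) Γ(W, V)) = p₀.asIdeal :=
    congr($(IsAffineOpen.comap_primeIdealOf_appLE U hU V hV hVU hwV).1)
  let := X.presheaf.algebra_section_stalk (⟨p.base w, hwU⟩ : U)
  let := W.presheaf.algebra_section_stalk (⟨w, hwV⟩ : V)
  have := hU.isLocalization_stalk ⟨p.base w, hwU⟩
  have := hV.isLocalization_stalk ⟨w, hwV⟩
  obtain ⟨hd, hn⟩ := hX (p.base w)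
  let R := X.presheaf.stalk (p.base w)
  let B := R ⊗[Γ(X, U)] Γ(W, V)
  let : Algebra Γ(W, V) B := Algebra.TensorProduct.rightAlgebra
  let L := W.presheaf.stalk w
  have hunit : ∀ y : Algebra.algebraMapSubmonoid Γ(W, V) p₀.asIdeal.primeCompl,
      IsUnit (algebraMap Γ(W, V) L y.1) := by
    rintro ⟨_, a, ha, rfl⟩
    exact IsLocalization.map_units L (⟨_, fun h => ha (hqp ▸ h)⟩ : q₀.asIdeal.primeCompl)
  let : Algebra B L := (IsLocalization.lift hunit : B →+* L).toAlgebra
  have : IsScalarTower Γ(W, V) B L :=
    IsScalarTower.of_algebraMap_eq fun x => (IsLocalization.lift_eq hunit x).symm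
  let : Algebra R L := ((algebraMap B L).comp (algebraMap R B)).toAlgebra
  have : IsScalarTower R B L := .of_algebraMap_eq' rfl
  have hM : Algebra.algebraMapSubmonoid Γ(W, V) p₀.asIdeal.primeCompl ≤ q₀.asIdeal.primeCompl := by
    rintro _ ⟨a, ha, rfl⟩
    exact fun h => ha (hqp ▸ h)
  let N : Submonoid B := q₀.asIdeal.primeCompl.map (algebraMap Γ(W, V) B)
  have : IsLocalization N L := IsLocalization.isLocalization_of_submonoid_le B L _ _ hM
  have : Module.Flat B L := IsLocalization.flat L N
  have : Module.Flat R L := Module.Flat.trans R B L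
  have : Algebra.FormallyEtale B L := Algebra.FormallyEtale.of_isLocalization N
  have : Algebra.FormallyEtale R L := Algebra.FormallyEtale.comp R B L
  have : Algebra.EssFiniteType B L := Algebra.EssFiniteType.of_isLocalization L N
  have : Algebra.EssFiniteType R L := Algebra.EssFiniteType.comp R B L
  exact (FEt.NormalAlg.isDomain_and_isIntegrallyClosed R L (TensorProduct.toIntegralClosure_bijective_of_tower
    (S := B) TensorProduct.toIntegralClosure_bijective_of_smooth
    (TensorProduct.toIntegralClosure_bijective_of_isLocalization N))).1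

/-- Restriction to an open containing the maximal points of a normal Noetherian scheme is fully
faithful on finite étale covers. -/
theorem full_and_faithful {X : Scheme.{u}} [IsNoetherian X]
    (hX : ∀ x : X, IsDomain (X.presheaf.stalk x) ∧ IsIntegrallyClosed (X.presheaf.stalk x))
    (U : X.Opens) (hU : ∀ x : X, (∀ c : X, c ⤳ x → c = x) → x ∈ U) :
    (FEt.restrict U.ι).Full ∧ (FEt.restrict U.ι).Faithful := by
  have : ∀ x : X, IsDomain (X.presheaf.stalk x) := fun x => (hX x).1
  refine FEt.FullyFaithful.full_and_faithful U.ι (fun s hs hne => ?_) fun W C hC => ?_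
  · obtain ⟨x, hx⟩ := hne
    exact ⟨top x, (top_specializes x).mem_open hs.isOpen hx, by
      rw [Scheme.Opens.range_ι]; exact hU _ fun c => top_isMax x⟩
  let π : W.left ⟶ X := W.hom
  have : Etale π := W.prop.2
  have : IsFinite π := W.prop.1
  have : IsLocallyNoetherian W.left := LocallyOfFiniteType.isLocallyNoetherian π
  have : CompactSpace W.left := QuasiCompact.compactSpace_of_compactSpace π
  have : IsNoetherian W.left := { }
  have : ∀ w : W.left, IsDomain (W.left.presheaf.stalk w) := isDomain_of_etale π hX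
  let q := pullback.fst W.hom U.ι
  have hq : Topology.IsOpenEmbedding q.base := q.isOpenEmbedding
  have hrange : Set.range q.base = π.base ⁻¹' (U : Set X) := by
    rw [Scheme.Pullback.range_fst, Scheme.Opens.range_ι]
  obtain ⟨D, hD, hDC⟩ := exists_isClopen (W := W.left) (V := Set.range q.base) hq.isOpen_range
    (fun w => by
      rw [hrange]
      refine hU _ fun c hc => ?_
      obtain ⟨a, ha, rfl⟩ := Flat.generalizingMap π hc
      rw [top_isMax w ha])
    (C := q.base '' C) (hq.isOpenMap _ hC.isOpen)
    (by rw [← Set.image_compl_eq_range_sdiff_image hq.injective]; exact hq.isOpenMap _ hC.compl.isOpen)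
    (Set.image_subset_range _ _)
  refine ⟨D, hD, ?_⟩
  rw [← Set.preimage_inter_range, hDC, hq.injective.preimage_image]

end Groth.Agent.Lib.Purity.Restrict
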