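import Groth.Agent.Lib.Purity.Galois
import Groth.Agent.Lib.Regular.UFD
import Mathlib.FieldTheory.IsAlgClosed.AlgebraicClosure
import Mathlib.FieldTheory.Normal.Closure
import Mathlib.FieldTheory.Galois.Basic
import Mathlib.FieldTheory.SeparableClosure
import Mathlib.RingTheory.Kaehler.Basic
import Mathlib.RingTheory.Unramified.Field
import Mathlib.RingTheory.EssentialFiniteness
import Mathlib.RingTheory.DedekindDomain.IntegralClosure
import Mathlib.RingTheory.LocalRing.Module
import Mathlib.LinearAlgebra.Matrix.Charpoly.LinearMap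

/-!
# Normal algebras unramified in codimension one are free
-/

set_option autoImplicit false

universe u

open TensorProduct

namespace Groth.Agent.Lib.Purity.Unramified

variable {A B : Type u} [CommRing A] [CommRing B] [Algebra A B]

/-- A separability element from an annihilator of the differentials. -/
theorem exists_separability_element [IsNoetherianRing A] [Module.Finite A B] (s : A)
    (hs : ∀ ω : Ω[B⁄A], s • ω = 0) :
    ∃ (N : ℕ) (e : B ⊗[A] B), Algebra.TensorProduct.lmul' A e = algebraMap A B s ^ N ∧
      ∀ b : B, (b ⊗ₜ[A] (1 : B) - (1 : B) ⊗ₜ[A] b) * e = 0 := by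
  classical
  let T := B ⊗[A] B
  haveI : IsNoetherianRing B := IsNoetherianRing.of_finite A B
  haveI : IsNoetherianRing T := IsNoetherianRing.of_finite A T
  let I : Ideal T := KaehlerDifferential.ideal A B
  haveI : Module.Finite T I := Module.Finite.iff_fg.mpr (IsNoetherian.noetherian I)
  let σ : T := algebraMap A T s
  let f : Module.End T I := σ • LinearMap.id
  have hf : LinearMap.range f ≤ I • ⊤ := by
    rintro _ ⟨z, rfl⟩
    rw [Submodule.mem_smul_top_iff, smul_eq_mul, ← pow_two]
    have h1 : Ideal.toCotangent I (σ • z) = 0 := by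
      rw [map_smul]
      change algebraMap A T s • (Ideal.toCotangent I z) = 0
      rw [algebraMap_smul]
      exact hs _
    exact (Ideal.toCotangent_eq_zero _ _).mp h1
  obtain ⟨P, hmon, -, hcoeff, hP⟩ :=
    LinearMap.exists_monic_and_natDegree_eq_and_coeff_mem_pow_and_aeval_eq_zero T f I hf
  refine ⟨P.natDegree, P.eval σ, ?_, fun b => ?_⟩
  · have hmem : ∀ i < P.natDegree, Algebra.TensorProduct.lmul' A (P.coeff i) = 0 := fun i hi =>
      (RingHom.mem_ker).mp (Ideal.pow_le_self (by omega) (hcoeff i))
    rw [Polynomial.eval_eq_sum_range, Finset.sum_range_succ, map_add, map_sum,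
      Finset.sum_eq_zero fun i hi => by rw [map_mul, hmem i (Finset.mem_range.mp hi), zero_mul],
      zero_add, hmon.coeff_natDegree, one_mul, map_pow]
    congr 1
    exact AlgHom.commutes _ s
  · have hz : b ⊗ₜ[A] (1 : B) - (1 : B) ⊗ₜ[A] b ∈ I := by
      rw [← neg_sub]
      exact I.neg_mem (KaehlerDifferential.one_smul_sub_smul_one_mem_ideal A b)
    have haev : Polynomial.aeval f P = P.eval σ • LinearMap.id := by
      have : f = algebraMap T (Module.End T I) σ := rfl
      rw [this, Polynomial.aeval_algebraMap_apply_eq_algebraMap_eval]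
      rfl
    have h1 := LinearMap.congr_fun (haev.symm.trans hP) ⟨_, hz⟩
    rw [mul_comm]
    exact congrArg Subtype.val h1

variable [IsRegularLocalRing A] [IsDomain B] [IsIntegrallyClosed B] [Module.Finite A B]

/-- A normal algebra whose differentials vanish in codimension one is free. -/
theorem free_of_unramified (hinj : Function.Injective (algebraMap A B))
    (h : ∀ p : Ideal A, p.IsPrime → p.IsPrincipal → ∃ s : A, s ∉ p ∧ ∀ ω : Ω[B⁄A], s • ω = 0) :
    Module.Free A B := by
  classical
  haveI := Groth.Agent.Lib.Regular.Quotient.isDomain A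
  haveI := Groth.Agent.Lib.Regular.UFD.uniqueFactorizationMonoid A
  haveI := Groth.Agent.Lib.Regular.UFD.isIntegrallyClosed A
  haveI : FaithfulSMul A B := (faithfulSMul_iff_algebraMap_injective A B).mpr hinj
  haveI : Algebra.IsIntegral A B := Algebra.IsIntegral.of_finite A B
  let K := FractionRing A
  let F := FractionRing B
  letI : Algebra K F := FractionRing.liftAlgebra A F
  haveI : Module.Finite K F := Module.Finite.of_isLocalization A B (nonZeroDivisors A)
  haveI : Algebra.IsAlgebraic K F := Algebra.IsAlgebraic.of_finite K F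
  -- the fraction fields form a separable extension
  haveI : Algebra.IsSeparable K F := by
    obtain ⟨s, hs, hsω⟩ := h ⊥ Ideal.isPrime_bot ⟨⟨0, by simp⟩⟩
    have hs0 : s ≠ 0 := fun e => hs (e ▸ zero_mem _)
    have hsF : algebraMap A F s ≠ 0 := by
      rw [IsScalarTower.algebraMap_apply A B F]
      exact (map_ne_zero_iff _ (IsFractionRing.injective B F)).mpr ((map_ne_zero_iff _ hinj).mpr hs0)
    have hb : ∀ b : B, KaehlerDifferential.D A F (algebraMap B F b) = 0 := fun b => by
      have h1 := congrArg (KaehlerDifferential.map A A B F) (hsω (KaehlerDifferential.D A B b))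
      rw [LinearMap.map_smul_of_tower, map_zero, KaehlerDifferential.map_D, ← algebraMap_smul F] at h1
      exact (smul_eq_zero.mp h1).resolve_left hsF
    haveI : Algebra.FormallyUnramified A F := by
      rw [Algebra.formallyUnramified_iff, ← Submodule.subsingleton_iff F, ← subsingleton_iff_bot_eq_top,
        eq_comm, eq_bot_iff, ← KaehlerDifferential.span_range_derivation A F, Submodule.span_le]
      rintro _ ⟨z, rfl⟩
      obtain ⟨a, d, hd, rfl⟩ := IsFractionRing.div_surjective B z
      have hd' : algebraMap B F d ≠ 0 :=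
        (map_ne_zero_iff _ (IsFractionRing.injective B F)).mpr (nonZeroDivisors.ne_zero hd)
      have h2 := (KaehlerDifferential.D A F).leibniz (algebraMap B F a / algebraMap B F d) (algebraMap B F d)
      rw [div_mul_cancel₀ _ hd', hb, hb, smul_zero, zero_add] at h2
      exact (smul_eq_zero.mp h2.symm).resolve_left hd'
    haveI : Algebra.FormallyUnramified K F := Algebra.FormallyUnramified.of_restrictScalars A K F
    exact Algebra.FormallyUnramified.isSeparable K F
  -- the Galois closure
  let Ω' := AlgebraicClosure F
  haveI : Algebra.IsAlgebraic K Ω' := Algebra.IsAlgebraic.trans K F Ω'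
  haveI : IsAlgClosure K Ω' := IsAlgClosure.mk inferInstance inferInstance
  haveI : Normal K Ω' := IsAlgClosure.normal K Ω'
  let L := IntermediateField.normalClosure K F Ω'
  haveI : Algebra.IsSeparable K L := by
    rw [← le_separableClosure_iff]
    refine iSup_le fun σ => ?_
    rw [le_separableClosure_iff]
    exact Algebra.IsSeparable.of_algHom K F
      ((AlgEquiv.ofInjectiveField σ).symm.toAlgHom)
  haveI : IsGalois K L := ⟨⟩
  letI : Algebra A L := ((algebraMap K L).comp (algebraMap A K)).toAlgebra
  haveI : IsScalarTower A K L := IsScalarTower.of_algebraMap_eq fun _ => rfl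
  let G := L ≃ₐ[K] L
  haveI : SMulCommClass G A L := ⟨fun g a z => by
    rw [← IsScalarTower.algebraMap_smul K a z, ← IsScalarTower.algebraMap_smul K a (g • z)]
    exact smul_comm g (algebraMap A K a) z⟩
  let C := integralClosure A L
  haveI : IsIntegralClosure C A L := integralClosure.isIntegralClosure A L
  haveI : Module.Finite A C := IsIntegralClosure.finite A K L C
  haveI : IsIntegrallyClosed C := integralClosure.isIntegrallyClosedOfFiniteExtension K
  haveI : IsFractionRing C L := integralClosure.isFractionRing_of_finite_extension K L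
  haveI : Fintype G := Fintype.ofFinite G
  have hAC : Function.Injective (algebraMap A C) := fun a b hab =>
    IsFractionRing.injective A K ((algebraMap K L).injective (congrArg Subtype.val hab))
  have hfix : ∀ c : C, (∀ g : G, g • c = c) → c ∈ Set.range (algebraMap A C) := by
    intro c hc
    obtain ⟨z, hz⟩ := (IsGalois.mem_range_algebraMap_iff_fixed (F := K) (E := L) (c : L)).mpr
      fun g => congrArg Subtype.val (hc g)
    have hzi : IsIntegral A z :=
      (isIntegral_algebraMap_iff (algebraMap K L).injective).mp (hz.symm ▸ c.2)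
    obtain ⟨a, ha⟩ := IsIntegrallyClosed.isIntegral_iff.mp hzi
    exact ⟨a, Subtype.ext (by rw [← hz, ← ha]; rfl)⟩
  -- the embeddings of `B`
  have hsub : ∀ (σ : F →ₐ[K] Ω') (z : F), σ z ∈ L := fun σ z => σ.fieldRange_le_normalClosure ⟨z, rfl⟩
  have hCint : ∀ (σ : F →ₐ[K] Ω') (b : B), IsIntegral A (⟨σ (algebraMap B F b), hsub σ _⟩ : L) := by
    intro σ b
    refine (isIntegral_algHom_iff ((L.val).restrictScalars A) Subtype.val_injective).mp ?_
    exact (Algebra.IsIntegral.isIntegral (R := A) b).map ((σ.restrictScalars A).comp (IsScalarTower.toAlgHom A B F))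
  let φ : (F →ₐ[K] Ω') → (B →ₐ[A] C) := fun σ =>
    { toFun := fun b => ⟨⟨σ (algebraMap B F b), hsub σ _⟩, hCint σ b⟩
      map_one' := Subtype.ext (Subtype.ext (by simp))
      map_mul' := fun a b => Subtype.ext (Subtype.ext (by simp))
      map_zero' := Subtype.ext (Subtype.ext (by simp))
      map_add' := fun a b => Subtype.ext (Subtype.ext (by simp))
      commutes' := fun a => Subtype.ext (Subtype.ext (by
        change σ (algebraMap B F (algebraMap A B a)) = _
        rw [← IsScalarTower.algebraMap_apply, IsScalarTower.algebraMap_apply A K F, σ.commutes]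
        rfl)) }
  have hGal : Galois.IsGaloisCodimOne A C G := by
    intro p hp hpr
    haveI := hp
    haveI : Algebra.IsIntegral A C := Algebra.IsIntegral.of_finite A C
    refine Galois.exists_notMem_rep p fun Q hQ hQp => ?_
    haveI := hQ
    rw [Subgroup.eq_bot_iff_forall]
    intro g hg
    obtain ⟨s, hs, hsω⟩ := h p hp hpr
    obtain ⟨N, e, he1, he2⟩ := exists_separability_element s hsω
    have key : ∀ σ b, g • φ σ b = φ σ b := by
      intro σ b
      let ψ : B →ₐ[A] C := (MulSemiringAction.toAlgHom A C g).comp (φ σ)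
      let Φ : B ⊗[A] B →ₐ[A] C := Algebra.TensorProduct.productMap ψ (φ σ)
      have heq : (Ideal.Quotient.mkₐ A Q).comp Φ =
          (Ideal.Quotient.mkₐ A Q).comp ((φ σ).comp (Algebra.TensorProduct.lmul' A)) := by
        refine Algebra.TensorProduct.ext' fun x y => ?_
        change Ideal.Quotient.mk Q (Φ (x ⊗ₜ y)) = Ideal.Quotient.mk Q (φ σ (Algebra.TensorProduct.lmul' A (x ⊗ₜ y)))
        simp only [Φ, Algebra.TensorProduct.productMap_apply_tmul, Algebra.TensorProduct.lmul'_apply_tmul,
          map_mul]
        congr 1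
        exact Ideal.Quotient.eq.mpr (hg (φ σ x))
      have he : Φ e ≠ 0 := by
        intro h0
        have h1 := AlgHom.congr_fun heq e
        simp only [AlgHom.comp_apply, h0, map_zero, he1, map_pow, AlgHom.commutes] at h1
        have h2 : Ideal.Quotient.mk Q (algebraMap A C s) ^ N = 0 := by
          rw [Ideal.Quotient.mk_algebraMap]
          exact h1.symm
        rw [← map_pow, Ideal.Quotient.eq_zero_iff_mem] at h2
        exact hs (hQp ▸ Ideal.mem_comap.mpr (hQ.mem_of_pow_mem N h2))
      have h3 := congrArg Φ (he2 b)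
      rw [map_mul, map_zero, map_sub, Algebra.TensorProduct.productMap_apply_tmul,
        Algebra.TensorProduct.productMap_apply_tmul, map_one, map_one, mul_one, one_mul] at h3
      exact sub_eq_zero.mp ((mul_eq_zero.mp h3).resolve_right he)
    let Fg : IntermediateField K L := IntermediateField.fixedField (Subgroup.zpowers g)
    have hfixed : ∀ z : L, g z = z → z ∈ Fg := fun z hz => by
      intro ⟨f, n, hn⟩
      subst hn
      have : g ∈ MulAction.stabilizer G z := hz
      exact (MulAction.stabilizer G z).zpow_mem this n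
    have hle : L ≤ Fg.map L.val := by
      refine iSup_le fun σ => ?_
      rintro _ ⟨z, rfl⟩
      obtain ⟨a, d, hd, rfl⟩ := IsFractionRing.div_surjective B z
      refine ⟨⟨σ (algebraMap B F a / algebraMap B F d), hsub σ _⟩, ?_, rfl⟩
      refine hfixed _ ?_
      have ha : g (φ σ a : L) = φ σ a := congrArg Subtype.val (key σ a)
      have hd : g (φ σ d : L) = φ σ d := congrArg Subtype.val (key σ d)
      rw [show (⟨σ (algebraMap B F a / algebraMap B F d), hsub σ _⟩ : L) = (φ σ a : L) / (φ σ d : L) from
        Subtype.ext (map_div₀ σ _ _), map_div₀, ha, hd]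
    refine AlgEquiv.ext fun z => ?_
    obtain ⟨w, hw, hwz⟩ := hle z.2
    have : w = z := Subtype.ext hwz
    subst this
    exact hw ⟨g, Subgroup.mem_zpowers g⟩
  obtain ⟨ι, _, x, y, -, hrep⟩ := Galois.rep_one hAC hfix hGal
  haveI := Galois.free hAC hfix hGal
  -- the retraction
  let σ₀ : F →ₐ[K] Ω' := IsScalarTower.toAlgHom K F Ω'
  let j : B →ₐ[A] C := φ σ₀
  have hj : Function.Injective j := fun a b hab =>
    IsFractionRing.injective B F ((σ₀ : F →+* Ω').injective (congrArg (fun c : C => ((c : L) : Ω')) hab))
  letI : Algebra B C := j.toRingHom.toAlgebra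
  haveI : IsScalarTower A B C := IsScalarTower.of_algebraMap_eq fun a => (j.commutes a).symm
  let σL : F →ₐ[K] L := σ₀.codRestrict L.toSubalgebra (hsub σ₀)
  let H : Subgroup G := IntermediateField.fixingSubgroup σL.fieldRange
  haveI : Fintype H := Fintype.ofFinite H
  have hHj : ∀ (h : H) (b : B), (h : G) • j b = j b := fun h b =>
    Subtype.ext (h.2 ⟨(j b : L), algebraMap B F b, rfl⟩)
  have htr : ∀ c : C, ∃ b : B, j b = ∑ h : H, (h : G) • c := by
    intro c
    have hinv : ((∑ h : H, (h : G) • c : C) : L) ∈ IntermediateField.fixedField H := fun h' => by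
      change (h' : G) • ((∑ h : H, (h : G) • c : C) : L) = _
      rw [← integralClosure.coe_smul, Finset.smul_sum]
      congr 1
      exact Fintype.sum_equiv (Equiv.mulLeft h') _ _ fun h => smul_smul (h' : G) (h : G) c
    rw [IsGalois.fixedField_fixingSubgroup] at hinv
    obtain ⟨z, hz⟩ := hinv
    have hzi : IsIntegral A z := by
      refine (isIntegral_algHom_iff (σL.restrictScalars A) σL.injective).mp ?_
      change IsIntegral A (σL z)
      rw [show σL z = _ from hz]
      exact (∑ h : H, (h : G) • c : C).2
    obtain ⟨b, hb⟩ := IsIntegrallyClosed.isIntegral_iff.mp (hzi.tower_top (A := B))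
    refine ⟨b, Subtype.ext ?_⟩
    rw [← show σL z = _ from hz, ← hb]
    rfl
  choose t ht using htr
  let tl : C →ₗ[B] B :=
    { toFun := t
      map_add' := fun c d => hj (by rw [map_add, ht, ht, ht, ← Finset.sum_add_distrib]; exact Finset.sum_congr rfl fun h _ => smul_add _ _ _)
      map_smul' := fun b c => hj (by
        rw [RingHom.id_apply, smul_eq_mul, map_mul, ht, ht, Finset.mul_sum]
        refine Finset.sum_congr rfl fun h _ => ?_
        rw [show b • c = j b * c from rfl, smul_mul', hHj]) }
  obtain ⟨c0, hc0⟩ : ∃ c0, tl c0 = 1 := by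
    by_contra hne
    push Not at hne
    have hJ : LinearMap.range tl ≠ ⊤ := fun e => by
      obtain ⟨c, hc⟩ := (e ▸ Submodule.mem_top : (1 : B) ∈ LinearMap.range tl)
      exact hne c hc
    obtain ⟨m, hm, hle⟩ := Ideal.exists_le_maximal (LinearMap.range tl) hJ
    haveI := hm
    haveI : Algebra.IsIntegral A C := Algebra.IsIntegral.of_finite A C
    haveI : Algebra.IsIntegral B C := Algebra.IsIntegral.tower_top A
    obtain ⟨Q, -, hQ, hQm⟩ := Ideal.exists_ideal_over_prime_of_isIntegral m (⊥ : Ideal C) (by
      rw [Ideal.comap_bot_of_injective (algebraMap B C) hj]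
      exact bot_le)
    have h1 : ∑ i, x i * j (t (y i)) = 1 := by
      simp only [ht, Finset.mul_sum]
      rw [Finset.sum_comm]
      simp only [hrep, Galois.delta]
      refine (Finset.sum_eq_single (1 : H) (fun h _ hh => if_neg fun e => hh (Subtype.ext e))
        (fun e => absurd (Finset.mem_univ _) e)).trans ?_
      exact if_pos rfl
    refine hQ.ne_top ((Ideal.eq_top_iff_one Q).mpr (h1 ▸ Ideal.sum_mem _ fun i _ => Ideal.mul_mem_left _ _ ?_))
    have : t (y i) ∈ m := hle ⟨y i, rfl⟩
    rw [← hQm] at this
    exact this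
  haveI : Module.Projective A B := by
    refine Module.Projective.of_split (M := C) j.toLinearMap
      ((tl.restrictScalars A) ∘ₗ LinearMap.mulLeft A c0) (LinearMap.ext fun b => ?_)
    change tl (c0 * j b) = b
    rw [mul_comm, show j b * c0 = b • c0 from rfl, map_smul, hc0, smul_eq_mul, mul_one]
  exact Module.free_of_flat_of_isLocalRing

end Groth.Agent.Lib.Purity.Unramified
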